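import Cfsg.Agent.GeoClifford.FixSpace
import Cfsg.Agent.Geo.Basic

/-!
Aschbacher structure theorem: commutants, irreducibility and reducible/imprimitive reductions.
-/
set_option autoImplicit false

namespace CfsgLib.Aschbacher

open Matrix Cfsg.Geo CfsgLib.GeoClifford
open scoped MatrixGroups

variable {ι : Type} [Fintype ι] [DecidableEq ι] {F : Type*} [Field F]

lemma coe_mem_matrixSet {G : Subgroup (GL ι F)} {g : GL ι F} (hg : g ∈ G) :
    (g : Matrix ι ι F) ∈ matrixSet G := ⟨g, hg, rfl⟩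

lemma forall_matrixSet {G : Subgroup (GL ι F)} {p : Matrix ι ι F → Prop} :
    (∀ s ∈ matrixSet G, p s) ↔ ∀ g ∈ G, p (g : Matrix ι ι F) :=
  ⟨fun h _ hg => h _ (coe_mem_matrixSet hg), by rintro h _ ⟨g, hg, rfl⟩; exact h g hg⟩

/-- The matrices commuting with every member of `G`. -/
def commutant (G : Subgroup (GL ι F)) : Subalgebra F (Matrix ι ι F) :=
  Subalgebra.centralizer F (matrixSet G)

lemma mem_commutant {G : Subgroup (GL ι F)} {x : Matrix ι ι F} :
    x ∈ commutant G ↔ ∀ g ∈ G, (g : Matrix ι ι F) * x = x * g := by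
  rw [commutant, Subalgebra.mem_centralizer_iff]
  exact forall_matrixSet

lemma commutant_conjStable {G N : Subgroup (GL ι F)} (hN : NormSub G N) :
    ConjStable G (commutant N) := by
  intro g hg x hx
  rw [mem_commutant] at hx ⊢
  intro n hn
  have h := hx (g⁻¹ * n * g) (by simpa using hN.2 g⁻¹ (G.inv_mem hg) n hn)
  have h' := congrArg (fun y => (g : Matrix ι ι F) * y * ((g⁻¹ : GL ι F) : Matrix ι ι F)) h
  simpa [Units.val_mul, mul_assoc] using h'

lemma isUnit_of_mem_commutant {G : Subgroup (GL ι F)} (hirr : ActsIrreducibly (matrixSet G))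
    {x : Matrix ι ι F} (hx : x ∈ commutant G) (hx0 : x ≠ 0) : IsUnit x := by
  rw [← Matrix.mulVec_injective_iff_isUnit]
  rw [mem_commutant] at hx
  by_contra hni
  have hker : LinearMap.ker (Matrix.toLin' x) ≠ ⊥ := by
    rw [Ne, LinearMap.ker_eq_bot]
    intro hi
    exact hni fun v w h => hi (by simpa using h)
  have htop := eq_top_of_invariant hirr _ hker (fun g hg v hv => by
    rw [LinearMap.mem_ker, Matrix.toLin'_apply] at hv ⊢
    rw [mulVec_mulVec, ← hx g hg, ← mulVec_mulVec, hv, mulVec_zero])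
  rw [LinearMap.ker_eq_top] at htop
  exact hx0 ((Matrix.toLin').map_eq_zero_iff.mp htop)

/-- A subalgebra of matrices is scalar. -/
lemma eq_bot_iff_scalar {K : Subalgebra F (Matrix ι ι F)} :
    K = ⊥ ↔ ∀ x ∈ K, ∃ c : F, x = c • (1 : Matrix ι ι F) := by
  rw [eq_bot_iff]
  refine ⟨fun h x hx => ?_, fun h x hx => ?_⟩
  · obtain ⟨c, hc⟩ := Algebra.mem_bot.mp (h hx)
    exact ⟨c, by rw [← hc, Algebra.algebraMap_eq_smul_one]⟩
  · obtain ⟨c, rfl⟩ := h x hx
    exact Algebra.mem_bot.mpr ⟨c, Algebra.algebraMap_eq_smul_one c⟩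

lemma absIrred_iff {G : Subgroup (GL ι F)} :
    ActsAbsolutelyIrreducibly (matrixSet G) ↔ ActsIrreducibly (matrixSet G) ∧ commutant G = ⊥ := by
  rw [eq_bot_iff_scalar]
  refine and_congr_right fun _ => ⟨fun h x hx => h x fun s hs => ?_, fun h M hM => h M ?_⟩
  · obtain ⟨g, hg, rfl⟩ := hs
    exact (mem_commutant.mp hx g hg).symm
  · exact mem_commutant.mpr fun g hg => (hM _ (coe_mem_matrixSet hg)).symm

variable [Fintype F]

lemma commutant_comm {G : Subgroup (GL ι F)} (hirr : ActsIrreducibly (matrixSet G)) [Nonempty ι] :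
    ∀ x ∈ commutant G, ∀ y ∈ commutant G, x * y = y * x := by
  have : NoZeroDivisors (commutant G) := ⟨fun {a b} h => by
    by_cases ha : a = 0
    · exact Or.inl ha
    · right
      have hu := isUnit_of_mem_commutant hirr a.2 (fun h0 => ha (Subtype.ext h0))
      exact Subtype.ext (hu.mul_right_eq_zero.mp (congrArg Subtype.val h))⟩
  have : Nontrivial (commutant G) := ⟨⟨0, 1, fun h => by
    have h' := congrArg Subtype.val h
    simp at h'⟩⟩
  have : IsDomain (commutant G) := NoZeroDivisors.to_isDomain _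
  have hf := Finite.isDomain_to_isField (commutant G)
  exact fun x hx y hy => congrArg Subtype.val (hf.mul_comm ⟨x, hx⟩ ⟨y, hy⟩)

lemma isFieldSubalgebra_commutant {G : Subgroup (GL ι F)} (hirr : ActsIrreducibly (matrixSet G))
    [Nonempty ι] {r : ℕ} (hr : Module.finrank F (commutant G) = r) :
    IsFieldSubalgebra r (commutant G) := by
  refine ⟨commutant_comm hirr, fun x hx hx0 => ?_, hr⟩
  obtain ⟨u, rfl⟩ := isUnit_of_mem_commutant hirr hx hx0
  refine ⟨((u⁻¹ : GL ι F) : Matrix ι ι F), mem_commutant.mpr fun g hg => ?_, by simp⟩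
  have h := congrArg (fun y => ((u⁻¹ : GL ι F) : Matrix ι ι F) * y * ((u⁻¹ : GL ι F) : Matrix ι ι F))
    (mem_commutant.mp hx g hg)
  simpa [mul_assoc] using h.symm

omit [Fintype F] in
lemma le_subalgebraNormalizer {G : Subgroup (GL ι F)} {K : Subalgebra F (Matrix ι ι F)}
    (h : ConjStable G K) : G ≤ subalgebraNormalizer K := by
  intro g hg k
  refine ⟨fun hk => h g hg k hk, fun hk => ?_⟩
  have := h g⁻¹ (G.inv_mem hg) _ hk
  simpa [mul_assoc] using this

omit [Fintype F] in
/-- The degree of a field subalgebra divides the dimension. -/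
lemma fieldSubalgebra_dvd {r : ℕ} {K : Subalgebra F (Matrix ι ι F)} (hK : IsFieldSubalgebra r K) :
    r ∣ Fintype.card ι := by
  classical
  let P : ℕ → Prop := fun k => ∃ U : Submodule F (ι → F),
    (∀ x ∈ K, ∀ v ∈ U, x *ᵥ v ∈ U) ∧ r ∣ k ∧ Module.finrank F U = k
  obtain ⟨U, hU, hdk, hUk⟩ := Nat.findGreatest_spec (P := P) (Nat.zero_le (Fintype.card ι))
    ⟨⊥, fun x _ v hv => by simp [(Submodule.mem_bot F).mp hv], dvd_zero _, finrank_bot F _⟩
  by_cases hne : U = ⊤
  · rw [hne, finrank_top, Module.finrank_fintype_fun_eq_card] at hUk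
    exact hUk ▸ hdk
  exfalso
  obtain ⟨v, -, hv⟩ := SetLike.exists_of_lt (lt_top_iff_ne_top.mpr hne)
  let ev : K →ₗ[F] (ι → F) :=
    { toFun := fun k => (k : Matrix ι ι F) *ᵥ v
      map_add' := fun a b => by simp [add_mulVec]
      map_smul' := fun c a => by simp [smul_mulVec] }
  have hev : ∀ k : K, ev k ∈ U → k = 0 := by
    intro k hk
    by_contra h0
    obtain ⟨y, hy, hy1⟩ := hK.inv k.1 k.2 (fun h => h0 (Subtype.ext h))
    have h1 := hU y hy _ hk
    rw [show ev k = (k : Matrix ι ι F) *ᵥ v from rfl, mulVec_mulVec, hK.comm y hy k.1 k.2, hy1,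
      one_mulVec] at h1
    exact hv h1
  have hinj : Function.Injective ev := by
    rw [injective_iff_map_eq_zero]
    exact fun k hk => hev k (hk ▸ U.zero_mem)
  have hT : Module.finrank F (LinearMap.range ev) = r := by
    rw [LinearMap.finrank_range_of_inj hinj, ← hK.finrank_eq]
  have hinf : U ⊓ LinearMap.range ev = ⊥ := by
    rw [Submodule.eq_bot_iff]
    rintro _ ⟨hw, k, rfl⟩
    rw [hev k hw, map_zero]
  have hsum := Submodule.finrank_sup_add_finrank_inf_eq U (LinearMap.range ev)
  rw [hinf, finrank_bot, add_zero, hUk, hT] at hsum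
  have hle : Nat.findGreatest P (Fintype.card ι) + r ≤ Fintype.card ι := by
    rw [← hsum, ← Module.finrank_fintype_fun_eq_card F]
    exact Submodule.finrank_le _
  have hk : P (Nat.findGreatest P (Fintype.card ι) + r) := by
    refine ⟨U ⊔ LinearMap.range ev, ?_, dvd_add hdk dvd_rfl, hsum⟩
    intro x hx w hw
    obtain ⟨u, hu, _, ⟨k, rfl⟩, rfl⟩ := Submodule.mem_sup.mp hw
    rw [mulVec_add]
    exact Submodule.add_mem_sup (hU x hx u hu) ⟨⟨x * k, K.mul_mem hx k.2⟩, (mulVec_mulVec _ _ _).symm⟩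
  have := Nat.le_findGreatest hle hk
  have hr : 0 < r := by
    rw [← hT]
    refine Nat.pos_of_ne_zero fun h => ?_
    rw [Submodule.finrank_eq_zero, LinearMap.range_eq_bot] at h
    have h1 : ev 1 = 0 := by rw [h]; rfl
    rw [show ev 1 = (1 : Matrix ι ι F) *ᵥ v from rfl, one_mulVec] at h1
    exact hv (h1 ▸ U.zero_mem)
  omega

omit [Fintype F] in
lemma fieldSubalgebra_eq_bot {K : Subalgebra F (Matrix ι ι F)} [Nonempty ι]
    (h : Module.finrank F K = 1) : K = ⊥ :=
  Subalgebra.eq_bot_of_finrank_one h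

/-- A subgroup with irreducible action: absolutely irreducible, or normalising a field of prime dimension. -/
lemma absIrred_or_field_prime {G N : Subgroup (GL ι F)} (hn : (Fintype.card ι).Prime)
    (hN : NormSub G N) (hirr : ActsIrreducibly (matrixSet N)) :
    ActsAbsolutelyIrreducibly (matrixSet N) ∨
      ∃ K : Subalgebra F (Matrix ι ι F), IsFieldSubalgebra (Fintype.card ι) K ∧
        N ≤ Subgroup.centralizer {g : GL ι F | (g : Matrix ι ι F) ∈ K} ∧ G ≤ subalgebraNormalizer K := by
  have : Nonempty ι := Fintype.card_pos_iff.mp hn.pos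
  have hK := isFieldSubalgebra_commutant hirr rfl
  rcases hn.eq_one_or_self_of_dvd _ (fieldSubalgebra_dvd hK) with h | h
  · exact Or.inl (absIrred_iff.mpr ⟨hirr, fieldSubalgebra_eq_bot h⟩)
  · refine Or.inr ⟨commutant N, ⟨hK.comm, hK.inv, h⟩, ?_, le_subalgebraNormalizer (commutant_conjStable hN)⟩
    intro n hn'
    rw [Subgroup.mem_centralizer_iff]
    intro k hk
    exact Units.ext (mem_commutant.mp hk n hn').symm

omit [Fintype F] in
/-- Reducible groups lie in a subspace stabiliser. -/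
lemma exists_subspace_of_not_irreducible {G : Subgroup (GL ι F)}
    (h : ¬ ActsIrreducibly (matrixSet G)) :
    ∃ W : Submodule F (ι → F), W ≠ ⊥ ∧ W ≠ ⊤ ∧ G ≤ subspaceStabilizer W := by
  unfold ActsIrreducibly at h
  push Not at h
  obtain ⟨W, hW, h0, h1⟩ := h
  refine ⟨W, h0, h1, fun g hg => CfsgLib.Geo.mem_subspaceStabilizer.mpr fun v hv => ?_⟩
  have := hW _ (coe_mem_matrixSet hg) (Submodule.mem_map_of_mem hv)
  simpa using this

omit [Fintype F] in
/-- An imprimitive group in prime dimension lies in the stabiliser of a decomposition into lines. -/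
lemma exists_lines_of_not_primitive {G : Subgroup (GL ι F)} (hn : (Fintype.card ι).Prime)
    (h : ¬ IsPrimitiveLin G) :
    ∃ D : Fin (Fintype.card ι) → Submodule F (ι → F), IsMDecomposition 1 D ∧
      G ≤ decompositionStabilizer D := by
  unfold IsPrimitiveLin at h
  push Not at h
  obtain ⟨m, t, D, ht, hD, hG⟩ := h
  have hsum : m * t = Fintype.card ι := by
    have h1 := (DirectSum.isInternal_submodule_of_iSupIndep_of_iSup_eq_top hD.indep hD.iSup_eq_top)
    have h2 := (LinearEquiv.ofBijective (DirectSum.coeLinearMap D) h1).finrank_eq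
    rw [Module.finrank_directSum, Module.finrank_fintype_fun_eq_card] at h2
    simp only [hD.finrank_eq, Finset.sum_const, Finset.card_univ, Fintype.card_fin, smul_eq_mul] at h2
    rw [mul_comm]; exact h2
  have hm : m = 1 := by
    rcases hn.eq_one_or_self_of_dvd m ⟨t, hsum.symm⟩ with h1 | h1
    · exact h1
    · have : t = 1 := by
        rw [h1] at hsum
        exact Nat.eq_of_mul_eq_mul_left hn.pos (hsum.trans (mul_one _).symm)
      omega
  subst hm
  rw [one_mul] at hsum
  subst hsum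
  exact ⟨D, hD, hG⟩

end CfsgLib.Aschbacher
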