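import Cfsg.Agent.Aschbacher.Basic

/-!
Forms fixed by an absolutely irreducible group are unique up to a scalar; similarity groups are proper.
-/
set_option autoImplicit false

namespace CfsgLib.Aschbacher

open Matrix Cfsg.Geo CfsgLib.GeoClifford
open scoped MatrixGroups

variable {ι : Type} [Fintype ι] [DecidableEq ι] {F : Type*} [Field F]

/-- `f` is linear in the first and `σ`-semilinear in the second argument. -/
structure IsSesq (σ : F ≃+* F) (f : (ι → F) → (ι → F) → F) : Prop where
  add_left : ∀ x y v, f (x + y) v = f x v + f y v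
  smul_left : ∀ (c : F) (x v : ι → F), f (c • x) v = c * f x v
  add_right : ∀ v x y, f v (x + y) = f v x + f v y
  smul_right : ∀ (c : F) (v x : ι → F), f v (c • x) = σ c * f v x

omit [Fintype ι] [DecidableEq ι] in
lemma isSesq_of_bilinear {f : (ι → F) → (ι → F) → F} (hf : IsBilinearForm f) :
    IsSesq (RingEquiv.refl F) f :=
  ⟨hf.add_left, hf.smul_left, hf.add_right, hf.smul_right⟩

omit [Fintype ι] [DecidableEq ι] in
lemma isSesq_of_unitary {σ : F ≃+* F} {f : (ι → F) → (ι → F) → F} (hf : IsUnitaryForm σ f) :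
    IsSesq σ f := by
  refine ⟨hf.add_left, hf.smul_left, fun v x y => ?_, fun c v x => ?_⟩
  · rw [hf.herm, hf.add_left, map_add, ← hf.herm, ← hf.herm]
  · rw [hf.herm, hf.smul_left, map_mul, ← hf.herm]

omit [Fintype ι] [DecidableEq ι] in
lemma IsSesq.zero_right {σ : F ≃+* F} {f : (ι → F) → (ι → F) → F} (hf : IsSesq σ f) (v : ι → F) :
    f v 0 = 0 := by
  simpa using hf.smul_right 0 v 0

omit [Fintype ι] [DecidableEq ι] in
lemma IsSesq.zero_left {σ : F ≃+* F} {f : (ι → F) → (ι → F) → F} (hf : IsSesq σ f) (v : ι → F) :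
    f 0 v = 0 := by
  simpa using hf.smul_left 0 0 v

lemma IsSesq.eq_gram {σ : F ≃+* F} {f : (ι → F) → (ι → F) → F} (hf : IsSesq σ f) (u v : ι → F) :
    f u v = u ⬝ᵥ (gramMatrix f *ᵥ (σ ∘ v)) := by
  have hL : ∀ (s : Finset ι) w, f (∑ a ∈ s, Pi.single a (u a)) w = ∑ a ∈ s, u a * f (Pi.single a 1) w := by
    intro s w
    classical
    induction s using Finset.induction_on with
    | empty => simp [hf.zero_left]
    | insert a s ha ih =>
      rw [Finset.sum_insert ha, Finset.sum_insert ha, hf.add_left, ih, ← hf.smul_left]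
      congr 2
      ext k; by_cases h : k = a <;> simp [Pi.single_apply, h]
  have hR : ∀ (s : Finset ι) w, f w (∑ b ∈ s, Pi.single b (v b)) = ∑ b ∈ s, σ (v b) * f w (Pi.single b 1) := by
    intro s w
    classical
    induction s using Finset.induction_on with
    | empty => simp [hf.zero_right]
    | insert a s ha ih =>
      rw [Finset.sum_insert ha, Finset.sum_insert ha, hf.add_right, ih, ← hf.smul_right]
      congr 2
      ext k; by_cases h : k = a <;> simp [Pi.single_apply, h]
  conv_lhs => rw [← Finset.univ_sum_single u, ← Finset.univ_sum_single v]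
  rw [hL]
  simp only [dotProduct, Matrix.mulVec, gramMatrix, Function.comp]
  refine Finset.sum_congr rfl fun a _ => ?_
  rw [hR]
  congr 1
  exact Finset.sum_congr rfl fun b _ => mul_comm _ _

lemma comp_mulVec (σ : F ≃+* F) (M : Matrix ι ι F) (v : ι → F) :
    σ ∘ (M *ᵥ v) = M.map σ *ᵥ (σ ∘ v) := by
  ext i
  simp [Matrix.mulVec, dotProduct]

lemma fixes_iff {σ : F ≃+* F} {f : (ι → F) → (ι → F) → F} (hf : IsSesq σ f) (M : Matrix ι ι F) :
    (∀ u v, f (M *ᵥ u) (M *ᵥ v) = f u v) ↔ Mᵀ * gramMatrix f * M.map σ = gramMatrix f := by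
  have key : ∀ u v, f (M *ᵥ u) (M *ᵥ v) = u ⬝ᵥ ((Mᵀ * gramMatrix f * M.map σ) *ᵥ (σ ∘ v)) := by
    intro u v
    rw [hf.eq_gram, comp_mulVec, ← mulVec_mulVec, ← mulVec_mulVec, dotProduct_mulVec u Mᵀ, vecMul_transpose]
  refine ⟨fun h => ?_, fun h u v => by rw [key, h, ← hf.eq_gram]⟩
  ext i j
  have h1 := h (Pi.single i 1) (Pi.single j 1)
  rw [key] at h1
  have hs : σ ∘ (Pi.single j 1 : ι → F) = Pi.single j 1 := by
    ext k; by_cases hk : k = j <;> simp [Pi.single_apply, hk]
  rw [hs] at h1
  simpa [gramMatrix, Matrix.mulVec_single] using h1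

lemma gram_isUnit {σ : F ≃+* F} {f : (ι → F) → (ι → F) → F} (hf : IsSesq σ f)
    (hnd : IsNondegenerateForm f) : IsUnit (gramMatrix f) := by
  rw [← Matrix.mulVec_injective_iff_isUnit]
  intro a b hab
  by_contra hne
  have h0 : gramMatrix f *ᵥ (a - b) = 0 := by
    rw [mulVec_sub, show gramMatrix f *ᵥ a = gramMatrix f *ᵥ b from hab, sub_self]
  have hv : (σ.symm ∘ (a - b) : ι → F) ≠ 0 := fun h => hne (sub_eq_zero.mp (by
    ext i
    have := congrArg σ (congrFun h i)
    simpa using this))
  obtain ⟨⟨x, hx⟩, -⟩ := hnd _ hv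
  apply hx
  rw [hf.eq_gram, show σ ∘ (σ.symm ∘ (a - b)) = a - b by ext i; simp, h0, dotProduct_zero]

/-- A group normalising an absolutely irreducible group that fixes a nondegenerate sesquilinear form
consists of similarities of that form. -/
lemma le_similarityGroup {σ : F ≃+* F} {f : (ι → F) → (ι → F) → F} {G N : Subgroup (GL ι F)}
    (hf : IsSesq σ f) (hnd : IsNondegenerateForm f) (habs : ActsAbsolutelyIrreducibly (matrixSet N))
    (hN : NormSub G N) (hfix : FixesForm (matrixSet N) f) : G ≤ similarityGroup f := by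
  intro g hg
  set A := gramMatrix f with hA
  set g' : Matrix ι ι F := (g : Matrix ι ι F)
  set B : Matrix ι ι F := g'ᵀ * A * g'.map σ with hB
  have hAu := gram_isUnit hf hnd
  obtain ⟨A', hA'⟩ := hAu.exists_left_inv
  have hs : ∀ n ∈ N, ((n : Matrix ι ι F))ᵀ * A * ((n : Matrix ι ι F)).map σ = A :=
    fun n hn => (fixes_iff hf _).mp (fun u v => hfix _ (coe_mem_matrixSet hn) u v)
  have hsB : ∀ n ∈ N, ((n : Matrix ι ι F))ᵀ * B * ((n : Matrix ι ι F)).map σ = B := by
    intro n hn
    have h := hs _ (hN.2 g hg n hn)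
    have hgn : ((g * n * g⁻¹ : GL ι F) : Matrix ι ι F) * g' = g' * (n : Matrix ι ι F) := by
      rw [← Units.val_mul, inv_mul_cancel_right, Units.val_mul]
    generalize ((g * n * g⁻¹ : GL ι F) : Matrix ι ι F) = m at h hgn
    generalize (n : Matrix ι ι F) = s at hgn ⊢
    calc sᵀ * B * s.map σ = (g' * s)ᵀ * A * (g' * s).map σ := by
          rw [hB, transpose_mul, Matrix.map_mul]
          simp only [mul_assoc]
      _ = (m * g')ᵀ * A * (m * g').map σ := by rw [hgn]
      _ = g'ᵀ * (mᵀ * A * m.map σ) * g'.map σ := by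
          rw [transpose_mul, Matrix.map_mul]
          simp only [mul_assoc]
      _ = B := by rw [h]
  have hcomm : ∀ n ∈ N, (A' * B) * ((n : Matrix ι ι F)).map σ = ((n : Matrix ι ι F)).map σ * (A' * B) := by
    intro n hn
    have h1 := hs n hn
    have h2 := hsB n hn
    generalize (n : Matrix ι ι F) = s at h1 h2 ⊢
    have hinv : A' * sᵀ * A * s.map σ = 1 := by
      rw [mul_assoc A', mul_assoc A', h1, hA']
    have hinv' : s.map σ * (A' * sᵀ * A) = 1 := mul_eq_one_comm.mp hinv
    calc A' * B * s.map σ = (s.map σ * (A' * sᵀ * A)) * (A' * B * s.map σ) := by rw [hinv', one_mul]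
      _ = s.map σ * (A' * sᵀ * (A * A') * B * s.map σ) := by simp only [mul_assoc]
      _ = s.map σ * (A' * (sᵀ * B * s.map σ)) := by rw [mul_eq_one_comm.mp hA', mul_one]; simp only [mul_assoc]
      _ = s.map σ * (A' * B) := by rw [h2]
  obtain ⟨c, hc⟩ := habs.2 ((A' * B).map σ.symm) (forall_matrixSet.mpr fun n hn => by
    have h := congrArg (fun M : Matrix ι ι F => M.map σ.symm) (hcomm n hn)
    simp only [Matrix.map_mul] at h
    have e : ((n : Matrix ι ι F).map σ).map σ.symm = (n : Matrix ι ι F) := by ext i j; simp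
    rw [e] at h
    rw [Matrix.map_mul]
    exact h)
  have hBc : B = σ c • A := by
    have h : A' * B = (σ c) • (1 : Matrix ι ι F) := by
      ext i j
      have := congrArg σ (congrFun (congrFun hc i) j)
      by_cases hij : i = j <;> simpa [Matrix.map_apply, Matrix.one_apply, hij] using this
    calc B = A * (A' * B) := by rw [← mul_assoc, mul_eq_one_comm.mp hA', one_mul]
      _ = σ c • A := by rw [h, mul_smul_comm, mul_one]
  rcases isEmpty_or_nonempty ι with hι | hι
  · exact ⟨1, fun u v => by rw [Units.val_one, one_mul, Subsingleton.elim (g' *ᵥ u) u, Subsingleton.elim (g' *ᵥ v) v]⟩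
  have hc0 : σ c ≠ 0 := by
    intro h0
    rw [h0, zero_smul] at hBc
    have h1 := congrArg Matrix.det hBc
    rw [hB, det_mul, det_mul, det_transpose, det_zero] at h1
    have hgdet : g'.det ≠ 0 := (Matrix.GeneralLinearGroup.det g).ne_zero
    have hgmap : (g'.map σ).det ≠ 0 := by
      rw [show g'.map σ = (σ : F →+* F).mapMatrix g' from rfl, ← RingHom.map_det]
      simpa using hgdet
    exact mul_ne_zero (mul_ne_zero hgdet ((Matrix.isUnit_iff_isUnit_det A).mp hAu).ne_zero) hgmap h1
  refine ⟨Units.mk0 _ hc0, fun u v => ?_⟩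
  rw [hf.eq_gram, comp_mulVec, ← vecMul_transpose g' u, ← dotProduct_mulVec, mulVec_mulVec, mulVec_mulVec,
    ← hB, hBc, smul_mulVec, dotProduct_smul, smul_eq_mul, Units.val_mk0, hA, ← hf.eq_gram]

omit [DecidableEq ι] in
/-- A nondegenerate alternating form lives in even dimension only. -/
lemma even_finrank_of_alternating {f : (ι → F) → (ι → F) → F} (hf : IsBilinearForm f)
    (halt : ∀ v, f v v = 0) (W : Submodule F (ι → F)) (hW : IsNondegenerateOn f W) :
    Even (Module.finrank F W) := by
  induction hk : Module.finrank F W using Nat.strong_induction_on generalizing W with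
  | _ k ih =>
    subst hk
    rcases eq_or_ne W ⊥ with rfl | hne
    · simp
    obtain ⟨e, he, he0⟩ := W.ne_bot_iff.mp hne
    obtain ⟨-, x, hx, hex⟩ := hW e he he0
    set h := (f e x)⁻¹ • x
    have heh : f e h = 1 := by rw [hf.smul_right, inv_mul_cancel₀ hex]
    have hhW : h ∈ W := W.smul_mem _ hx
    have hskew : ∀ u v, f u v = - f v u := by
      intro u v
      have := halt (u + v)
      rw [hf.add_left, hf.add_right, hf.add_right, halt, halt, zero_add, add_zero] at this
      exact eq_neg_of_add_eq_zero_left this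
    let φ : W →ₗ[F] F × F :=
      { toFun := fun w => (f e w.1, f h w.1)
        map_add' := fun a b => by simp [hf.add_right]
        map_smul' := fun c a => by simp [hf.smul_right] }
    have hsurj : LinearMap.range φ = ⊤ := by
      rw [LinearMap.range_eq_top]
      rintro ⟨a, b⟩
      refine ⟨⟨a • h + (-b) • e, W.add_mem (W.smul_mem _ hhW) (W.smul_mem _ he)⟩, ?_⟩
      simp only [φ, LinearMap.coe_mk, AddHom.coe_mk, hf.add_right, hf.smul_right, halt, heh]
      rw [hskew h e, heh]
      simp
    have hdim := LinearMap.finrank_range_add_finrank_ker φ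
    rw [hsurj, finrank_top, Module.finrank_prod, Module.finrank_self] at hdim
    let W' := (LinearMap.ker φ).map W.subtype
    have hd' : Module.finrank F W' = Module.finrank F (LinearMap.ker φ) :=
      (Submodule.equivMapOfInjective _ W.subtype_injective _).finrank_eq.symm
    have hmem : ∀ w ∈ W', w ∈ W ∧ f e w = 0 ∧ f h w = 0 := by
      rintro _ ⟨w, hw, rfl⟩
      rw [SetLike.mem_coe, LinearMap.mem_ker] at hw
      exact ⟨w.2, congrArg Prod.fst hw, congrArg Prod.snd hw⟩
    have hW' : IsNondegenerateOn f W' := by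
      intro w hw hw0
      obtain ⟨hwW, h1, h2⟩ := hmem w hw
      obtain ⟨-, y, hy, hwy⟩ := hW w hwW hw0
      set y' := y + (f h y) • e + (-(f e y)) • h
      have hy' : y' ∈ W' := by
        refine ⟨⟨y', W.add_mem (W.add_mem hy (W.smul_mem _ he)) (W.smul_mem _ hhW)⟩, ?_, rfl⟩
        rw [SetLike.mem_coe, LinearMap.mem_ker]
        simp only [φ, y', LinearMap.coe_mk, AddHom.coe_mk, hf.add_right, hf.smul_right, halt, heh]
        rw [hskew h e, heh]
        simp
      have hval : f w y' ≠ 0 := by
        simp only [y', hf.add_right, hf.smul_right]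
        rw [hskew w e, h1, hskew w h, h2]
        simpa using hwy
      exact ⟨⟨y', hy', by rw [hskew]; simpa using hval⟩, y', hy', hval⟩
    have hlt : Module.finrank F W' < Module.finrank F W := by omega
    obtain ⟨j, hj⟩ := ih _ hlt W' hW' rfl
    exact ⟨j + 1, by omega⟩

/-- There is no symplectic form in odd dimension. -/
lemma not_symplectic_of_odd (hodd : Odd (Fintype.card ι)) (f : (ι → F) → (ι → F) → F) :
    ¬ IsSymplecticForm f := by
  intro hf
  have h := even_finrank_of_alternating hf.bilinear hf.alternating ⊤ (fun v _ hv => by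
    obtain ⟨⟨x, hx⟩, ⟨y, hy⟩⟩ := hf.nondegenerate v hv
    exact ⟨⟨x, Submodule.mem_top, hx⟩, y, Submodule.mem_top, hy⟩)
  rw [finrank_top, Module.finrank_fintype_fun_eq_card] at h
  exact Nat.not_even_iff_odd.mpr hodd h

/-- A nondegenerate quadratic form in odd dimension forces odd characteristic. -/
lemma odd_card_of_quadratic [Fintype F] (hodd : Odd (Fintype.card ι)) {Q : (ι → F) → F}
    (hQ : IsNondegenerateQuadraticForm Q) : Odd (Fintype.card F) := by
  by_contra he
  rw [Nat.not_odd_iff_even] at he
  have h2 : (2 : F) = 0 := by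
    have h := FiniteField.cast_card_eq_zero F
    obtain ⟨p, hp⟩ := CharP.exists F
    obtain ⟨k, hpp, hF⟩ := FiniteField.card F p
    have : p = 2 := by
      rw [hF, Nat.even_pow] at he
      exact (hpp.even_iff.mp he.1)
    subst this
    exact_mod_cast CharP.cast_eq_zero F 2
  refine not_symplectic_of_odd hodd (QuadraticMap.polar Q)
    ⟨hQ.polar_bilinear, fun v w => ?_, fun v => ?_, hQ.nondegenerate⟩
  · have : ∀ a : F, a = -a := fun a => eq_neg_of_add_eq_zero_left (by rw [← two_mul, h2, zero_mul])
    rw [← this]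
    simp [QuadraticMap.polar, add_comm v w, sub_right_comm]
  · have : v + v = (2 : F) • v := (two_smul F v).symm
    rw [QuadraticMap.polar, this, hQ.smul, sub_sub, ← two_mul, h2]
    ring

/-- A group normalising an absolutely irreducible group that fixes a nondegenerate quadratic form
consists of similarities of that form. -/
lemma le_quadSimilarityGroup {Q : (ι → F) → F} {G N : Subgroup (GL ι F)} (hn : 2 ≤ Fintype.card ι)
    (hQ : IsNondegenerateQuadraticForm Q) (habs : ActsAbsolutelyIrreducibly (matrixSet N))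
    (hN : NormSub G N) (hfix : FixesQuadForm (matrixSet N) Q) : G ≤ quadSimilarityGroup Q := by
  intro g hg
  have hfix' : FixesForm (matrixSet N) (QuadraticMap.polar Q) := by
    intro s hs u v
    rw [QuadraticMap.polar, ← mulVec_add, hfix s hs, hfix s hs, hfix s hs]
    rfl
  obtain ⟨c, hc⟩ := le_similarityGroup (isSesq_of_bilinear hQ.polar_bilinear) hQ.nondegenerate habs hN hfix' hg
  refine ⟨c, fun v => ?_⟩
  set D : (ι → F) → F := fun v => Q ((g : Matrix ι ι F) *ᵥ v) - (c : F) * Q v with hD
  have hadd : ∀ u v, D (u + v) = D u + D v := by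
    intro u v
    have h := hc u v
    simp only [QuadraticMap.polar, ← mulVec_add] at h
    simp only [hD]
    linear_combination h
  have hsmul : ∀ (a : F) v, D (a • v) = a ^ 2 * D v := by
    intro a v
    simp only [hD, mulVec_smul, hQ.smul]
    ring
  let W : Submodule F (ι → F) :=
    { carrier := {v | D v = 0}
      add_mem' := fun {a b} ha hb => by
        show D (a + b) = 0
        rw [hadd, ha, hb, add_zero]
      zero_mem' := by
        have := hsmul 0 0
        simpa using this
      smul_mem' := fun a v hv => by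
        show D (a • v) = 0
        rw [hsmul, hv, mul_zero] }
  have hinv : ∀ n ∈ N, ∀ v, D ((n : Matrix ι ι F) *ᵥ v) = D v := by
    intro n hn v
    simp only [hD]
    rw [hfix _ (coe_mem_matrixSet hn) v]
    congr 1
    have h := hfix _ (coe_mem_matrixSet (hN.2 g hg n hn)) ((g : Matrix ι ι F) *ᵥ v)
    rw [mulVec_mulVec, ← Units.val_mul, inv_mul_cancel_right, Units.val_mul, ← mulVec_mulVec] at h
    exact h
  by_cases hW : W = ⊥
  · exfalso
    have hpos : 0 < Fintype.card ι := by omega
    obtain ⟨i⟩ := Fintype.card_pos_iff.mp hpos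
    have hv : ∀ v : ι → F, v ≠ 0 → ∀ n ∈ N, (n : Matrix ι ι F) *ᵥ v = v := by
      intro v _ n hn
      have : (n : Matrix ι ι F) *ᵥ v - v ∈ W := by
        show D _ = 0
        have h := hadd ((n : Matrix ι ι F) *ᵥ v - v) v
        rw [sub_add_cancel, hinv n hn] at h
        linear_combination -h
      rw [hW, Submodule.mem_bot, sub_eq_zero] at this
      exact this
    set v : ι → F := Pi.single i 1
    have hv0 : v ≠ 0 := by simp [v]
    rcases habs.1 (Submodule.span F {v}) (forall_matrixSet.mpr fun n hn => by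
        rw [Submodule.map_span_le]
        intro w hw
        rw [Set.mem_singleton_iff] at hw
        subst hw
        rw [Matrix.toLin'_apply, hv _ hv0 n hn]
        exact Submodule.mem_span_singleton_self _) with h | h
    · exact hv0 (Submodule.span_singleton_eq_bot.mp h)
    · have := finrank_span_singleton (K := F) hv0
      rw [h, finrank_top, Module.finrank_fintype_fun_eq_card] at this
      omega
  · have htop : W = ⊤ := by
      refine eq_top_of_invariant habs.1 W hW fun n hn v hv => ?_
      show D _ = 0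
      rw [hinv n hn]
      exact hv
    have : D v = 0 := (htop ▸ Submodule.mem_top : v ∈ W)
    exact sub_eq_zero.mp this

/-- `SL` does not consist of similarities of a nondegenerate sesquilinear form. -/
lemma specialLinear_not_le_similarity {σ : F ≃+* F} {f : (ι → F) → (ι → F) → F} (hn : 3 ≤ Fintype.card ι)
    (hf : IsSesq σ f) (hnd : IsNondegenerateForm f) :
    ¬ specialLinear ι F ≤ similarityGroup f := by
  intro hle
  obtain ⟨i⟩ : Nonempty ι := Fintype.card_pos_iff.mp (by omega)
  have hu0 : (Pi.single i 1 : ι → F) ≠ 0 := by simp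
  obtain ⟨-, v, huv⟩ := hnd _ hu0
  set u : ι → F := Pi.single i 1
  have hex : ∀ x y z : ι → F, z ∉ Submodule.span F ({x, y} : Set (ι → F)) →
      ∃ φ : ι → F, φ ⬝ᵥ x = 0 ∧ φ ⬝ᵥ y = 0 ∧ φ ⬝ᵥ z = 1 := by
    intro x y z hz
    obtain ⟨φ, hφ, hφ1⟩ := CfsgLib.Geo.exists_covector _ hz
    exact ⟨φ, hφ x (Submodule.subset_span (by simp)), hφ y (Submodule.subset_span (by simp)), hφ1⟩
  have hlt : Submodule.span F ({u, v} : Set (ι → F)) ≠ ⊤ := by
    intro h
    classical
    have h1 := finrank_span_finset_le_card (R := F) ({u, v} : Finset (ι → F))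
    rw [Finset.coe_pair] at h1
    unfold Set.finrank at h1
    rw [h, finrank_top, Module.finrank_fintype_fun_eq_card] at h1
    have := Finset.card_le_two (a := u) (b := v)
    omega
  obtain ⟨w, -, hw⟩ := SetLike.exists_of_lt (lt_top_iff_ne_top.mpr hlt)
  obtain ⟨φ, hφu, hφv, hφw⟩ := hex u v w hw
  -- the transvection with centre `u` and axis containing `u, v`
  obtain ⟨c, hc⟩ := hle (CfsgLib.Geo.tvec_mem_specialLinear u φ hφu)
  have hc1 : (c : F) = 1 := by
    have h := hc u v
    rw [CfsgLib.Geo.tvec_mulVec, CfsgLib.Geo.tvec_mulVec, hφu, hφv, zero_smul, add_zero, add_zero] at h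
    exact (mul_eq_right₀ huv).mp h.symm
  have h := hc w v
  rw [CfsgLib.Geo.tvec_mulVec, CfsgLib.Geo.tvec_mulVec, hφw, hφv, zero_smul, add_zero, one_smul, hc1, one_mul,
    hf.add_left, add_eq_left] at h
  exact huv h

/-- `SL` does not consist of similarities of a nondegenerate quadratic form. -/
lemma specialLinear_not_le_quadSimilarity {Q : (ι → F) → F} (hn : 3 ≤ Fintype.card ι)
    (hQ : IsNondegenerateQuadraticForm Q) : ¬ specialLinear ι F ≤ quadSimilarityGroup Q := by
  intro hle
  refine specialLinear_not_le_similarity hn (isSesq_of_bilinear hQ.polar_bilinear) hQ.nondegenerate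
    (fun g hg => ?_)
  obtain ⟨c, hc⟩ := hle hg
  refine ⟨c, fun u v => ?_⟩
  simp only [QuadraticMap.polar, ← mulVec_add, hc]
  ring

end CfsgLib.Aschbacher
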