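import Cfsg.Agent.Aschbacher.Prime
import Cfsg.Agent.Aschbacher.Forms

/-!
The class-two minimal normal subgroup in odd prime dimension is extraspecial of order `r ^ 3`, exponent `r`,
monomial over the `r`-th roots of unity.
-/
set_option autoImplicit false
set_option maxHeartbeats 2000000

namespace CfsgLib.Aschbacher

open Matrix Cfsg.Geo CfsgLib.GeoClifford
open scoped MatrixGroups commutatorElement

variable {ι : Type} [Fintype ι] [DecidableEq ι] {F : Type*} [Field F]

/-- The coordinates of a scalar element. -/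
lemma eq_smul_one {g : GL ι F} (hg : g ∈ scalars ι F) [Nonempty ι] :
    (g : Matrix ι ι F) = ((g : Matrix ι ι F) (Classical.arbitrary ι) (Classical.arbitrary ι)) • (1 : Matrix ι ι F) := by
  obtain ⟨c, hc⟩ := (mem_scalars_iff g).mp hg
  rw [hc]
  simp

lemma scalar_pow_card_eq_one {g : GL ι F} {c : F} (hg : (g : Matrix ι ι F) = c • (1 : Matrix ι ι F))
    (hdet : g ∈ specialLinear ι F) : c ^ Fintype.card ι = 1 := by
  have h := CfsgLib.Geo.mem_specialLinear.mp hdet
  rwa [hg, Matrix.det_smul, Matrix.det_one, mul_one] at h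

/-- A matrix conjugate to a multiple of itself by a primitive root has scalar power equal to its determinant. -/
lemma pow_card_eq_det_smul_one (hn : Odd (Fintype.card ι)) {x y : GL ι F} {c : F}
    (hc : IsPrimitiveRoot c (Fintype.card ι))
    (hconj : ((y * x * y⁻¹ : GL ι F) : Matrix ι ι F) = c • (x : Matrix ι ι F)) :
    (x : Matrix ι ι F) ^ Fintype.card ι = (x : Matrix ι ι F).det • (1 : Matrix ι ι F) := by
  set n := Fintype.card ι with hn'
  set M := (x : Matrix ι ι F) with hM
  set χ := M.charpoly with hχ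
  have h1 : (c • M).charpoly = χ := by
    rw [← hconj, hχ, Units.val_mul, Units.val_mul, Matrix.coe_units_inv]
    exact Matrix.charpoly_units_conj y M
  have h2 : χ.comp (Polynomial.C c * Polynomial.X) = χ := by
    have e : (Polynomial.compRingHom (Polynomial.C c * Polynomial.X)).mapMatrix (c • M).charmatrix =
        Polynomial.C c • M.charmatrix := by
      ext i j
      by_cases h : i = j
      · subst h; simp [charmatrix_apply_eq, mul_sub]
      · simp [charmatrix_apply_ne _ _ _ h]
    calc χ.comp (Polynomial.C c * Polynomial.X)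
        = Polynomial.compRingHom (Polynomial.C c * Polynomial.X) (c • M).charmatrix.det := by
          rw [Polynomial.coe_compRingHom_apply, ← Matrix.charpoly, h1]
      _ = Polynomial.C c ^ n * M.charmatrix.det := by rw [RingHom.map_det, e, Matrix.det_smul]
      _ = χ := by rw [← Polynomial.C_pow, hc.pow_eq_one, Polynomial.C_1, one_mul]; rfl
  have hdeg : χ.natDegree = n := M.charpoly_natDegree_eq_dim
  have hcoeff : ∀ i, 0 < i → i < n → χ.coeff i = 0 := by
    intro i hi hin
    have h := congrArg (fun p => Polynomial.coeff p i) h2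
    simp only [Polynomial.comp_C_mul_X_coeff] at h
    by_contra h0
    exact hc.pow_ne_one_of_pos_of_lt hi.ne' hin ((mul_eq_left₀ h0).mp h)
  have hχeq : χ = Polynomial.X ^ n + Polynomial.C (χ.coeff 0) := by
    ext i
    rw [Polynomial.coeff_add, Polynomial.coeff_X_pow, Polynomial.coeff_C]
    rcases Nat.eq_zero_or_pos i with rfl | hi
    · simp [hn.pos.ne]
    · rcases lt_trichotomy i n with hlt | heq | hgt
      · simp [hcoeff i hi hlt, hi.ne', hlt.ne]
      · subst heq
        have := (M.charpoly_monic).coeff_natDegree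
        rw [← hχ, hdeg] at this
        simp [this, hi.ne']
      · rw [Polynomial.coeff_eq_zero_of_natDegree_lt (by rw [hdeg]; exact hgt)]
        simp [hgt.ne', hi.ne']
  have hCH := Matrix.aeval_self_charpoly M
  rw [← hχ, hχeq, map_add, map_pow, Polynomial.aeval_X, Polynomial.aeval_C, Algebra.algebraMap_eq_smul_one] at hCH
  have hdet : M.det = - χ.coeff 0 := by
    rw [Matrix.det_eq_sign_charpoly_coeff, hn.neg_one_pow, hχ]
    ring
  rw [hdet, neg_smul]
  exact eq_neg_of_add_eq_zero_left hCH

lemma comm_of_card_le_sq {M : Type*} [Group M] [Finite M] {r k : ℕ} [Fact r.Prime]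
    (hk : k ≤ 2) (hcard : Nat.card M = r ^ k) : ∀ a b : M, a * b = b * a := by
  interval_cases k
  · have : Subsingleton M := (Nat.card_eq_one_iff_unique.mp (by simpa using hcard)).1
    exact fun a b => Subsingleton.elim _ _
  · have : IsCyclic M := isCyclic_of_prime_card (p := r) (by simpa using hcard)
    let := IsCyclic.commGroup (α := M)
    exact fun a b => mul_comm a b
  · let := IsPGroup.commGroupOfCardEqPrimeSq (p := r) hcard
    exact fun a b => mul_comm a b

variable [Fintype F]

/-- The structure of the minimal non-scalar normal subgroup of class two. -/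
theorem extraspecial_of_minimal {G N : Subgroup (GL ι F)} (hn : (Fintype.card ι).Prime)
    (hodd : Odd (Fintype.card ι)) (hG : G ≤ specialLinear ι F)
    (hclean : Clean G)
    (hN : NormSub G N) (hNs : ¬ N ≤ scalars ι F) (hcl : ⁅N, N⁆ ≤ scalars ι F) :
    IsSymplecticTypeGroup (Fintype.card ι) N ∧ Nat.card (Subgroup.center N) = Fintype.card ι ∧
      Nat.card N = Fintype.card ι ^ 3 ∧ ActsAbsolutelyIrreducibly (matrixSet N) ∧
      ∃ c : F, IsPrimitiveRoot c (Fintype.card ι) ∧
        (∀ F₀ : Subfield F, c ∈ F₀ → RealisableOver F₀ (matrixSet N)) ∧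
        ∀ σ : F ≃+* F, σ ≠ RingEquiv.refl F → (∀ a, σ (σ a) = a) → σ c = c⁻¹ →
          ∃ f, IsUnitaryForm σ f ∧ FixesForm (matrixSet N) f := by
  classical
  set n := Fintype.card ι with hn'
  have : Fact n.Prime := ⟨hn⟩
  have : Nonempty ι := Fintype.card_pos_iff.mp hn.pos
  have habs := hclean _ hN hNs
  have hNsl : N ≤ specialLinear ι F := hN.1.trans hG
  have hscal : ∀ a ∈ N, (∀ b ∈ N, a * b = b * a) → a ∈ scalars ι F := by
    intro a ha h
    obtain ⟨c, hc⟩ := habs.2 (a : Matrix ι ι F) (forall_matrixSet.mpr fun b hb => by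
      simpa using congrArg Units.val (h b hb))
    have hc0 : c ≠ 0 := by
      intro h0
      rw [h0, zero_smul] at hc
      exact a.ne_zero hc
    exact (mem_scalars_iff a).mpr ⟨Units.mk0 c hc0, hc⟩
  have hpow : ∀ a ∈ N, a ∈ scalars ι F → a ^ n = 1 := by
    intro a ha has
    obtain ⟨c, hc⟩ := (mem_scalars_iff a).mp has
    refine Units.ext ?_
    rw [Units.val_pow_eq_pow_val, hc, smul_pow, one_pow, scalar_pow_card_eq_one hc (hNsl ha), one_smul,
      Units.val_one]
  -- a commutator of order `n`
  obtain ⟨x, hxN, hxs⟩ := SetLike.not_le_iff_exists.mp hNs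
  obtain ⟨y, hyN, hxy⟩ : ∃ y ∈ N, ¬ x * y = y * x := by
    by_contra h
    push Not at h
    exact hxs (hscal x hxN h)
  set z := ⁅y, x⁆ with hz
  have hzs : z ∈ scalars ι F := hcl (Subgroup.commutator_mem_commutator hyN hxN)
  have hzN : z ∈ N := Subgroup.commutator_le_self N (Subgroup.commutator_mem_commutator hyN hxN)
  obtain ⟨cu, hcu⟩ := (mem_scalars_iff z).mp hzs
  set c : F := (cu : F) with hc'
  have hzeq : ∀ k : ℕ, (((z ^ k : GL ι F)) : Matrix ι ι F) = c ^ k • (1 : Matrix ι ι F) := by
    intro k; rw [Units.val_pow_eq_pow_val, hcu, smul_pow, one_pow]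
  have hc1 : c ≠ 1 := by
    intro h
    have hz1 : z = 1 := Units.ext (by rw [hcu, h, one_smul, Units.val_one])
    exact hxy (commutatorElement_eq_one_iff_mul_comm.mp hz1).symm
  have hcn : c ^ n = 1 := scalar_pow_card_eq_one hcu (hNsl hzN)
  have hc : IsPrimitiveRoot c n :=
    IsPrimitiveRoot.iff_orderOf.mpr (orderOf_eq_prime hcn hc1)
  have hzord : orderOf z = n := by
    refine orderOf_eq_prime (hpow z hzN hzs) fun h => hc1 ?_
    have h1 := congrArg Units.val h
    rw [hcu, Units.val_one] at h1
    simpa using congrFun (congrFun h1 (Classical.arbitrary ι)) (Classical.arbitrary ι)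
  have hexp : ∀ a ∈ N, a ^ n = 1 := by
    intro a ha
    by_cases has : a ∈ scalars ι F
    · exact hpow a ha has
    obtain ⟨b, hb, hab⟩ : ∃ b ∈ N, ¬ a * b = b * a := by
      by_contra h
      push Not at h
      exact has (hscal a ha h)
    have hs : ⁅b, a⁆ ∈ scalars ι F := hcl (Subgroup.commutator_mem_commutator hb ha)
    have hsN : ⁅b, a⁆ ∈ N := Subgroup.commutator_le_self N (Subgroup.commutator_mem_commutator hb ha)
    obtain ⟨d, hd⟩ := (mem_scalars_iff _).mp hs
    have hdn := scalar_pow_card_eq_one hd (hNsl hsN)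
    have hd1 : (d : F) ≠ 1 := by
      intro h
      exact hab (commutatorElement_eq_one_iff_mul_comm.mp (Units.ext (by
        rw [hd, h, one_smul, Units.val_one]) : ⁅b, a⁆ = 1)).symm
    have hd' : IsPrimitiveRoot (d : F) n := IsPrimitiveRoot.iff_orderOf.mpr (orderOf_eq_prime hdn hd1)
    have h := pow_card_eq_det_smul_one hodd (x := a) (y := b) hd' (by
      have : b * a * b⁻¹ = ⁅b, a⁆ * a := by rw [commutatorElement_def]; group
      rw [this, Units.val_mul, hd, smul_mul_assoc, one_mul])
    rw [CfsgLib.Geo.mem_specialLinear.mp (hNsl ha), one_smul] at h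
    exact Units.ext (by rw [Units.val_pow_eq_pow_val, h, Units.val_one])
  have hp : IsPGroup n N := fun a => ⟨1, Subtype.ext (by simpa using hexp a.1 a.2)⟩
  have hexpN : Monoid.exponent N = n := by
    rcases (Nat.dvd_prime hn).mp (Monoid.exponent_dvd_of_forall_pow_eq_one
      fun a : N => Subtype.ext (by simpa using hexp a.1 a.2)) with h | h
    · exfalso
      refine hxs ?_
      have hx1 := Monoid.pow_exponent_eq_one (⟨x, hxN⟩ : N)
      rw [h, pow_one] at hx1
      rw [show x = 1 from congrArg Subtype.val hx1]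
      exact (scalars ι F).one_mem
    · exact h
  -- the centre
  have hcenter : Subgroup.center N = (scalars ι F).subgroupOf N := by
    ext a
    rw [Subgroup.mem_center_iff, Subgroup.mem_subgroupOf]
    refine ⟨fun h => hscal a.1 a.2 fun b hb => (congrArg Subtype.val (h ⟨b, hb⟩)).symm, fun h b => ?_⟩
    exact Subtype.ext (scalars_comm h b.1).symm
  have hcard_center : Nat.card (Subgroup.center N) = n := by
    rw [hcenter]
    refine le_antisymm ?_ ?_
    · let S := (Polynomial.nthRootsFinset n (1 : F))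
      have hS : S.card ≤ n := by
        rw [show S.card = n from hc.card_nthRootsFinset]
      refine le_trans ?_ hS
      rw [← Nat.card_eq_finsetCard S]
      let ev : ↥((scalars ι F).subgroupOf N) → S := fun a =>
        ⟨((a.1.1 : GL ι F) : Matrix ι ι F) (Classical.arbitrary ι) (Classical.arbitrary ι), by
          rw [Polynomial.mem_nthRootsFinset hn.pos]
          exact scalar_pow_card_eq_one (eq_smul_one (Subgroup.mem_subgroupOf.mp a.2)) (hNsl a.1.2)⟩
      refine Nat.card_le_card_of_injective ev fun a b hab => ?_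
      apply Subtype.ext; apply Subtype.ext; apply Units.ext
      rw [eq_smul_one (Subgroup.mem_subgroupOf.mp a.2), eq_smul_one (Subgroup.mem_subgroupOf.mp b.2)]
      rw [show ((a.1.1 : GL ι F) : Matrix ι ι F) (Classical.arbitrary ι) (Classical.arbitrary ι) =
        ((b.1.1 : GL ι F) : Matrix ι ι F) (Classical.arbitrary ι) (Classical.arbitrary ι) from
        congrArg Subtype.val hab]
    · calc n = Nat.card (Subgroup.zpowers z) := by rw [Nat.card_zpowers, hzord]
        _ ≤ _ := by
          refine Nat.card_le_card_of_injective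
            (fun a : Subgroup.zpowers z => (⟨⟨a.1, (Subgroup.zpowers_le.mpr hzN) a.2⟩,
              Subgroup.mem_subgroupOf.mpr ((Subgroup.zpowers_le.mpr hzs) a.2)⟩ :
                ↥((scalars ι F).subgroupOf N))) fun a b h => ?_
          exact Subtype.ext (congrArg (fun w => w.1.1) h)
  -- coset representatives are linearly independent
  have hindex : Nat.card (N ⧸ Subgroup.center N) ≤ n ^ 2 := by
    let rep : N ⧸ Subgroup.center N → Matrix ι ι F := fun q => ((q.out : N).1 : Matrix ι ι F)
    have hchar : ∀ (y : N) (q : N ⧸ Subgroup.center N), ∃ d : F,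
        ((y.1 * q.out.1 * y.1⁻¹ : GL ι F) : Matrix ι ι F) = d • rep q ∧
          (d = 1 → y.1 * q.out.1 = q.out.1 * y.1) := by
      intro y q
      obtain ⟨d, hd⟩ := (mem_scalars_iff _).mp (hcl (Subgroup.commutator_mem_commutator y.2 q.out.2))
      refine ⟨d, ?_, fun h => ?_⟩
      · have : y.1 * q.out.1 * y.1⁻¹ = ⁅y.1, q.out.1⁆ * q.out.1 := by rw [commutatorElement_def]; group
        rw [this, Units.val_mul, hd, smul_mul_assoc, one_mul]
      · exact commutatorElement_eq_one_iff_mul_comm.mp (Units.ext (by rw [hd, h, one_smul, Units.val_one]))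
    choose χ hχ hχ1 using hchar
    have hsep : ∀ q q', q ≠ q' → ∃ y, χ y q ≠ χ y q' := by
      intro q q' hne
      by_contra h
      push Not at h
      refine hne ?_
      rw [← QuotientGroup.out_eq' q, ← QuotientGroup.out_eq' q', QuotientGroup.eq, Subgroup.mem_center_iff]
      intro y
      apply Subtype.ext
      show y.1 * (q.out.1⁻¹ * q'.out.1) = (q.out.1⁻¹ * q'.out.1) * y.1
      set a := q.out.1
      set b := q'.out.1
      have hd0 : χ y q ≠ 0 := by
        intro h0
        have h1 := hχ y q
        rw [h0, zero_smul] at h1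
        exact (y.1 * a * y.1⁻¹).ne_zero h1
      have key : y.1 * (a⁻¹ * b) * y.1⁻¹ = a⁻¹ * b := by
        have h1 : ((y.1 * a * y.1⁻¹ : GL ι F) : Matrix ι ι F) * ((a⁻¹ * b : GL ι F) : Matrix ι ι F) =
            ((y.1 * b * y.1⁻¹ : GL ι F) : Matrix ι ι F) := by
          rw [hχ y q, hχ y q', h y, smul_mul_assoc]
          congr 1
          rw [← Units.val_mul, mul_inv_cancel_left]
        rw [← Units.val_mul] at h1
        have h2 : y.1 * a * y.1⁻¹ * (a⁻¹ * b) = y.1 * b * y.1⁻¹ := Units.ext h1
        calc y.1 * (a⁻¹ * b) * y.1⁻¹ = (y.1 * a * y.1⁻¹)⁻¹ * (y.1 * b * y.1⁻¹) := by group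
          _ = a⁻¹ * b := by rw [← h2]; group
      exact mul_inv_eq_iff_eq_mul.mp key
    have hind : ∀ (s : Finset (N ⧸ Subgroup.center N)) (a : N ⧸ Subgroup.center N → F),
        ∑ q ∈ s, a q • rep q = 0 → ∀ q ∈ s, a q = 0 := by
      intro s
      induction s using Finset.induction_on with
      | empty => simp
      | insert q0 s hq0 ih =>
        intro a hsum
        have hs : ∀ q ∈ s, a q = 0 := by
          intro q hq
          obtain ⟨y, hy⟩ := hsep q q0 (fun h => hq0 (h ▸ hq))
          have hconj := congrArg (fun M => (y.1 : Matrix ι ι F) * M * ((y.1⁻¹ : GL ι F) : Matrix ι ι F)) hsum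
          simp only [Finset.mul_sum, Finset.sum_mul, mul_zero, zero_mul, mul_smul_comm, smul_mul_assoc] at hconj
          have e : ∀ q, (y.1 : Matrix ι ι F) * rep q * ((y.1⁻¹ : GL ι F) : Matrix ι ι F) = χ y q • rep q := by
            intro q
            rw [← hχ y q, Units.val_mul, Units.val_mul]
          simp only [e, smul_smul] at hconj
          have hdiff : ∑ q ∈ insert q0 s, (a q * (χ y q - χ y q0)) • rep q = 0 := by
            simp only [mul_sub, sub_smul, Finset.sum_sub_distrib, hconj, zero_sub, neg_eq_zero]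
            calc ∑ q ∈ insert q0 s, (a q * χ y q0) • rep q = χ y q0 • ∑ q ∈ insert q0 s, a q • rep q := by
                  rw [Finset.smul_sum]
                  exact Finset.sum_congr rfl fun q _ => by rw [smul_smul, mul_comm]
              _ = 0 := by rw [hsum, smul_zero]
          rw [Finset.sum_insert hq0, sub_self, mul_zero, zero_smul, zero_add] at hdiff
          exact (mul_eq_zero.mp (ih _ hdiff q hq)).resolve_right (sub_ne_zero.mpr hy)
        intro q hq
        rcases Finset.mem_insert.mp hq with rfl | hq'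
        · rw [Finset.sum_insert hq0, Finset.sum_eq_zero (fun q hq => by rw [hs q hq, zero_smul]), add_zero,
            smul_eq_zero] at hsum
          exact hsum.resolve_right (Units.ne_zero _)
        · exact hs q hq'
    have hli : LinearIndependent F rep := linearIndependent_iff'.mpr hind
    letI := Fintype.ofFinite (N ⧸ Subgroup.center N)
    have h := hli.fintype_card_le_finrank
    rw [Module.finrank_matrix, Module.finrank_self, mul_one, ← sq] at h
    rwa [Nat.card_eq_fintype_card]
  have hncomm : ¬ ∀ a b : N, a * b = b * a := fun h => hxy (congrArg Subtype.val (h ⟨x, hxN⟩ ⟨y, hyN⟩))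
  have hcardN : Nat.card N = n ^ 3 := by
    obtain ⟨k, hk⟩ := IsPGroup.iff_card.mp hp
    have h3 : 3 ≤ k := by
      by_contra h
      exact hncomm (comm_of_card_le_sq (r := n) (by omega) hk)
    have hle : Nat.card N ≤ n ^ 3 := by
      rw [Subgroup.card_eq_card_quotient_mul_card_subgroup (Subgroup.center N), hcard_center, pow_succ]
      exact Nat.mul_le_mul_right _ hindex
    rw [hk] at hle ⊢
    rw [le_antisymm ((Nat.pow_le_pow_iff_right hn.one_lt).mp hle) h3]
  refine ⟨⟨hn, hp, ?_, ?_⟩, hcard_center, hcardN, habs, c, hc, ?_⟩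
  · intro A hA hAc
    have hAZ : A ≤ Subgroup.center N := by
      rw [hcenter]
      intro a ha
      rw [Subgroup.mem_subgroupOf]
      have hM : NormSub G (A.map N.subtype) := by
        refine ⟨(Subgroup.map_subtype_le A).trans hN.1, ?_⟩
        rintro g hg _ ⟨b, hb, rfl⟩
        let φ : N ≃* N :=
          { toFun := fun a => ⟨g * a.1 * g⁻¹, hN.2 g hg a.1 a.2⟩
            invFun := fun a => ⟨g⁻¹ * a.1 * g, by simpa using hN.2 g⁻¹ (G.inv_mem hg) a.1 a.2⟩
            left_inv := fun a => Subtype.ext (by group)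
            right_inv := fun a => Subtype.ext (by group)
            map_mul' := fun a b => Subtype.ext (by simp [mul_assoc]) }
        exact ⟨φ b, (Subgroup.characteristic_iff_map_le.mp hA φ) ⟨b, hb, rfl⟩, rfl⟩
      by_contra has
      have hMs : ¬ A.map N.subtype ≤ scalars ι F := fun h => has (h ⟨a, ha, rfl⟩)
      have hMabs := hclean _ hM hMs
      obtain ⟨d, hd⟩ := hMabs.2 (a.1 : Matrix ι ι F) (forall_matrixSet.mpr fun b hb => by
        obtain ⟨b', hb', rfl⟩ := hb
        simpa using congrArg (fun w : A => ((w.1.1 : GL ι F) : Matrix ι ι F))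
          (hAc.is_comm.comm ⟨a, ha⟩ ⟨b', hb'⟩))
      refine has ((mem_scalars_iff _).mpr ⟨Units.mk0 d ?_, hd⟩)
      intro h0
      rw [h0, zero_smul] at hd
      exact a.1.ne_zero hd
    have : IsCyclic (Subgroup.center N) := isCyclic_of_prime_card (p := n) hcard_center
    exact isCyclic_of_injective (Subgroup.inclusion hAZ) (Subgroup.inclusion_injective hAZ)
  · rw [hexpN, show Nat.gcd 2 n = 1 from (Nat.coprime_two_left.mpr hodd), mul_one]
  -- monomial basis
  obtain ⟨j0, v, hv0, hv⟩ : ∃ (j : ℕ) (v : ι → F), v ≠ 0 ∧ (x : Matrix ι ι F) *ᵥ v = c ^ j • v := by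
    have hprod := X_pow_sub_C_eq_prod hc hn.pos (one_pow n : (1 : F) ^ n = 1)
    let P : ℕ → Polynomial F := fun k => ∏ i ∈ Finset.range k, (Polynomial.X - Polynomial.C (c ^ i * 1))
    have hex : ∃ k, Polynomial.aeval (x : Matrix ι ι F) (P k) = 0 := by
      refine ⟨n, ?_⟩
      show Polynomial.aeval (x : Matrix ι ι F) (∏ i ∈ Finset.range n, (Polynomial.X - Polynomial.C (c ^ i * 1))) = 0
      rw [← hprod, map_sub, map_pow, Polynomial.aeval_X, Polynomial.aeval_C, map_one, ← Units.val_pow_eq_pow_val,
        hexp x hxN, Units.val_one, sub_self]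
    have h0 : Nat.find hex ≠ 0 := by
      intro h
      have := Nat.find_spec hex
      rw [h] at this
      simp [P] at this
    obtain ⟨j, hj⟩ := Nat.exists_eq_succ_of_ne_zero h0
    obtain ⟨u, hu⟩ : ∃ u, Polynomial.aeval (x : Matrix ι ι F) (P j) *ᵥ u ≠ 0 := by
      by_contra h
      push Not at h
      refine Nat.find_min hex (show j < Nat.find hex by omega) ?_
      apply Matrix.toLin'.injective
      exact LinearMap.ext fun u => by simpa using h u
    refine ⟨j, _, hu, ?_⟩
    have h := Nat.find_spec hex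
    rw [hj, show P (j + 1) = (Polynomial.X - Polynomial.C (c ^ j * 1)) * P j from by
      rw [mul_comm]; exact Finset.prod_range_succ _ _, map_mul, map_sub, Polynomial.aeval_X,
      Polynomial.aeval_C, Algebra.algebraMap_eq_smul_one, mul_one] at h
    have h' := congrArg (fun M => M *ᵥ u) h
    simp only [← mulVec_mulVec, sub_mulVec, smul_mulVec, one_mulVec, zero_mulVec] at h'
    exact sub_eq_zero.mp h'
  have hc0 : c ≠ 0 := cu.ne_zero
  let w : ℕ → (ι → F) := fun i => ((y ^ i : GL ι F) : Matrix ι ι F) *ᵥ v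
  have hwS : ∀ i, (y : Matrix ι ι F) *ᵥ w i = w (i + 1) := by
    intro i; simp [w, mulVec_mulVec, ← pow_succ']
  have hwmod : ∀ i, w i = w (i % n) := by
    intro i
    simp only [w]
    rw [← pow_mod_orderOf y i]
    rcases (Nat.dvd_prime hn).mp (orderOf_dvd_of_pow_eq_one (hexp y hyN)) with h | h
    · rw [orderOf_eq_one_iff] at h
      simp [h]
    · rw [h]
  have hxw : ∀ i, ∃ k : ℕ, (x : Matrix ι ι F) *ᵥ w i = c ^ k • w i ∧ (k + i) % n = j0 % n := by
    intro i
    induction i with
    | zero => exact ⟨j0, by simpa [w] using hv, by simp⟩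
    | succ i ih =>
      obtain ⟨k, hk, hki⟩ := ih
      refine ⟨k + (n - 1), ?_, ?_⟩
      · have e : ((y * x : GL ι F) : Matrix ι ι F) = c • ((x * y : GL ι F) : Matrix ι ι F) := by
          rw [show y * x = z * (x * y) from by rw [hz, commutatorElement_def]; group, Units.val_mul, hcu,
            smul_mul_assoc, one_mul]
        have h1 := congrArg (fun M => M *ᵥ w i) e
        simp only [Units.val_mul, ← mulVec_mulVec, smul_mulVec, hwS, hk, mulVec_smul] at h1
        rw [pow_add, mul_comm, mul_smul, h1, smul_smul, ← pow_succ, Nat.sub_add_cancel hn.one_le, hcn, one_smul]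
      · rw [show k + (n - 1) + (i + 1) = k + i + n from by have := hn.pos; omega, Nat.add_mod_right, hki]
  choose kx hkx hkx' using hxw
  let e : ι ≃ Fin n := Fintype.equivFin ι
  let vs : ι → (ι → F) := fun i => w (e i).1
  have hwne : ∀ i, w i ≠ 0 := by
    intro i h
    exact hv0 (mulVec_injective_GL (y ^ i) (a₁ := v) (a₂ := 0) (by
      rw [Matrix.toLin'_apply, Matrix.toLin'_apply, mulVec_zero]; exact h))
  have hindep : LinearIndependent F vs := by
    refine Module.End.eigenvectors_linearIndependent' (Matrix.toLin' (x : Matrix ι ι F))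
      (fun i => c ^ kx (e i).1) ?_ vs (fun i => ?_)
    · intro i i' h
      have h' : kx (e i).1 % n = kx (e i').1 % n := by
        have h2 : c ^ (kx (e i).1 % n) = c ^ (kx (e i').1 % n) := by
          rw [← pow_eq_pow_mod _ hcn, ← pow_eq_pow_mod _ hcn]; exact h
        exact hc.pow_inj (Nat.mod_lt _ hn.pos) (Nat.mod_lt _ hn.pos) h2
      have h3 : (e i).1 ≡ (e i').1 [MOD n] :=
        Nat.ModEq.add_left_cancel (show kx (e i).1 ≡ kx (e i').1 [MOD n] from h')
          ((hkx' _).trans (hkx' _).symm)
      exact e.injective (Fin.ext (Nat.ModEq.eq_of_lt_of_lt h3 (e i).2 (e i').2))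
    · exact ⟨Module.End.mem_eigenspace_iff.mpr (by rw [Matrix.toLin'_apply]; exact hkx _), hwne _⟩
  let P : Matrix ι ι F := Matrix.of fun r i => vs i r
  have hPu : IsUnit P := Matrix.linearIndependent_cols_iff_isUnit.mp hindep
  let Pu : GL ι F := hPu.unit
  have hPu' : (Pu : Matrix ι ι F) = P := rfl
  have hPs : ∀ i, (Pu : Matrix ι ι F) *ᵥ Pi.single i 1 = vs i := by
    intro i; ext r; simp [hPu', P]
  let Mono : GL ι F → Prop := fun g => ∀ i, ∃ (j : ι) (k : ℕ), (g : Matrix ι ι F) *ᵥ vs i = c ^ k • vs j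
  have hmul : ∀ g g', Mono g → Mono g' → Mono (g * g') := by
    intro g g' hg hg' i
    obtain ⟨j, k, hj⟩ := hg' i
    obtain ⟨j', k', hj'⟩ := hg j
    exact ⟨j', k + k', by rw [Units.val_mul, ← mulVec_mulVec, hj, mulVec_smul, hj', smul_smul, pow_add]⟩
  let S : Submonoid (GL ι F) :=
    { carrier := {g | Mono g}
      one_mem' := fun i => ⟨i, 0, by simp⟩
      mul_mem' := fun {a b} ha hb => hmul a b ha hb }
  let MonoG : Subgroup (GL ι F) :=
    { S with
      inv_mem' := fun {a} ha => by
        obtain ⟨m, hm⟩ : ∃ m : ℕ, a⁻¹ = a ^ m := ⟨orderOf a - 1, by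
          rw [inv_eq_iff_mul_eq_one, ← pow_succ', Nat.sub_add_cancel (orderOf_pos a), pow_orderOf_eq_one]⟩
        rw [hm]
        exact S.pow_mem ha m }
  have hK : N ≤ MonoG := by
    set K := Subgroup.closure {g : GL ι F | g = x ∨ g = y} with hKdef
    have hKM : K ≤ MonoG := by
      rw [hKdef, Subgroup.closure_le]
      rintro g (rfl | rfl) i
      · exact ⟨i, kx (e i).1, hkx _⟩
      · refine ⟨e.symm ⟨((e i).1 + 1) % n, Nat.mod_lt _ hn.pos⟩, 0, ?_⟩
        simp only [vs, Equiv.apply_symm_apply, pow_zero, one_smul]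
        rw [hwS, hwmod]
    have hKN : K ≤ N := by
      rw [hKdef, Subgroup.closure_le]
      rintro g (rfl | rfl) <;> assumption
    obtain ⟨k, hk⟩ := IsPGroup.iff_card.mp (hp.to_le hKN)
    have h3 : 3 ≤ k := by
      by_contra h
      have := comm_of_card_le_sq (M := K) (r := n) (by omega) hk ⟨x, Subgroup.subset_closure (Or.inl rfl)⟩
        ⟨y, Subgroup.subset_closure (Or.inr rfl)⟩
      exact hxy (congrArg Subtype.val this)
    have hKeq : K = N := Subgroup.eq_of_le_of_card_ge hKN (by
      rw [hk, hcardN]; exact Nat.pow_le_pow_right hn.pos h3)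
    exact hKeq ▸ hKM
  have hcol : ∀ g ∈ N, ∃ (j : ι → ι) (k : ι → ℕ), Function.Injective j ∧
      ((Pu⁻¹ : GL ι F) : Matrix ι ι F) * (g : Matrix ι ι F) * (Pu : Matrix ι ι F) =
        Matrix.of fun (r : ι) (i : ι) => if r = j i then c ^ k i else 0 := by
    intro g hg
    choose j k hjk using hK hg
    refine ⟨j, k, ?_, ?_⟩
    · intro i i' h
      by_contra hne
      have h1 : (g : Matrix ι ι F) *ᵥ (c ^ k i' • vs i - c ^ k i • vs i') = 0 := by
        rw [mulVec_sub, mulVec_smul, mulVec_smul, hjk, hjk, h, smul_smul, smul_smul, mul_comm, sub_self]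
      have h2 : c ^ k i' • vs i - c ^ k i • vs i' = 0 := by
        have := mulVec_injective_GL g (a₁ := c ^ k i' • vs i - c ^ k i • vs i') (a₂ := 0) (by simpa using h1)
        exact this
      rw [← hPs, ← hPs, ← mulVec_smul, ← mulVec_smul, ← mulVec_sub] at h2
      have h3 := mulVec_injective_GL Pu (a₁ := c ^ k i' • (Pi.single i 1 : ι → F) - c ^ k i • Pi.single i' 1)
        (a₂ := 0) (by simpa using h2)
      have h4 := congrFun h3 i
      simp [Pi.single_apply, hne, hc0] at h4
    · apply Matrix.ext_of_mulVec_single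
      intro i
      rw [← mulVec_mulVec, hPs, ← mulVec_mulVec, hjk, mulVec_smul, ← hPs, mulVec_mulVec, ← Units.val_mul,
        inv_mul_cancel, Units.val_one, one_mulVec]
      ext r
      simp [Pi.single_apply]
  refine ⟨fun F₀ hcF => ⟨Pu⁻¹, forall_matrixSet.mpr fun g hg r i => ?_⟩, ?_⟩
  · obtain ⟨j, k, -, hM⟩ := hcol g hg
    rw [inv_inv, hM]
    show (if r = j i then c ^ k i else 0) ∈ F₀
    split
    · exact pow_mem hcF _
    · exact zero_mem _
  intro σ hσne hσinv hσc
  set B : Matrix ι ι F := ((Pu⁻¹ : GL ι F) : Matrix ι ι F) with hB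
  refine ⟨fun u v => (B *ᵥ u) ⬝ᵥ (σ ∘ (B *ᵥ v)), ⟨hσne, hσinv, fun a b v => ?_, fun d a v => ?_, fun a b => ?_,
    fun u hu => ?_⟩, ?_⟩
  · rw [mulVec_add, add_dotProduct]
  · rw [mulVec_smul, smul_dotProduct, smul_eq_mul]
  · simp only [dotProduct, map_sum, Function.comp]
    exact Finset.sum_congr rfl fun r _ => by rw [map_mul, hσinv]; ring
  · have hBu : B *ᵥ u ≠ 0 := fun h => hu (mulVec_injective_GL Pu⁻¹ (by simpa [hB] using h))
    obtain ⟨r, hr⟩ := Function.ne_iff.mp hBu
    have hPB : B *ᵥ ((Pu : Matrix ι ι F) *ᵥ Pi.single r 1) = Pi.single r 1 := by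
      rw [mulVec_mulVec, hB, ← Units.val_mul, inv_mul_cancel, Units.val_one, one_mulVec]
    have hs : σ ∘ (Pi.single r 1 : ι → F) = Pi.single r 1 := by
      ext k; by_cases hk : k = r <;> simp [Pi.single_apply, hk]
    refine ⟨⟨(Pu : Matrix ι ι F) *ᵥ Pi.single r 1, ?_⟩, (Pu : Matrix ι ι F) *ᵥ Pi.single r 1, ?_⟩
    · rw [hPB, single_dotProduct, one_mul]
      simpa using hr
    · rw [hPB, hs, dotProduct_single, mul_one]
      exact hr
  · refine forall_matrixSet.mpr fun g hg => ?_
    obtain ⟨j, k, hj, hM⟩ := hcol g hg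
    intro u v
    set M : Matrix ι ι F := Matrix.of fun r i => if r = j i then c ^ k i else 0 with hMdef
    have e : ∀ u, B *ᵥ ((g : Matrix ι ι F) *ᵥ u) = M *ᵥ (B *ᵥ u) := by
      intro u
      rw [← hM, mulVec_mulVec, mulVec_mulVec,
        hB, mul_assoc, ← Units.val_mul Pu Pu⁻¹, mul_inv_cancel, Units.val_one, mul_one]
    have hMM : Mᵀ * M.map σ = 1 := by
      ext i l
      simp only [Matrix.mul_apply, transpose_apply, Matrix.map_apply, hMdef, Matrix.of_apply, apply_ite σ,
        map_pow, hσc, map_zero, Matrix.one_apply]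
      by_cases hil : i = l
      · subst hil
        simp [← mul_pow, mul_inv_cancel₀ hc0]
      · simp only [hil, if_false]
        refine Finset.sum_eq_zero fun r _ => ?_
        by_cases h1 : r = j i
        · have hne : ¬ j i = j l := fun h => hil (hj h)
          simp [h1, hne]
        · simp [h1]
    simp only [e]
    rw [comp_mulVec, dotProduct_mulVec, ← vecMul_transpose M, vecMul_vecMul, hMM, vecMul_one]

end CfsgLib.Aschbacher
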