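import Cfsg.Agent.Aschbacher.Basic

/-!
Subfields of a finite field and the normaliser of an absolutely irreducible group written over a subfield.
-/
set_option autoImplicit false
set_option maxHeartbeats 2000000

namespace CfsgLib.Aschbacher

open Matrix Cfsg.Geo CfsgLib.GeoClifford
open scoped MatrixGroups

variable {F : Type*} [Field F] [Fintype F]

lemma pow_sub_one_dvd (Q : ℕ) {k d : ℕ} (h : k ∣ d) : Q ^ k - 1 ∣ Q ^ d - 1 := by
  obtain ⟨e, rfl⟩ := h
  rw [pow_mul]
  simpa using Nat.sub_dvd_pow_sub_pow (Q ^ k) 1 e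

/-- If `|F| = p ^ f` and `m ∣ f` then `F` has a subfield of order `p ^ m`. -/
lemma exists_subfield_card {p f m : ℕ} (hp : p.Prime) (hF : Fintype.card F = p ^ f) (hm : m ∣ f)
    (hm0 : 0 < m) :
    ∃ F₀ : Subfield F, Nat.card F₀ = p ^ m ∧ ∀ x : F, x ^ p ^ m = x → x ∈ F₀ := by
  have hf0 : f ≠ 0 := by
    rintro rfl
    exact absurd hF (by have := Fintype.one_lt_card (α := F); rw [pow_zero]; omega)
  have : Fact p.Prime := ⟨hp⟩
  have hchar : CharP F p := charP_of_card_eq_prime_pow hF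
  let F₀ : Subfield F :=
    { carrier := {x | x ^ p ^ m = x}
      one_mem' := one_pow _
      zero_mem' := zero_pow (pow_ne_zero _ hp.ne_zero)
      mul_mem' := fun {a b} ha hb => by
        show (a * b) ^ p ^ m = a * b
        rw [mul_pow, ha, hb]
      add_mem' := fun {a b} ha hb => by
        show (a + b) ^ p ^ m = a + b
        rw [add_pow_char_pow, ha, hb]
      neg_mem' := fun {a} ha => by
        show (-a) ^ p ^ m = -a
        have h : a ^ p ^ m = a := ha
        have h2 : (a + -a) ^ p ^ m = a ^ p ^ m + (-a) ^ p ^ m := add_pow_char_pow a (-a) (p := p) (n := m)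
        rw [add_neg_cancel, zero_pow (pow_ne_zero _ hp.ne_zero), h] at h2
        exact eq_neg_of_add_eq_zero_right h2.symm
      inv_mem' := fun a ha => by
        show a⁻¹ ^ p ^ m = a⁻¹
        rw [inv_pow, ha] }
  refine ⟨F₀, ?_, fun x hx => hx⟩
  classical
  set Q := p ^ m with hQ
  have hQ1 : 1 < Q := Nat.one_lt_pow hm0.ne' hp.one_lt
  have hdvd : Q - 1 ∣ Fintype.card Fˣ := by
    rw [Fintype.card_units, hF, hQ]
    exact pow_sub_one_dvd p hm
  have hker : Nat.card (powMonoidHom (Q - 1) : Fˣ →* Fˣ).ker = Q - 1 := by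
    rw [IsCyclic.card_powMonoidHom_ker, Nat.card_eq_fintype_card, Nat.gcd_comm, Nat.gcd_eq_left hdvd]
  have e : F₀ ≃ Option (powMonoidHom (Q - 1) : Fˣ →* Fˣ).ker :=
    { toFun := fun x => if hx : (x : F) = 0 then none else some ⟨Units.mk0 x hx, by
        have h : (x : F) ^ Q = x := x.2
        refine Units.ext ?_
        show ((Units.mk0 (x : F) hx ^ (Q - 1) : Fˣ) : F) = ((1 : Fˣ) : F)
        rw [Units.val_pow_eq_pow_val, Units.val_mk0, Units.val_one]
        refine mul_right_cancel₀ hx ?_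
        rw [← pow_succ, Nat.sub_add_cancel hQ1.le, h, one_mul]⟩
      invFun := fun o => match o with
        | none => 0
        | some u => ⟨((u : Fˣ) : F), by
            have h : (u : Fˣ) ^ (Q - 1) = 1 := u.2
            have h' := congrArg Units.val h
            rw [Units.val_pow_eq_pow_val, Units.val_one] at h'
            show ((u : Fˣ) : F) ^ Q = ((u : Fˣ) : F)
            calc ((u : Fˣ) : F) ^ Q = ((u : Fˣ) : F) ^ ((Q - 1) + 1) :=
                  congrArg _ (Nat.sub_add_cancel hQ1.le).symm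
              _ = ((u : Fˣ) : F) := by rw [pow_succ, h', one_mul]⟩
      left_inv := fun x => by
        by_cases hx : (x : F) = 0
        · simp only [hx, dite_true]
          exact Subtype.ext hx.symm
        · simp [hx]
      right_inv := fun o => by
        cases o with
        | none => simp
        | some u => simp }
  rw [Nat.card_congr e, Finite.card_option, hker]
  omega

/-- A proper subfield lies in a subfield of prime index. -/
lemma exists_prime_index_ge {F₀ : Subfield F} (h : F₀ ≠ ⊤) :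
    ∃ (F₁ : Subfield F) (r : ℕ), F₀ ≤ F₁ ∧ r.Prime ∧ Fintype.card F = Nat.card F₁ ^ r := by
  classical
  obtain ⟨p, hchar⟩ := CharP.exists F
  obtain ⟨f, hp, hF⟩ := FiniteField.card F p
  have : Fact p.Prime := ⟨hp⟩
  obtain ⟨g, -, hg⟩ := FiniteField.card F₀ p
  have hpow := Module.card_eq_pow_finrank (K := F₀) (V := F)
  rw [hF, hg, ← pow_mul] at hpow
  have hfd : (f : ℕ) = g * Module.finrank F₀ F := Nat.pow_right_injective hp.two_le hpow
  have hd : Module.finrank F₀ F ≠ 1 := by
    intro h1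
    rw [h1, mul_one] at hfd
    apply h
    rw [eq_top_iff]
    intro x _
    have hsub : (Finset.univ.filter fun x : F => x ∈ F₀) = Finset.univ := by
      refine Finset.eq_univ_of_card _ ?_
      rw [← Fintype.card_subtype, hF, hfd, ← hg]
    exact (Finset.mem_filter.mp (hsub.ge (Finset.mem_univ x))).2
  set d := Module.finrank F₀ F with hdd
  obtain ⟨r, hr, hrd⟩ := Nat.exists_prime_and_dvd hd
  obtain ⟨k, hk⟩ := hrd
  have hk0 : 0 < k := by
    rcases Nat.eq_zero_or_pos k with rfl | hk0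
    · rw [hk, mul_zero, mul_zero] at hfd
      exact absurd hfd (Nat.pos_iff_ne_zero.mp f.pos)
    · exact hk0
  obtain ⟨F₁, hF1, hmem⟩ := exists_subfield_card hp hF (m := g * k) ⟨r, by rw [hfd, hk]; ring⟩
    (Nat.mul_pos g.pos hk0)
  refine ⟨F₁, r, fun x hx => hmem x ?_, hr, ?_⟩
  · have h1 : (⟨x, hx⟩ : F₀) ^ (p ^ (g : ℕ)) ^ k = ⟨x, hx⟩ := by
      rw [← hg]; exact FiniteField.pow_card_pow k _
    rw [← pow_mul] at h1
    exact congrArg Subtype.val h1
  · rw [hF1, hF, ← pow_mul, hfd, hk]; ring_nf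

variable {ι : Type} [Fintype ι] [DecidableEq ι]

omit [Fintype F] in
lemma realisableOver_mono {F₀ F₁ : Subfield F} (h : F₀ ≤ F₁) {S : Set (Matrix ι ι F)}
    (hS : RealisableOver F₀ S) : RealisableOver F₁ S := by
  obtain ⟨B, hB⟩ := hS
  exact ⟨B, fun s hs i j => h (hB s hs i j)⟩

omit [Fintype F] in
/-- The normaliser of an absolutely irreducible group written over `F₀` lies in a subfield group. -/
lemma le_subfieldSubgroup [Nonempty ι] {G N : Subgroup (GL ι F)} (habs : ActsAbsolutelyIrreducibly (matrixSet N))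
    (hN : NormSub G N) (F₀ : Subfield F) (B : GL ι F)
    (hB : ∀ s ∈ matrixSet N, ∀ i j,
      ((B : Matrix ι ι F) * s * ((B⁻¹ : GL ι F) : Matrix ι ι F)) i j ∈ F₀) :
    G ≤ subfieldSubgroup F₀ B⁻¹ := by
  classical
  intro g hg
  set X : GL ι F := B * g * B⁻¹ with hX
  obtain ⟨i0, j0, hne⟩ : ∃ i j, (X : Matrix ι ι F) i j ≠ 0 := by
    by_contra h
    push Not at h
    exact X.ne_zero (Matrix.ext h)
  obtain ⟨π, hπ⟩ : ∃ π : Module.Dual F₀ F, π ((X : Matrix ι ι F) i0 j0) ≠ 0 := by
    by_contra h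
    push Not at h
    exact hne ((Module.forall_dual_apply_eq_zero_iff F₀ _).mp h)
  let Y0 : Matrix ι ι F₀ := fun i j => π ((X : Matrix ι ι F) i j)
  let Y : Matrix ι ι F := Y0.map F₀.subtype
  have hY : ∀ n ∈ N, Y * ((B * n * B⁻¹ : GL ι F) : Matrix ι ι F) =
      ((B * (g * n * g⁻¹) * B⁻¹ : GL ι F) : Matrix ι ι F) * Y := by
    intro n hn
    have h1 := hB _ (coe_mem_matrixSet hn)
    have h2 := hB _ (coe_mem_matrixSet (hN.2 g hg n hn))
    simp only [← Units.val_mul] at h1 h2
    have hXn : (X : Matrix ι ι F) * ((B * n * B⁻¹ : GL ι F) : Matrix ι ι F) =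
        ((B * (g * n * g⁻¹) * B⁻¹ : GL ι F) : Matrix ι ι F) * (X : Matrix ι ι F) := by
      rw [← Units.val_mul, ← Units.val_mul, hX]
      congr 1
      group
    generalize ((B * n * B⁻¹ : GL ι F) : Matrix ι ι F) = a at h1 hXn ⊢
    generalize ((B * (g * n * g⁻¹) * B⁻¹ : GL ι F) : Matrix ι ι F) = b at h2 hXn ⊢
    ext i j
    have e1 : ∀ k, (π ((X : Matrix ι ι F) i k) : F) * a k j = π ((X : Matrix ι ι F) i k * a k j) := by
      intro k
      rw [show (X : Matrix ι ι F) i k * a k j = (⟨a k j, h1 k j⟩ : F₀) • (X : Matrix ι ι F) i k from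
        mul_comm _ _, map_smul]
      exact mul_comm _ _
    have e2 : ∀ k, b i k * (π ((X : Matrix ι ι F) k j) : F) = π (b i k * (X : Matrix ι ι F) k j) := by
      intro k
      rw [show b i k * (X : Matrix ι ι F) k j = (⟨b i k, h2 i k⟩ : F₀) • (X : Matrix ι ι F) k j from rfl,
        map_smul]
      rfl
    show ∑ k, (π ((X : Matrix ι ι F) i k) : F) * a k j = ∑ k, b i k * (π ((X : Matrix ι ι F) k j) : F)
    rw [Finset.sum_congr rfl (fun k _ => e1 k), Finset.sum_congr rfl (fun k _ => e2 k)]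
    rw [← AddSubmonoidClass.coe_finsetSum, ← AddSubmonoidClass.coe_finsetSum, ← map_sum, ← map_sum]
    exact congrArg (fun M : Matrix ι ι F => ((π (M i j) : F₀) : F)) hXn
  set U : GL ι F := B⁻¹ * X⁻¹ with hU
  obtain ⟨c, hc⟩ := habs.2 ((U : Matrix ι ι F) * Y * (B : Matrix ι ι F)) (forall_matrixSet.mpr fun n hn => by
    have h := hY n hn
    have ha : ((B * n * B⁻¹ : GL ι F) : Matrix ι ι F) * (B : Matrix ι ι F) =
        (B : Matrix ι ι F) * (n : Matrix ι ι F) := by
      rw [← Units.val_mul, ← Units.val_mul, inv_mul_cancel_right]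
    have hb : (U : Matrix ι ι F) * ((B * (g * n * g⁻¹) * B⁻¹ : GL ι F) : Matrix ι ι F) =
        (n : Matrix ι ι F) * (U : Matrix ι ι F) := by
      rw [← Units.val_mul, ← Units.val_mul, hU, hX]
      congr 1
      group
    generalize ((B * n * B⁻¹ : GL ι F) : Matrix ι ι F) = a at h ha
    generalize ((B * (g * n * g⁻¹) * B⁻¹ : GL ι F) : Matrix ι ι F) = b at h hb
    generalize (U : Matrix ι ι F) = u at hb ⊢
    calc u * Y * (B : Matrix ι ι F) * (n : Matrix ι ι F) = u * Y * (a * (B : Matrix ι ι F)) := by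
          rw [ha, mul_assoc]
      _ = u * (Y * a) * (B : Matrix ι ι F) := by simp only [mul_assoc]
      _ = u * b * (Y * (B : Matrix ι ι F)) := by rw [h]; simp only [mul_assoc]
      _ = (n : Matrix ι ι F) * (u * Y * (B : Matrix ι ι F)) := by rw [hb]; simp only [mul_assoc])
  have hYc : Y = c • (X : Matrix ι ι F) := by
    have h1 : ((X * B : GL ι F) : Matrix ι ι F) * (U : Matrix ι ι F) = 1 := by
      rw [← Units.val_mul, hU, show X * B * (B⁻¹ * X⁻¹) = 1 from by group, Units.val_one]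
    calc Y = ((X * B : GL ι F) : Matrix ι ι F) * ((U : Matrix ι ι F) * Y * (B : Matrix ι ι F)) *
          ((B⁻¹ : GL ι F) : Matrix ι ι F) := by
          rw [← mul_assoc, ← mul_assoc, h1, one_mul, mul_assoc Y, Units.mul_inv, mul_one]
      _ = c • (X : Matrix ι ι F) := by
          rw [hc, mul_smul_comm, mul_one, smul_mul_assoc, ← Units.val_mul, mul_inv_cancel_right]
  have hc0 : c ≠ 0 := by
    intro h0
    apply hπ
    apply Subtype.ext
    have h1 := congrFun (congrFun hYc i0) j0
    rw [h0, zero_smul] at h1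
    exact h1
  have hdet : Y0.det ≠ 0 := by
    intro h0
    have h1 : Y.det = 0 := by
      rw [show Y = F₀.subtype.mapMatrix Y0 from rfl, ← RingHom.map_det, h0, map_zero]
    rw [hYc, Matrix.det_smul] at h1
    exact mul_ne_zero (pow_ne_zero _ hc0) ((Matrix.GeneralLinearGroup.det X).ne_zero) h1
  let y : GL ι F₀ := Matrix.GeneralLinearGroup.mkOfDetNeZero Y0 hdet
  let sc : GL ι F := Units.map (Matrix.scalar ι : F →+* Matrix ι ι F).toMonoidHom (Units.mk0 c⁻¹ (inv_ne_zero hc0))
  refine ⟨X, ?_, by simp [hX, mul_assoc]⟩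
  have hXeq : X = Matrix.GeneralLinearGroup.map (F₀.subtype : F₀ →+* F) y * sc := by
    refine Units.ext ?_
    show (X : Matrix ι ι F) = Y * Matrix.scalar ι c⁻¹
    rw [hYc, Matrix.scalar_apply, ← Matrix.smul_one_eq_diagonal]
    simp [smul_smul, inv_mul_cancel₀ hc0]
  rw [SetLike.mem_coe, hXeq]
  exact Subgroup.mul_mem_sup ⟨y, rfl⟩ ⟨_, rfl⟩

/-- Realisability over a proper subfield forces a subfield group of prime index. -/
lemma exists_subfield_group [Nonempty ι] {G N : Subgroup (GL ι F)}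
    (habs : ActsAbsolutelyIrreducibly (matrixSet N)) (hN : NormSub G N) {F₀ : Subfield F} (h : F₀ ≠ ⊤)
    (hre : RealisableOver F₀ (matrixSet N)) :
    ∃ (F₁ : Subfield F) (r : ℕ) (P : GL ι F), r.Prime ∧ Fintype.card F = Nat.card F₁ ^ r ∧
      G ≤ subfieldSubgroup F₁ P := by
  obtain ⟨F₁, r, hle, hr, hcard⟩ := exists_prime_index_ge h
  obtain ⟨B, hB⟩ := realisableOver_mono hle hre
  exact ⟨F₁, r, B⁻¹, hr, hcard, le_subfieldSubgroup habs hN F₁ B hB⟩

end CfsgLib.Aschbacher
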