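import Cfsg.Agent.Aschbacher.Forms
import Cfsg.Agent.Aschbacher.Subfield
import Cfsg.Agent.Aschbacher.Extraspecial

/-!
Members of the geometric classes do not contain the special linear group; small monomial groups.
-/
set_option autoImplicit false

namespace CfsgLib.Aschbacher

open Matrix Cfsg.Geo CfsgLib.GeoClifford
open scoped MatrixGroups commutatorElement

variable {ι : Type} [Fintype ι] [DecidableEq ι] {F : Type*} [Field F]

lemma eq_inf_of_le {M S H : Subgroup (GL ι F)} (hH : IsMaximalIn S H) (hle : H ≤ M) (hS : ¬ S ≤ M) :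
    H = M ⊓ S := by
  rcases hH.2 (M ⊓ S) (le_inf hle hH.1.le) inf_le_right with h | h
  · exact h.symm
  · exact absurd (h ▸ inf_le_left) hS

lemma specialLinear_not_le_subspace {W : Submodule F (ι → F)} (h0 : W ≠ ⊥) (h1 : W ≠ ⊤) :
    ¬ specialLinear ι F ≤ subspaceStabilizer W := by
  intro hle
  obtain ⟨g, hg, hgW⟩ := CfsgLib.Geo.exists_specialLinear_notMem_stabilizer h0 h1
  exact hgW (hle hg)

/-- A basis adapted to a decomposition into lines. -/
lemma exists_line_basis {D : Fin (Fintype.card ι) → Submodule F (ι → F)} (hD : IsMDecomposition 1 D) :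
    ∃ b : Fin (Fintype.card ι) → (ι → F), LinearIndependent F b ∧ ∀ i, D i = Submodule.span F {b i} := by
  have hex : ∀ i, ∃ v, v ≠ 0 ∧ D i = Submodule.span F {v} := by
    intro i
    obtain ⟨v, hv, hv0⟩ := (D i).ne_bot_iff.mp (by
      intro h
      have := hD.finrank_eq i
      rw [h, finrank_bot] at this
      omega)
    exact ⟨v, hv0, (Submodule.eq_of_le_of_finrank_eq (Submodule.span_le.mpr (Set.singleton_subset_iff.mpr hv))
      (by rw [finrank_span_singleton hv0, hD.finrank_eq i])).symm⟩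
  choose b hb hbD using hex
  exact ⟨b, hD.indep.linearIndependent D (fun i => by rw [hbD i]; exact Submodule.mem_span_singleton_self _) hb, hbD⟩

lemma specialLinear_not_le_lines (hn : 2 ≤ Fintype.card ι) {D : Fin (Fintype.card ι) → Submodule F (ι → F)}
    (hD : IsMDecomposition 1 D) : ¬ specialLinear ι F ≤ decompositionStabilizer D := by
  intro hle
  obtain ⟨b, hb, hbD⟩ := exists_line_basis hD
  set i : Fin (Fintype.card ι) := ⟨0, by omega⟩
  set j : Fin (Fintype.card ι) := ⟨1, by omega⟩
  have hij : i ≠ j := by simp [i, j]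
  have hnot : b i ∉ Submodule.span F {b j} := by
    intro h
    exact hb.notMem_span_image (s := {j}) (by simpa using hij) (by simpa using h)
  obtain ⟨φ, hφ, hφi⟩ := CfsgLib.Geo.exists_covector _ hnot
  have hφj : φ ⬝ᵥ b j = 0 := hφ _ (Submodule.mem_span_singleton_self _)
  obtain ⟨σ, hσ⟩ := hle (CfsgLib.Geo.tvec_mem_specialLinear (b j) φ hφj)
  have hmem : b i + b j ∈ D (σ i) := by
    rw [← hσ i, Submodule.mem_map]
    refine ⟨b i, hbD i ▸ Submodule.mem_span_singleton_self _, ?_⟩
    rw [Matrix.toLin'_apply, CfsgLib.Geo.tvec_mulVec, hφi, one_smul]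
  rw [hbD] at hmem
  obtain ⟨c, hc⟩ := Submodule.mem_span_singleton.mp hmem
  by_cases hk : σ i = i
  · have h2 : b j ∈ Submodule.span F (b '' {i}) := by
      rw [Set.image_singleton, Submodule.mem_span_singleton]
      refine ⟨c - 1, ?_⟩
      rw [hk] at hc
      rw [sub_smul, hc, one_smul, add_sub_cancel_left]
    exact hb.notMem_span_image (by simpa using hij.symm) h2
  · have h2 : b i ∈ Submodule.span F (b '' {j, σ i}) := by
      have h1 : b i = c • b (σ i) - b j := by rw [hc, add_sub_cancel_right]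
      rw [h1]
      refine Submodule.sub_mem _ (Submodule.smul_mem _ _ ?_) ?_
      · exact Submodule.subset_span ⟨σ i, by simp, rfl⟩
      · exact Submodule.subset_span ⟨j, by simp, rfl⟩
    refine hb.notMem_span_image ?_ h2
    simp only [Set.mem_insert_iff, Set.mem_singleton_iff, not_or]
    exact ⟨hij, fun h => hk h.symm⟩

/-- A nontrivial transvection normalises no extension field. -/
lemma tvec_notMem_subalgebraNormalizer (hn : 3 ≤ Fintype.card ι) {r : ℕ} (hr : 2 ≤ r)
    {K : Subalgebra F (Matrix ι ι F)} (hK : IsFieldSubalgebra r K) {a φ : ι → F} (hφa : φ ⬝ᵥ a = 0)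
    (ha : a ≠ 0) (hφ : φ ≠ 0) : CfsgLib.Geo.tvec a φ hφa ∉ subalgebraNormalizer K := by
  intro hmem
  have : Nonempty ι := Fintype.card_pos_iff.mp (by omega)
  obtain ⟨j, hj⟩ := Function.ne_iff.mp hφ
  obtain ⟨w, hφw⟩ : ∃ w, φ ⬝ᵥ w = 1 := ⟨Pi.single j (φ j)⁻¹, by
    rw [dotProduct_single, mul_inv_cancel₀ hj]⟩
  suffices hbot : K = ⊥ by
    have := hK.finrank_eq
    rw [hbot, Subalgebra.finrank_bot] at this
    omega
  rw [eq_bot_iff_scalar]
  intro k hk
  set t := CfsgLib.Geo.tvec a φ hφa
  set d : Matrix ι ι F := (t : Matrix ι ι F) * k * ((t⁻¹ : GL ι F) : Matrix ι ι F) - k with hd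
  have hdK : d ∈ K := K.sub_mem ((hmem k).mp hk) hk
  -- `d` has a kernel
  let L : (ι → F) →ₗ[F] F × F :=
    { toFun := fun v => (φ ⬝ᵥ v, φ ⬝ᵥ (k *ᵥ v))
      map_add' := fun x y => by simp [mulVec_add]
      map_smul' := fun c x => by simp [mulVec_smul] }
  obtain ⟨v, hv, hv0⟩ := (LinearMap.ker L).ne_bot_iff.mp (fun h => by
    have := LinearMap.finrank_range_add_finrank_ker L
    have h2 := Submodule.finrank_le (LinearMap.range L)
    rw [h, finrank_bot, Module.finrank_fintype_fun_eq_card] at this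
    rw [Module.finrank_prod, Module.finrank_self] at h2
    omega)
  rw [LinearMap.mem_ker] at hv
  have h1 : φ ⬝ᵥ v = 0 := congrArg Prod.fst hv
  have h2 : φ ⬝ᵥ (k *ᵥ v) = 0 := congrArg Prod.snd hv
  have htv : (t : Matrix ι ι F) *ᵥ v = v := by rw [CfsgLib.Geo.tvec_mulVec, h1, zero_smul, add_zero]
  have hdv : d *ᵥ v = 0 := by
    have h3 : ((t⁻¹ : GL ι F) : Matrix ι ι F) *ᵥ v = v := by
      conv_lhs => rw [← htv, CfsgLib.Geo.inv_mulVec_mulVec]
    rw [hd, sub_mulVec, ← mulVec_mulVec, ← mulVec_mulVec, h3, CfsgLib.Geo.tvec_mulVec, h2, zero_smul,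
      add_zero, sub_self]
  have hd0 : d = 0 := by
    by_contra h
    obtain ⟨y, hy, hy1⟩ := hK.inv d hdK h
    apply hv0
    rw [← one_mulVec v, ← hy1, hK.comm d hdK y hy, ← mulVec_mulVec, hdv, mulVec_zero]
  have hcomm : (t : Matrix ι ι F) * k = k * (t : Matrix ι ι F) := by
    rw [hd, sub_eq_zero] at hd0
    calc (t : Matrix ι ι F) * k = (t : Matrix ι ι F) * k * (((t⁻¹ : GL ι F) : Matrix ι ι F) * t) := by simp
      _ = k * t := by rw [← mul_assoc, hd0]
  have hka : k *ᵥ a = (φ ⬝ᵥ (k *ᵥ w)) • a := by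
    have := congrArg (fun M => M *ᵥ w) hcomm
    simp only [← mulVec_mulVec, t, CfsgLib.Geo.tvec_mulVec, hφw, one_smul, mulVec_add] at this
    exact (add_left_cancel this).symm
  refine ⟨φ ⬝ᵥ (k *ᵥ w), ?_⟩
  by_contra hne
  have hmem : k - (φ ⬝ᵥ (k *ᵥ w)) • (1 : Matrix ι ι F) ∈ K := K.sub_mem hk (K.smul_mem K.one_mem _)
  obtain ⟨y, hy, hy1⟩ := hK.inv _ hmem (sub_ne_zero.mpr hne)
  apply ha
  rw [← one_mulVec a, ← hy1, hK.comm _ hmem y hy, ← mulVec_mulVec, sub_mulVec, smul_mulVec, one_mulVec, hka,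
    sub_self, mulVec_zero]

lemma specialLinear_not_le_field (hn : 3 ≤ Fintype.card ι) {r : ℕ} (hr : 2 ≤ r)
    {K : Subalgebra F (Matrix ι ι F)} (hK : IsFieldSubalgebra r K) :
    ¬ specialLinear ι F ≤ subalgebraNormalizer K := by
  obtain ⟨i, j, hij⟩ := Fintype.exists_pair_of_one_lt_card (α := ι) (by omega)
  have hφ : (Pi.single j 1 : ι → F) ⬝ᵥ Pi.single i 1 = 0 := by simp [hij.symm]
  exact fun hle => tvec_notMem_subalgebraNormalizer hn hr hK hφ (by simp) (by simp)
    (hle (CfsgLib.Geo.tvec_mem_specialLinear _ _ hφ))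

lemma specialLinear_not_le_subfield (hn : 2 ≤ Fintype.card ι) {F₀ : Subfield F} (h : F₀ ≠ ⊤) (P : GL ι F) :
    ¬ specialLinear ι F ≤ subfieldSubgroup F₀ P := by
  intro hle
  obtain ⟨l, -, hl⟩ := SetLike.exists_of_lt (lt_top_iff_ne_top.mpr h)
  obtain ⟨i, j, hij⟩ := Fintype.exists_pair_of_one_lt_card (α := ι) (by omega)
  have hφ : (Pi.single j l : ι → F) ⬝ᵥ Pi.single i 1 = 0 := by
    simp [single_dotProduct, Pi.single_apply, hij.symm]
  set t := CfsgLib.Geo.tvec (Pi.single i 1) (Pi.single j l) hφ with ht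
  obtain ⟨x, hx, hxe⟩ := hle (show MulAut.conj P t ∈ specialLinear ι F from
    (MonoidHom.normal_ker _).conj_mem t (CfsgLib.Geo.tvec_mem_specialLinear _ _ hφ) P)
  have hxt : x = t := (MulAut.conj P).injective hxe
  subst hxt
  obtain ⟨_, ⟨y, rfl⟩, s, hs, hys⟩ := Subgroup.mem_sup_of_normal_right.mp hx
  obtain ⟨c, hc⟩ := (mem_scalars_iff s).mp hs
  have hmat : (t : Matrix ι ι F) = (c : F) • ((y : Matrix ι ι F₀).map F₀.subtype) := by
    rw [← hys, Units.val_mul, hc, mul_smul_comm, mul_one]
    rfl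
  have hii := congrFun (congrFun hmat i) i
  have hij' := congrFun (congrFun hmat i) j
  simp only [ht, CfsgLib.Geo.tvec_val, Matrix.add_apply, Matrix.one_apply_eq, Matrix.one_apply_ne hij,
    vecMulVec_apply, Pi.single_eq_same, Pi.single_eq_of_ne hij, one_mul, mul_zero, zero_add, add_zero,
    Matrix.smul_apply, Matrix.map_apply, smul_eq_mul, Subfield.coe_subtype] at hii hij'
  apply hl
  have hci : (c : F) ∈ F₀ := by
    have hy0 : ((y : Matrix ι ι F₀) i i : F) ≠ 0 := fun h0 => by rw [h0, mul_zero] at hii; exact one_ne_zero hii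
    rw [eq_inv_of_mul_eq_one_left hii.symm]
    exact F₀.inv_mem ((y : Matrix ι ι F₀) i i).2
  rw [hij']
  exact F₀.mul_mem hci ((y : Matrix ι ι F₀) i j).2

/-- A nontrivial transvection normalises no absolutely irreducible group of class two modulo scalars. -/
lemma tvec_notMem_normalizer (hn : 5 ≤ Fintype.card ι) {R : Subgroup (GL ι F)}
    (hRi : ActsAbsolutelyIrreducibly (matrixSet R)) (hcl : ⁅R, R⁆ ≤ scalars ι F) {a φ : ι → F}
    (hφa : φ ⬝ᵥ a = 0) (ha : a ≠ 0) (hφ : φ ≠ 0) : CfsgLib.Geo.tvec a φ hφa ∉ subgroupNormalizer R := by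
  intro htR
  set t := CfsgLib.Geo.tvec a φ hφa with ht
  rw [subgroupNormalizer, Subgroup.mem_normalizer_iff] at htR
  have hcomm : ∀ x ∈ R, t * x = x * t := by
    intro x hx
    have hd : ⁅t, x⁆ ∈ R := by
      rw [commutatorElement_def]
      exact R.mul_mem ((htR x).mp hx) (R.inv_mem hx)
    have hd' := finrank_fixSpace_commutator t x
    have hW : Fintype.card ι ≤ Module.finrank F (fixSpace t) + 1 := by
      have hker : LinearMap.ker ((dotProductBilin F F) φ) ≤ fixSpace t := by
        intro v hv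
        rw [LinearMap.mem_ker] at hv
        rw [mem_fixSpace, ht, CfsgLib.Geo.tvec_mulVec, show φ ⬝ᵥ v = 0 from hv,
          zero_smul, add_zero]
      have h := LinearMap.finrank_range_add_finrank_ker ((dotProductBilin F F) φ)
      have h2 := Submodule.finrank_le (LinearMap.range ((dotProductBilin F F) φ))
      have h3 := Submodule.finrank_mono hker
      rw [Module.finrank_self] at h2
      rw [Module.finrank_fintype_fun_eq_card] at h
      omega
    generalize hdx : ⁅t, x⁆ = d at hd hd'
    suffices hd1 : d = 1 from commutatorElement_eq_one_iff_mul_comm.mp (hdx.trans hd1)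
    by_contra hne
    by_cases hcen : ∀ y ∈ R, y * d = d * y
    · obtain ⟨c, hc⟩ := hRi.2 (d : Matrix ι ι F) (forall_matrixSet.mpr fun y hy => by
        simpa using (congrArg Units.val (hcen y hy)).symm)
      have hc1 : c - 1 ≠ 0 := fun h => hne (Units.ext (by rw [hc, sub_eq_zero.mp h, one_smul, Units.val_one]))
      have : fixSpace d = ⊥ := by
        rw [Submodule.eq_bot_iff]
        intro v hv
        rw [mem_fixSpace, hc, smul_mulVec, one_mulVec] at hv
        have : (c - 1) • v = 0 := by rw [sub_smul, hv, one_smul, sub_self]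
        exact (smul_eq_zero.mp this).resolve_left hc1
      rw [this, finrank_bot] at hd'
      omega
    · push Not at hcen
      obtain ⟨y, hy, hyd⟩ := hcen
      obtain ⟨c, hc⟩ := (mem_scalars_iff _).mp (hcl (Subgroup.commutator_mem_commutator hy hd))
      have hc1 : (c : F) - 1 ≠ 0 := fun h => hyd (commutatorElement_eq_one_iff_mul_comm.mp
        (Units.ext (by rw [hc, sub_eq_zero.mp h, one_smul, Units.val_one])))
      have hdisj : fixSpace d ⊓ (fixSpace d).map (Matrix.toLin' (y : Matrix ι ι F)) = ⊥ := by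
        rw [Submodule.eq_bot_iff]
        rintro w ⟨hw, hw'⟩
        obtain ⟨v, hv, rfl⟩ := Submodule.mem_map.mp hw'
        rw [mem_fixSpace] at hv
        rw [SetLike.mem_coe, mem_fixSpace, Matrix.toLin'_apply] at hw
        have e : y * d = ⁅y, d⁆ * (d * y) := by rw [commutatorElement_def]; group
        have h := congrArg (fun M : GL ι F => (M : Matrix ι ι F) *ᵥ v) e
        simp only [Units.val_mul, hc, smul_mul_assoc, one_mul, smul_mulVec, ← mulVec_mulVec, hv, hw] at h
        have h' : ((c : F) - 1) • ((y : Matrix ι ι F) *ᵥ v) = 0 := by rw [sub_smul, ← h, one_smul, sub_self]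
        rw [Matrix.toLin'_apply]
        exact (smul_eq_zero.mp h').resolve_left hc1
      have h := Submodule.finrank_sup_add_finrank_inf_eq (fixSpace d) ((fixSpace d).map (Matrix.toLin' (y : Matrix ι ι F)))
      rw [hdisj, finrank_bot, ← (Submodule.equivMapOfInjective _ (mulVec_injective_GL y) _).finrank_eq] at h
      have h2 := Submodule.finrank_le (fixSpace d ⊔ (fixSpace d).map (Matrix.toLin' (y : Matrix ι ι F)))
      rw [Module.finrank_fintype_fun_eq_card] at h2
      omega
  obtain ⟨c, hc⟩ := hRi.2 (t : Matrix ι ι F) (forall_matrixSet.mpr fun x hx => by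
    simpa using congrArg Units.val (hcomm x hx))
  obtain ⟨v, hv, hv0⟩ := (LinearMap.ker (dotProductBilin F F φ)).ne_bot_iff.mp (fun h => by
    have := LinearMap.finrank_range_add_finrank_ker (dotProductBilin F F φ)
    have h2 := Submodule.finrank_le (LinearMap.range (dotProductBilin F F φ))
    rw [Module.finrank_self] at h2
    rw [h, finrank_bot, Module.finrank_fintype_fun_eq_card] at this
    omega)
  have hv' : φ ⬝ᵥ v = 0 := hv
  have h1 := congrArg (fun M => M *ᵥ v) hc
  simp only [ht, CfsgLib.Geo.tvec_mulVec, hv', zero_smul, add_zero, smul_mulVec, one_mulVec] at h1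
  have hc1 : c = 1 := by
    have : (c - 1) • v = 0 := by rw [sub_smul, ← h1, one_smul, sub_self]
    exact sub_eq_zero.mp ((smul_eq_zero.mp this).resolve_right hv0)
  obtain ⟨j, hj⟩ := Function.ne_iff.mp hφ
  have h2 := congrArg (fun M => M *ᵥ Pi.single j 1) hc
  simp only [ht, CfsgLib.Geo.tvec_mulVec, hc1, one_smul, one_mulVec, dotProduct_single, mul_one, add_eq_left,
    smul_eq_zero] at h2
  exact h2.elim hj ha

lemma specialLinear_not_le_normalizer (hn : 5 ≤ Fintype.card ι) {R : Subgroup (GL ι F)}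
    (hRi : ActsAbsolutelyIrreducibly (matrixSet R)) (hcl : ⁅R, R⁆ ≤ scalars ι F) :
    ¬ specialLinear ι F ≤ subgroupNormalizer R := by
  obtain ⟨i, j, hij⟩ := Fintype.exists_pair_of_one_lt_card (α := ι) (by omega)
  have hφ : (Pi.single j 1 : ι → F) ⬝ᵥ Pi.single i 1 = 0 := by simp [hij.symm]
  exact fun hle => tvec_notMem_normalizer hn hRi hcl hφ (by simp) (by simp)
    (hle (CfsgLib.Geo.tvec_mem_specialLinear _ _ hφ))

variable [Fintype F]

/-- A monomial group over at most four elements fixes a vector or a form. -/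
lemma monomial_small (hn : 2 ≤ Fintype.card ι) (hq : Fintype.card F < 5) {G : Subgroup (GL ι F)}
    {D : Fin (Fintype.card ι) → Submodule F (ι → F)} (hD : IsMDecomposition 1 D)
    (hG : G ≤ decompositionStabilizer D) :
    (∃ W : Submodule F (ι → F), W ≠ ⊥ ∧ W ≠ ⊤ ∧ G ≤ subspaceStabilizer W) ∨
      (Odd (Fintype.card F) ∧ ∃ Q, IsNondegenerateQuadraticForm Q ∧ G ≤ quadSimilarityGroup Q) ∨
      (∃ (σ : F ≃+* F) (f : (ι → F) → (ι → F) → F), IsUnitaryForm σ f ∧ G ≤ similarityGroup f) := by
  classical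
  obtain ⟨b, hb, hbD⟩ := exists_line_basis hD
  have hcard : Fintype.card (Fin (Fintype.card ι)) = Module.finrank F (ι → F) := by
    rw [Module.finrank_fintype_fun_eq_card, Fintype.card_fin]
  have : Nonempty (Fin (Fintype.card ι)) := ⟨⟨0, by omega⟩⟩
  let B := basisOfLinearIndependentOfCardEqFinrank hb hcard
  have hB : ∀ i, B i = b i := fun i => by simp [B]
  -- every element permutes the basis up to units
  have hmon : ∀ g ∈ G, ∃ (σ : Equiv.Perm (Fin (Fintype.card ι))) (a : Fin (Fintype.card ι) → F), (∀ i, a i ≠ 0) ∧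
      ∀ v i, B.repr ((g : Matrix ι ι F) *ᵥ v) (σ i) = a i * B.repr v i := by
    intro g hg
    obtain ⟨σ, hσ⟩ := hG hg
    have : ∀ i, ∃ a : F, a ≠ 0 ∧ (g : Matrix ι ι F) *ᵥ b i = a • b (σ i) := by
      intro i
      have hmem : (g : Matrix ι ι F) *ᵥ b i ∈ D (σ i) := by
        rw [← hσ i, Submodule.mem_map]
        exact ⟨b i, hbD i ▸ Submodule.mem_span_singleton_self _, by simp⟩
      rw [hbD] at hmem
      obtain ⟨a, ha⟩ := Submodule.mem_span_singleton.mp hmem
      refine ⟨a, ?_, ha.symm⟩
      rintro rfl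
      rw [zero_smul] at ha
      exact hb.ne_zero i (mulVec_injective_GL g (by simpa using ha.symm))
    choose a ha0 ha using this
    refine ⟨σ, a, ha0, fun v i => ?_⟩
    conv_lhs => rw [← B.sum_repr v]
    simp only [mulVec_sum, mulVec_smul, hB, ha]
    simp only [← hB, map_sum, map_smul, Finsupp.coe_finsetSum, Finset.sum_apply, Finsupp.coe_smul, Pi.smul_apply,
      Module.Basis.repr_self, Finsupp.single_apply, smul_eq_mul, mul_ite, mul_one, mul_zero, EmbeddingLike.apply_eq_iff_eq]
    rw [Finset.sum_ite_eq' Finset.univ i (fun j => B.repr v j * a j)]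
    simp [mul_comm]
  have hsingle : ∀ v ≠ 0, ∃ i, B.repr v i ≠ 0 := by
    intro v hv
    by_contra h
    push Not at h
    exact hv (B.repr.map_eq_zero_iff.mp (Finsupp.ext h))
  have hunit : ∀ a : F, a ≠ 0 → a ^ (Fintype.card F - 1) = 1 := fun a ha => FiniteField.pow_card_sub_one_eq_one a ha
  have hq2 := Fintype.one_lt_card (α := F)
  obtain hq' | hq' | hq' : Fintype.card F = 2 ∨ Fintype.card F = 3 ∨ Fintype.card F = 4 := by omega
  · left
    set s : ι → F := ∑ i, B i with hs
    have hrepr : ∀ i, B.repr s i = 1 := by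
      intro i
      simp [hs, Finsupp.single_apply]
    have hs0 : s ≠ 0 := fun h => by
      have := hrepr ⟨0, by omega⟩
      rw [h, map_zero] at this
      exact zero_ne_one this
    refine ⟨Submodule.span F {s}, by simp [hs0], ?_, fun g hg => CfsgLib.Geo.mem_subspaceStabilizer.mpr ?_⟩
    · intro h
      have := finrank_span_singleton (K := F) hs0
      rw [h, finrank_top, Module.finrank_fintype_fun_eq_card] at this
      omega
    · intro v hv
      obtain ⟨c, rfl⟩ := Submodule.mem_span_singleton.mp hv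
      rw [mulVec_smul]
      refine Submodule.smul_mem _ _ ?_
      suffices h : (g : Matrix ι ι F) *ᵥ s = s by rw [h]; exact Submodule.mem_span_singleton_self _
      obtain ⟨σ, a, ha0, ha⟩ := hmon g hg
      apply B.repr.injective
      ext k
      obtain ⟨i, rfl⟩ := σ.surjective k
      have := hunit (a i) (ha0 i)
      rw [hq', pow_one] at this
      rw [ha, hrepr, hrepr, this, one_mul]
  · right; left
    have hoddq : Odd (Fintype.card F) := by rw [hq']; exact ⟨1, rfl⟩
    have h2 : (2 : F) ≠ 0 := by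
      intro h
      have h3 := FiniteField.cast_card_eq_zero F
      rw [hq', show ((3 : ℕ) : F) = 2 + 1 by norm_num, h, zero_add] at h3
      exact one_ne_zero h3
    refine ⟨hoddq, fun v => ∑ i, B.repr v i ^ 2, ⟨fun c v => ?_, ?_, ?_⟩, fun g hg => ⟨1, fun v => ?_⟩⟩
    · simp [Finset.mul_sum, mul_pow]
    · have hp : ∀ u v, QuadraticMap.polar (fun v => ∑ i, B.repr v i ^ 2) u v = 2 * ∑ i, B.repr u i * B.repr v i := by
        intro u v
        simp only [QuadraticMap.polar, map_add, Finsupp.coe_add, Pi.add_apply, Finset.mul_sum, ← Finset.sum_sub_distrib]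
        exact Finset.sum_congr rfl fun i _ => by ring
      refine ⟨fun x y v => ?_, fun c x v => ?_, fun v x y => ?_, fun c v x => ?_⟩ <;>
        simp only [hp, map_add, map_smul, Finsupp.coe_add, Finsupp.coe_smul, Pi.add_apply, Pi.smul_apply,
          smul_eq_mul, Finset.mul_sum, ← Finset.sum_add_distrib] <;>
        exact Finset.sum_congr rfl fun i _ => by ring
    · intro v hv
      obtain ⟨i, hi⟩ := hsingle v hv
      have hp : ∀ u v, QuadraticMap.polar (fun v => ∑ i, B.repr v i ^ 2) u v = 2 * ∑ i, B.repr u i * B.repr v i := by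
        intro u v
        simp only [QuadraticMap.polar, map_add, Finsupp.coe_add, Pi.add_apply, Finset.mul_sum, ← Finset.sum_sub_distrib]
        exact Finset.sum_congr rfl fun i _ => by ring
      refine ⟨⟨B i, ?_⟩, B i, ?_⟩ <;> rw [hp] <;>
        simp [Finsupp.single_apply, h2, hi]
    · obtain ⟨σ, a, ha0, ha⟩ := hmon g hg
      simp only [Units.val_one, one_mul]
      rw [← Equiv.sum_comp σ]
      refine Finset.sum_congr rfl fun i _ => ?_
      have := hunit (a i) (ha0 i)
      rw [hq'] at this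
      rw [ha, mul_pow, this, one_mul]
  · right; right
    have : CharP F 2 := charP_of_card_eq_prime_pow (p := 2) (f := 2) (by rw [hq']; rfl)
    let τ : F ≃+* F := RingEquiv.ofBijective (frobenius F 2)
      (Finite.injective_iff_bijective.mp (frobenius_inj F 2))
    have hτ : ∀ a, τ a = a ^ 2 := fun a => rfl
    have hfour : ∀ a : F, a ^ 4 = a := fun a => by rw [← hq']; exact FiniteField.pow_card a
    refine ⟨τ, fun u v => ∑ i, B.repr u i * τ (B.repr v i),
      ⟨?_, fun a => ?_, fun x y v => ?_, fun c x v => ?_, fun u v => ?_, fun v hv => ?_⟩, fun g hg => ⟨1, fun u v => ?_⟩⟩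
    · intro h
      have hsub : (Finset.univ : Finset F) ⊆ {0, 1} := by
        intro a _
        have h1 : a ^ 2 = a := by rw [← hτ, h]; rfl
        have h2 : a * (a - 1) = 0 := by linear_combination h1
        rcases mul_eq_zero.mp h2 with e | e
        · simp [e]
        · simp [sub_eq_zero.mp e]
      have := (Finset.card_le_card hsub).trans Finset.card_le_two
      rw [Finset.card_univ, hq'] at this
      omega
    · rw [hτ, hτ, ← pow_mul]; exact hfour a
    · simp [add_mul, Finset.sum_add_distrib]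
    · simp [mul_assoc, Finset.mul_sum]
    · simp only [map_sum, map_mul]
      simp only [hτ, ← pow_mul, hfour]
      exact Finset.sum_congr rfl fun i _ => mul_comm _ _
    · obtain ⟨i, hi⟩ := hsingle v hv
      refine ⟨⟨B i, ?_⟩, B i, ?_⟩ <;>
        simp [Finsupp.single_apply, apply_ite τ, hi, τ.map_eq_zero_iff]
    · obtain ⟨σ, a, ha0, ha⟩ := hmon g hg
      simp only [Units.val_one, one_mul]
      rw [← Equiv.sum_comp σ]
      refine Finset.sum_congr rfl fun i _ => ?_
      have h3 := hunit (a i) (ha0 i)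
      rw [hq'] at h3
      rw [ha, ha, map_mul, hτ (a i), mul_mul_mul_comm, ← pow_succ', h3, one_mul]

end CfsgLib.Aschbacher
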