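import Cfsg.Agent.Aschbacher.UnitaryRational
import Cfsg.Agent.Aschbacher.LinearMember
import Cfsg.Agent.Geo.UnitaryOvergroup

/-!
Members of the geometric classes do not contain the special unitary group.
-/
set_option autoImplicit false

namespace CfsgLib.Aschbacher

open Matrix Cfsg Cfsg.Geo CfsgLib.GeoClifford CfsgLib.Geo
open scoped MatrixGroups

variable {ι : Type} [Fintype ι] [DecidableEq ι] {F : Type*} [Field F]

/-- The isometries of determinant one of a two-argument form. -/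
abbrev isoSL (f : (ι → F) → (ι → F) → F) : Subgroup (GL ι F) :=
  preserving (Units.coeHom (Matrix ι ι F)) f ⊓ specialLinear ι F

lemma fixesForm_of_le_isoSL {f : (ι → F) → (ι → F) → F} {G : Subgroup (GL ι F)} (h : G ≤ isoSL f) :
    FixesForm (matrixSet G) f :=
  forall_matrixSet.mpr fun _ hg => (h hg).1

variable {σ : F ≃+* F} {f : (ι → F) → (ι → F) → F}

lemma tv_mem_isoSL (hf : IsUnitaryForm σ f) {w : ι → F} (hw : f w w = 0) {c : F} (hc : σ c = -c) :
    tvec w (c • axisOf f w) (Unit.tv_dot hf hw c) ∈ isoSL f :=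
  ⟨Unit.tv_preserves hf hw hc, tvec_mem_specialLinear _ _ _⟩

variable [Fintype F]

lemma exists_isotropic_pair (hf : IsUnitaryForm σ f) (hn : 3 ≤ Fintype.card ι) :
    ∃ z x, f z z = 0 ∧ f z x ≠ 0 := by
  obtain ⟨z, x, h1, h2, -, -⟩ := Unit.exists_isotropic_perp hf (k := 0) ![] (by omega)
  exact ⟨z, x, h1, h2⟩

lemma exists_nontrivial_tv (hf : IsUnitaryForm σ f) (hn : 3 ≤ Fintype.card ι) :
    ∃ (a φ : ι → F) (h : φ ⬝ᵥ a = 0), a ≠ 0 ∧ φ ≠ 0 ∧ tvec a φ h ∈ isoSL f := by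
  obtain ⟨z, x, hz, hzx⟩ := exists_isotropic_pair hf hn
  obtain ⟨c, hc0, hc⟩ := Unit.exists_skew hf.ne_refl hf.involutive
  have hz0 : z ≠ 0 := fun h => hzx (by rw [h]; exact (isSesq_of_unitary hf).zero_left x)
  refine ⟨z, _, Unit.tv_dot hf hz c, hz0, ?_, tv_mem_isoSL hf hz hc⟩
  rw [Ne, smul_eq_zero]
  rintro (h | h)
  · exact hc0 h
  · exact hz0 (Unit.eq_zero_of_axis hf h)

/-- The special unitary group is irreducible. -/
theorem isoSL_not_le_subspace (hf : IsUnitaryForm σ f) (hn : 3 ≤ Fintype.card ι) {W : Submodule F (ι → F)}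
    (h0 : W ≠ ⊥) (h1 : W ≠ ⊤) : ¬ isoSL f ≤ subspaceStabilizer W := by
  intro hle
  obtain ⟨z, x, hz, hzx⟩ := exists_isotropic_pair hf hn
  obtain ⟨c, hc0, hc⟩ := Unit.exists_skew hf.ne_refl hf.involutive
  set P := (isHerm_of_unitary hf).perp W
  have hcase : ∀ w, f w w = 0 → w ∈ W ∨ w ∈ P := by
    intro w hw
    by_cases hwW : w ∈ W
    · exact Or.inl hwW
    refine Or.inr fun v hv => (isHerm_of_unitary hf).comm_zero ?_
    by_contra hne
    apply hwW
    have h := mem_subspaceStabilizer.mp (hle (tv_mem_isoSL hf hw hc)) v hv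
    rw [tvec_mulVec, smul_dotProduct, (Unit.linLeft hf).dot] at h
    have h2 := (W.add_mem_iff_right hv).mp h
    rw [smul_eq_mul] at h2
    have h3 := W.smul_mem (c * f v w)⁻¹ h2
    rwa [smul_smul, inv_mul_cancel₀ (mul_ne_zero hc0 hne), one_smul] at h3
  have hall : ∀ T : Submodule F (ι → F), T ≠ ⊤ → ∃ w, f w w = 0 ∧ w ∉ T := by
    intro T hT
    by_contra hcon
    push Not at hcon
    exact hT (top_le_iff.mp (Unit.mem_of_isotropic hf (S := ⊤) Submodule.mem_top Submodule.mem_top hz hzx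
      fun v _ hv => hcon v hv))
  obtain ⟨w0, hw0, hw0W⟩ := hall W h1
  obtain ⟨w1, hw1, hw1P⟩ := hall P ((isHerm_of_unitary hf).perp_ne_top h0)
  have hw1W : w1 ∈ W := (hcase w1 hw1).resolve_right hw1P
  have hw0P : w0 ∈ P := (hcase w0 hw0).resolve_left hw0W
  obtain ⟨d, hd, hiso⟩ := Unit.exists_isotropic_combination hf hw0 hw1
  rcases hcase _ hiso with h | h
  · exact hw0W ((W.add_mem_iff_left (W.smul_mem d hw1W)).mp h)
  · apply hw1P
    have h2 := P.smul_mem d⁻¹ ((P.add_mem_iff_right hw0P).mp h)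
    rwa [smul_smul, inv_mul_cancel₀ hd, one_smul] at h2

theorem isoSL_not_le_field (hf : IsUnitaryForm σ f) (hn : 3 ≤ Fintype.card ι) {r : ℕ} (hr : 2 ≤ r)
    {K : Subalgebra F (Matrix ι ι F)} (hK : IsFieldSubalgebra r K) : ¬ isoSL f ≤ subalgebraNormalizer K := by
  obtain ⟨a, φ, h, ha, hφ, hmem⟩ := exists_nontrivial_tv hf hn
  exact fun hle => tvec_notMem_subalgebraNormalizer hn hr hK h ha hφ (hle hmem)

theorem isoSL_not_le_normalizer (hf : IsUnitaryForm σ f) (hn : 5 ≤ Fintype.card ι) {R : Subgroup (GL ι F)}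
    (hRi : ActsAbsolutelyIrreducibly (matrixSet R)) (hcl : ⁅R, R⁆ ≤ scalars ι F) :
    ¬ isoSL f ≤ subgroupNormalizer R := by
  obtain ⟨a, φ, h, ha, hφ, hmem⟩ := exists_nontrivial_tv hf (by omega)
  exact fun hle => tvec_notMem_normalizer hn hRi hcl h ha hφ (hle hmem)

theorem isoSL_not_le_frame (hf : IsUnitaryForm σ f) (hn : 4 ≤ Fintype.card ι)
    {D : Fin (Fintype.card ι) → Submodule F (ι → F)} (hD : IsNondegenerateMDecomposition f 1 D) :
    ¬ isoSL f ≤ decompositionStabilizer D := by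
  classical
  intro hle
  obtain ⟨b, hb, hbD⟩ := exists_line_basis hD.decomp
  have hS := isSesq_of_unitary hf
  have hmem : ∀ i, b i ∈ D i := fun i => by rw [hbD i]; exact Submodule.mem_span_singleton_self _
  have horth : ∀ i j, i ≠ j → f (b i) (b j) = 0 := fun i j h => hD.orthogonal i j h _ (hmem i) _ (hmem j)
  have hnd : ∀ i, f (b i) (b i) ≠ 0 := by
    intro i
    obtain ⟨-, x, hx, hx0⟩ := hD.nondegenerate i (b i) (hmem i) (hb.ne_zero i)
    rw [hbD i] at hx
    obtain ⟨d, rfl⟩ := Submodule.mem_span_singleton.mp hx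
    exact fun h => hx0 (by rw [hS.smul_right, h, mul_zero])
  set k : Fin 4 → Fin (Fintype.card ι) := Fin.castLE hn
  have hk : Function.Injective k := Fin.castLE_injective hn
  have hpair : ∀ i j, i ≠ j → ∃ y : F, y ≠ 0 ∧ f (b i + y • b j) (b i + y • b j) = 0 := by
    intro i j hij
    obtain ⟨y, hy⟩ := Unit.exists_norm_eq hf.ne_refl hf.involutive (t := -(f (b i) (b i)) / f (b j) (b j))
      (by rw [map_div₀, map_neg, Unit.sigma_self hf, Unit.sigma_self hf])
    refine ⟨y, fun h => ?_, ?_⟩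
    · rw [h, zero_mul, eq_comm, div_eq_zero_iff, neg_eq_zero] at hy
      exact hy.elim (hnd i) (hnd j)
    · rw [hS.add_left, hS.add_right, hS.add_right, hS.smul_left, hS.smul_left, hS.smul_right, hS.smul_right,
        horth i j hij, horth j i (Ne.symm hij), ← mul_assoc, hy, div_mul_cancel₀ _ (hnd j)]
      ring
  obtain ⟨y, hy0, hy⟩ := hpair (k 0) (k 1) (hk.ne (by decide))
  obtain ⟨z, hz0, hz⟩ := hpair (k 2) (k 3) (hk.ne (by decide))
  set w := b (k 0) + y • b (k 1) + (b (k 2) + z • b (k 3)) with hw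
  have hcross : f (b (k 0) + y • b (k 1)) (b (k 2) + z • b (k 3)) = 0 := by
    simp only [hS.add_left, hS.add_right, hS.smul_left, hS.smul_right,
      horth _ _ (hk.ne (show (0 : Fin 4) ≠ 2 by decide)), horth _ _ (hk.ne (show (0 : Fin 4) ≠ 3 by decide)),
      horth _ _ (hk.ne (show (1 : Fin 4) ≠ 2 by decide)), horth _ _ (hk.ne (show (1 : Fin 4) ≠ 3 by decide)),
      mul_zero, add_zero]
  have hww : f w w = 0 := by
    have key : ∀ u v, f u u = 0 → f v v = 0 → f u v = 0 → f (u + v) (u + v) = 0 := fun u v h1 h2 h3 => by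
      rw [hS.add_left, hS.add_right, hS.add_right, h1, h2, h3, (isHerm_of_unitary hf).comm_zero h3]
      simp
    exact key _ _ hy hz hcross
  obtain ⟨c, hc0, hc⟩ := Unit.exists_skew hf.ne_refl hf.involutive
  obtain ⟨π, hπ⟩ := hle (tv_mem_isoSL hf hww hc)
  have hf0 : f (b (k 0)) w = f (b (k 0)) (b (k 0)) := by
    simp only [hw, hS.add_right, hS.smul_right,
      horth _ _ (hk.ne (show (0 : Fin 4) ≠ 1 by decide)), horth _ _ (hk.ne (show (0 : Fin 4) ≠ 2 by decide)),
      horth _ _ (hk.ne (show (0 : Fin 4) ≠ 3 by decide)), mul_zero, add_zero]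
  set lam := c * f (b (k 0)) w with hlam
  have hlam0 : lam ≠ 0 := mul_ne_zero hc0 (hf0 ▸ hnd _)
  have himg : b (k 0) + lam • w ∈ D (π (k 0)) := by
    rw [← hπ, Submodule.mem_map]
    refine ⟨b (k 0), hmem _, ?_⟩
    rw [Matrix.toLin'_apply, tvec_mulVec, smul_dotProduct, (Unit.linLeft hf).dot, smul_eq_mul]
  rw [hbD] at himg
  obtain ⟨d, hd⟩ := Submodule.mem_span_singleton.mp himg
  have hzero : ∀ j, π (k 0) ≠ j → f (b (k 0) + lam • w) (b j) = 0 := by
    intro j hj
    rw [← hd, hS.smul_left, horth _ _ hj, mul_zero]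
  by_cases h2 : π (k 0) = k 2
  · have h := hzero (k 3) (h2 ▸ hk.ne (by decide))
    simp only [hw, hS.add_left, hS.smul_left,
      horth _ _ (hk.ne (show (0 : Fin 4) ≠ 3 by decide)), horth _ _ (hk.ne (show (1 : Fin 4) ≠ 3 by decide)),
      horth _ _ (hk.ne (show (2 : Fin 4) ≠ 3 by decide)), mul_zero, zero_add] at h
    exact mul_ne_zero hlam0 (mul_ne_zero hz0 (hnd _)) h
  · have h := hzero (k 2) h2
    simp only [hw, hS.add_left, hS.smul_left,
      horth _ _ (hk.ne (show (0 : Fin 4) ≠ 2 by decide)), horth _ _ (hk.ne (show (1 : Fin 4) ≠ 2 by decide)),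
      horth _ _ (hk.ne (show (3 : Fin 4) ≠ 2 by decide)), mul_zero, zero_add, add_zero] at h
    exact mul_ne_zero hlam0 (hnd _) h

omit [Fintype F] in
/-- A transvection in a subfield group has rational coordinates. -/
lemma tvec_rational_of_mem_subfield (hn : 3 ≤ Fintype.card ι) {F₁ : Subfield F} {P : GL ι F} {a φ : ι → F}
    (h : φ ⬝ᵥ a = 0) (hmem : tvec a φ h ∈ subfieldSubgroup F₁ P) (i j : ι) :
    (((P⁻¹ : GL ι F) : Matrix ι ι F) *ᵥ a) i * (φ ᵥ* (P : Matrix ι ι F)) j ∈ F₁ := by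
  classical
  set a' := ((P⁻¹ : GL ι F) : Matrix ι ι F) *ᵥ a with ha'
  set φ' := φ ᵥ* (P : Matrix ι ι F) with hφ'
  have hdot : φ' ⬝ᵥ a' = 0 := by
    rw [hφ', ha', ← dotProduct_mulVec, mulVec_mulVec, ← Units.val_mul, mul_inv_cancel, Units.val_one, one_mulVec, h]
  obtain ⟨x, hx, hxe⟩ := hmem
  obtain ⟨_, ⟨y, rfl⟩, s, hs, hys⟩ := Subgroup.mem_sup_of_normal_right.mp hx
  obtain ⟨cu, hcu⟩ := (mem_scalars_iff s).mp hs
  set c : F := (cu : F)
  have hxv : (x : Matrix ι ι F) = 1 + vecMulVec a' φ' := by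
    have he : x = P⁻¹ * tvec a φ h * P := by
      rw [← hxe]
      simp [mul_assoc]
    rw [he, Units.val_mul, Units.val_mul, tvec_val, mul_add, add_mul, mul_one, Units.inv_mul,
      Matrix.mul_vecMulVec, Matrix.vecMulVec_mul]
  have hmat : (x : Matrix ι ι F) = c • ((y : Matrix ι ι F₁).map F₁.subtype) := by
    rw [← hys, Units.val_mul, hcu, mul_smul_comm, mul_one]
    rfl
  have hc0 : c ≠ 0 := cu.ne_zero
  have hY : ∀ i j, ((y : Matrix ι ι F₁) i j : F) = c⁻¹ * ((1 : Matrix ι ι F) i j + a' i * φ' j) := by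
    intro i j
    have h1 := congrFun (congrFun (hxv.symm.trans hmat) i) j
    simp only [Matrix.add_apply, vecMulVec_apply, Matrix.smul_apply, Matrix.map_apply, smul_eq_mul,
      Subfield.coe_subtype] at h1
    rw [h1, ← mul_assoc, inv_mul_cancel₀ hc0, one_mul]
  by_cases hall : ∀ k l, k ≠ l → a' k * φ' l = 0
  · have h0 : ∀ k, a' k * φ' k = 0 := by
      intro k
      by_contra hk
      have h1 : ∑ l, φ' l * a' l = 0 := hdot
      rw [Finset.sum_eq_single k (fun l _ hl => ?_) (fun hk' => absurd (Finset.mem_univ k) hk')] at h1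
      · exact hk (by rw [mul_comm, h1])
      · by_contra hl0
        obtain ⟨hak, -⟩ := mul_ne_zero_iff.mp hk
        obtain ⟨hφl, -⟩ := mul_ne_zero_iff.mp hl0
        exact mul_ne_zero hak hφl (hall k l (Ne.symm hl))
    have : a' i * φ' j = 0 := by
      rcases eq_or_ne i j with rfl | hij
      · exact h0 i
      · exact hall i j hij
    rw [this]
    exact F₁.zero_mem
  push Not at hall
  obtain ⟨k, l, hkl, hne⟩ := hall
  obtain ⟨m, hm⟩ : ∃ m, m ∉ ({k, l} : Finset ι) := by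
    by_contra hcon
    push Not at hcon
    have := Finset.card_le_card (fun x (_ : x ∈ (Finset.univ : Finset ι)) => hcon x)
    have h2 := Finset.card_le_two (a := k) (b := l)
    rw [Finset.card_univ] at this
    omega
  simp only [Finset.mem_insert, Finset.mem_singleton, not_or] at hm
  obtain ⟨hmk, hml⟩ := hm
  have hcF : c⁻¹ ∈ F₁ := by
    have e1 := hY m m
    have e2 := hY k l
    have e3 := hY m l
    have e4 := hY k m
    simp only [Matrix.one_apply_eq, Matrix.one_apply_ne hkl, Matrix.one_apply_ne hml,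
      Matrix.one_apply_ne (Ne.symm hmk), zero_add] at e1 e2 e3 e4
    have hykl : ((y : Matrix ι ι F₁) k l : F) ≠ 0 := by
      rw [e2]; exact mul_ne_zero (inv_ne_zero hc0) hne
    have : c⁻¹ = ((y : Matrix ι ι F₁) m m : F) -
        ((y : Matrix ι ι F₁) m l : F) * ((y : Matrix ι ι F₁) k m : F) / ((y : Matrix ι ι F₁) k l : F) := by
      rw [eq_sub_iff_add_eq, ← eq_sub_iff_add_eq', div_eq_iff hykl, e1, e2, e3, e4]
      ring
    rw [this]
    exact F₁.sub_mem ((y : Matrix ι ι F₁) m m).2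
      (F₁.div_mem (F₁.mul_mem ((y : Matrix ι ι F₁) m l).2 ((y : Matrix ι ι F₁) k m).2) ((y : Matrix ι ι F₁) k l).2)
  have hc : c ∈ F₁ := by simpa using F₁.inv_mem hcF
  have e := hY i j
  have : a' i * φ' j = c * ((y : Matrix ι ι F₁) i j : F) - (1 : Matrix ι ι F) i j := by
    rw [e, ← mul_assoc, mul_inv_cancel₀ hc0, one_mul, add_sub_cancel_left]
  rw [this]
  refine F₁.sub_mem (F₁.mul_mem hc ((y : Matrix ι ι F₁) i j).2) ?_
  rw [Matrix.one_apply]
  split
  · exact F₁.one_mem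
  · exact F₁.zero_mem

theorem isoSL_not_le_subfield (hf : IsUnitaryForm σ f) (hn : 3 ≤ Fintype.card ι) {F₁ : Subfield F} {r : ℕ}
    (hr : r.Prime) (hrq : Odd r ∨ (r = 2 ∧ Odd (Fintype.card F))) (hcard : Fintype.card F = Nat.card F₁ ^ r)
    {P : GL ι F} (hP : IsFormRationalStructure f F₁ 1 P) : ¬ isoSL f ≤ subfieldSubgroup F₁ P := by
  classical
  intro hle
  obtain ⟨z, x, hz, hzx⟩ := exists_isotropic_pair hf hn
  have hz0 : z ≠ 0 := fun h => hzx (by rw [h]; exact (isSesq_of_unitary hf).zero_left x)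
  obtain ⟨c0, hc00, hc0⟩ := Unit.exists_skew hf.ne_refl hf.involutive
  set a := ((P⁻¹ : GL ι F) : Matrix ι ι F) *ᵥ z with ha
  set ψ := axisOf f z ᵥ* (P : Matrix ι ι F) with hψ
  have hkey : ∀ c, σ c = -c → ∀ i j, c * (a i * ψ j) ∈ F₁ := by
    intro c hc i j
    have h := tvec_rational_of_mem_subfield hn (Unit.tv_dot hf hz c) (hle (tv_mem_isoSL hf hz hc)) i j
    rw [Matrix.smul_vecMul, Pi.smul_apply, smul_eq_mul, ← ha, ← hψ, mul_left_comm] at h
    exact h
  have ha0 : a ≠ 0 := fun h => hz0 (mulVec_injective_GL P⁻¹ (by simpa [ha] using h))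
  have hPz : (P : Matrix ι ι F) *ᵥ a = z := by rw [ha, mulVec_inv_mulVec]
  obtain ⟨k, hk⟩ := Function.ne_iff.mp ha0
  rw [Pi.zero_apply] at hk
  have hψj : ∀ j, ψ j = f ((P : Matrix ι ι F) *ᵥ Pi.single j 1) z := by
    intro j
    rw [← (Unit.linLeft hf).dot z, dotProduct_mulVec, dotProduct_single, mul_one]
  obtain ⟨j, hj⟩ : ∃ j, ψ j ≠ 0 := by
    by_contra h
    push Not at h
    refine hz0 (Unit.eq_zero_of_axis hf ?_)
    have h2 : axisOf f z ᵥ* (P : Matrix ι ι F) ᵥ* ((P⁻¹ : GL ι F) : Matrix ι ι F) = 0 := by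
      rw [← hψ, show ψ = 0 from funext h, zero_vecMul]
    rwa [vecMul_vecMul, Units.mul_inv, vecMul_one] at h2
  -- the fixed field lies in `F₁`
  have hfix : ∀ s, σ s = s → s ∈ F₁ := by
    intro s hs
    have h1 := hkey c0 hc0 k j
    have h2 := hkey (s * c0) (by rw [map_mul, hs, hc0]; ring) k j
    have h3 : c0 * (a k * ψ j) ≠ 0 := mul_ne_zero hc00 (mul_ne_zero hk hj)
    have : s = s * c0 * (a k * ψ j) / (c0 * (a k * ψ j)) := by rw [mul_assoc, mul_div_cancel_right₀ _ h3]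
    rw [this]
    exact F₁.div_mem h2 h1
  have hle' : Nat.card (fixSubfield σ) ≤ Nat.card F₁ :=
    Nat.card_le_card_of_injective (fun s : fixSubfield σ => (⟨s.1, hfix s.1 s.2⟩ : F₁))
      fun s t h => Subtype.ext (congrArg (fun u : F₁ => (u : F)) h)
  have hr2 : r = 2 ∧ Odd (Fintype.card F) := by
    refine hrq.resolve_left fun hrodd => ?_
    have h1 := card_eq_sq_fixSubfield hf.ne_refl hf.involutive
    have hF1 : 1 < Nat.card F₁ := Finite.one_lt_card
    have h3 : 3 ≤ r := by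
      have := hr.two_le
      rcases hrodd with ⟨m, hm⟩
      omega
    have : Fintype.card F < Nat.card F₁ ^ r :=
      calc Fintype.card F ≤ Nat.card F₁ ^ 2 := h1 ▸ Nat.pow_le_pow_left hle' 2
        _ < Nat.card F₁ ^ r := Nat.pow_lt_pow_right hF1 (by omega)
    omega
  obtain ⟨rfl, hFodd⟩ := hr2
  have hσ1 : ∀ x ∈ F₁, σ x = x := fun x hx => fixed_of_index_two hf.ne_refl hf.involutive hcard hx
  -- normalise the isotropic vector
  set u : ι → F := (a k)⁻¹ • a with hu
  have hu1 : u k = 1 := by simp [hu, hk]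
  have hurat : ∀ i, u i ∈ F₁ := by
    intro i
    have : u i = c0 * (a i * ψ j) / (c0 * (a k * ψ j)) := by
      rw [hu, Pi.smul_apply, smul_eq_mul]; field_simp
    rw [this]
    exact F₁.div_mem (hkey c0 hc0 i j) (hkey c0 hc0 k j)
  set ξ := f ((P : Matrix ι ι F) *ᵥ Pi.single j 1) ((P : Matrix ι ι F) *ᵥ u) with hξ
  have hξF : ξ ∈ F₁ := by
    have := hP (Pi.single j 1) u (fun i => by
      rw [Pi.single_apply]; split
      · exact F₁.one_mem
      · exact F₁.zero_mem) hurat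
    rwa [one_mul] at this
  have hψξ : ψ j = σ (a k) * ξ := by
    rw [hψj, hξ, hu, mulVec_smul, hPz, (isSesq_of_unitary hf).smul_right, map_inv₀, ← mul_assoc,
      mul_inv_cancel₀ (by simpa using hk), one_mul]
  have h1 := hσ1 _ (hkey c0 hc0 k j)
  rw [hψξ, map_mul, map_mul, map_mul, hf.involutive, hσ1 _ hξF, hc0] at h1
  have h2 : (2 : F) * (c0 * (a k * (σ (a k) * ξ))) = 0 := by linear_combination -h1
  have h2F : (2 : F) ≠ 0 := by
    intro h
    have hc := FiniteField.cast_card_eq_zero F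
    obtain ⟨m, hm⟩ := hFodd
    rw [hm, Nat.cast_add, Nat.cast_mul, Nat.cast_ofNat, h, zero_mul, zero_add, Nat.cast_one] at hc
    exact one_ne_zero hc
  exact mul_ne_zero h2F (mul_ne_zero hc00 (mul_ne_zero hk (hψξ ▸ hj))) h2

end CfsgLib.Aschbacher
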