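import Cfsg.Agent.Aschbacher.Rational

/-!
An absolutely irreducible group of odd degree fixing a unitary form and written over a subfield of prime
index preserves a rational structure of the form.
-/
set_option autoImplicit false

namespace CfsgLib.Aschbacher

open Matrix Cfsg.Geo CfsgLib.GeoClifford
open scoped MatrixGroups

variable {ι : Type} [Fintype ι] [DecidableEq ι] {F : Type*} [Field F]

omit [DecidableEq ι] in
/-- In characteristic two the value of a symmetric matrix on a vector only sees the diagonal. -/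
lemma dot_mulVec_self_of_two (h2 : (2 : F) = 0) {A : Matrix ι ι F} (hA : Aᵀ = A) (x : ι → F) :
    x ⬝ᵥ (A *ᵥ x) = ∑ i, A i i * x i ^ 2 := by
  classical
  have e1 : x ⬝ᵥ (A *ᵥ x) = ∑ p : ι × ι, x p.1 * A p.1 p.2 * x p.2 := by
    simp [dotProduct, mulVec, Finset.mul_sum, mul_assoc, Fintype.sum_prod_type]
  rw [e1, ← Finset.sum_filter_add_sum_filter_not Finset.univ (fun p : ι × ι => p.1 = p.2)]
  have e2 : ∑ p ∈ Finset.univ.filter (fun p : ι × ι => ¬ p.1 = p.2), x p.1 * A p.1 p.2 * x p.2 = 0 := by
    refine Finset.sum_involution (fun p _ => (p.2, p.1)) (fun p _ => ?_) (fun p hp _ => ?_) (fun p hp => ?_)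
      (fun p _ => rfl)
    · have h : A p.2 p.1 = A p.1 p.2 := congrFun (congrFun hA p.1) p.2
      dsimp only
      rw [h]
      calc _ = (2 : F) * (x p.1 * A p.1 p.2 * x p.2) := by ring
        _ = 0 := by rw [h2, zero_mul]
    · intro h
      exact (Finset.mem_filter.mp hp).2 (congrArg Prod.fst h).symm
    · exact Finset.mem_filter.mpr ⟨Finset.mem_univ _, fun h => (Finset.mem_filter.mp hp).2 h.symm⟩
  rw [e2, add_zero]
  refine Finset.sum_bij' (fun p _ => p.1) (fun i _ => (i, i)) (fun _ _ => Finset.mem_univ _)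
    (fun i _ => Finset.mem_filter.mpr ⟨Finset.mem_univ _, rfl⟩) (fun p hp => Prod.ext rfl (Finset.mem_filter.mp hp).2)
    (fun i _ => rfl) fun p hp => ?_
  rw [← (Finset.mem_filter.mp hp).2]
  ring

variable [Fintype F]

/-- The field has degree two over the fixed field of an involution. -/
lemma card_eq_sq_fixSubfield {σ : F ≃+* F} (hσ : σ ≠ RingEquiv.refl F) (hinv : ∀ a, σ (σ a) = a) :
    Fintype.card F = Nat.card (fixSubfield σ) ^ 2 := by
  obtain ⟨α, hα⟩ : ∃ α, σ α ≠ α := by
    by_contra h
    push Not at h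
    exact hσ (RingEquiv.ext h)
  have hd : α - σ α ≠ 0 := sub_ne_zero.mpr (Ne.symm hα)
  let e : fixSubfield σ × fixSubfield σ → F := fun p => (p.1 : F) + (p.2 : F) * α
  have hinj : Function.Injective e := by
    rintro ⟨⟨a, ha⟩, ⟨b, hb⟩⟩ ⟨⟨c, hc⟩, ⟨d, hd'⟩⟩ h
    change σ a = a at ha; change σ b = b at hb; change σ c = c at hc; change σ d = d at hd'
    change a + b * α = c + d * α at h
    have h' := congrArg σ h
    simp only [map_add, map_mul, ha, hb, hc, hd'] at h'
    have hbd : (b - d) * (α - σ α) = 0 := by linear_combination h - h'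
    have hb' : b = d := sub_eq_zero.mp ((mul_eq_zero.mp hbd).resolve_right hd)
    subst hb'
    exact Prod.ext (Subtype.ext (add_right_cancel h)) rfl
  have hsurj : Function.Surjective e := by
    intro x
    set b := (x - σ x) / (α - σ α) with hb
    have hbf : σ b = b := by
      rw [hb, map_div₀, map_sub, map_sub, hinv, hinv, ← neg_sub x (σ x), ← neg_sub α (σ α), neg_div_neg_eq]
    have haf : σ (x - b * α) = x - b * α := by
      rw [map_sub, map_mul, hbf]
      have : b * (α - σ α) = x - σ x := div_mul_cancel₀ _ hd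
      linear_combination this
    exact ⟨(⟨_, haf⟩, ⟨b, hbf⟩), by simp [e]⟩
  rw [← Nat.card_eq_fintype_card (α := F), ← Nat.card_eq_of_bijective e ⟨hinj, hsurj⟩, Nat.card_prod, sq]

/-- A subfield of index two is the fixed field of the involution. -/
lemma fixed_of_index_two {σ : F ≃+* F} (hσ : σ ≠ RingEquiv.refl F) (hinv : ∀ a, σ (σ a) = a)
    {F₁ : Subfield F} (hcard : Fintype.card F = Nat.card F₁ ^ 2) {x : F} (hx : x ∈ F₁) : σ x = x := by
  have h : Nat.card F₁ = Nat.card (fixSubfield σ) :=
    Nat.pow_left_injective two_ne_zero (hcard.symm.trans (card_eq_sq_fixSubfield hσ hinv))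
  rw [mem_subfield_iff, h, ← mem_subfield_iff] at hx
  exact hx

lemma char_two_of_even (h : ¬ Odd (Fintype.card F)) : CharP F 2 := by
  obtain ⟨p, hp⟩ := CharP.exists F
  obtain ⟨k, hpp, hF⟩ := FiniteField.card F p
  rcases hpp.eq_two_or_odd' with rfl | hodd
  · exact hp
  · exact absurd (hF ▸ hodd.pow) h

theorem exists_formRational_unitary [Nonempty ι] (hodd : Odd (Fintype.card ι)) (hn : 2 ≤ Fintype.card ι)
    {σ : F ≃+* F} {f : (ι → F) → (ι → F) → F} (hf : IsUnitaryForm σ f) {G N : Subgroup (GL ι F)}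
    (habs : ActsAbsolutelyIrreducibly (matrixSet N)) (hN : NormSub G N) (hfix : FixesForm (matrixSet N) f)
    {F₁ : Subfield F} {r : ℕ} (hr : r.Prime) (hcard : Fintype.card F = Nat.card F₁ ^ r) {B : GL ι F}
    (hB : ∀ s ∈ matrixSet N, ∀ i j, ((B : Matrix ι ι F) * s * ((B⁻¹ : GL ι F) : Matrix ι ι F)) i j ∈ F₁) :
    ∃ P : GL ι F, (Odd r ∨ (r = 2 ∧ Odd (Fintype.card F))) ∧ IsFormRationalStructure f F₁ 1 P ∧
      G ≤ subfieldSubgroup F₁ P := by
  classical
  obtain ⟨a, A₀, ha, hA⟩ := exists_rational_gram habs (isSesq_of_unitary hf) hf.nondegenerate hfix F₁ B hB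
  set P₀ : Matrix ι ι F := ((B⁻¹ : GL ι F) : Matrix ι ι F) with hP₀
  set A := gramMatrix f with hAdef
  set R := A₀.map F₁.subtype with hRdef
  have hAherm : (A.map σ)ᵀ = A := by
    ext i j
    exact (hf.herm _ _).symm
  have hAh : ((P₀ᵀ * A * P₀.map σ).map σ)ᵀ = P₀ᵀ * A * P₀.map σ := by
    have e : (P₀.map σ).map σ = P₀ := by ext i j; exact hf.involutive _
    have e2 : (P₀ᵀ.map σ)ᵀ = P₀.map σ := by ext i j; rfl
    rw [Matrix.map_mul, Matrix.map_mul, transpose_mul, transpose_mul, hAherm, e, e2, mul_assoc]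
  have hRdet : R.det ≠ 0 := by
    intro h0
    have h := congrArg Matrix.det hA
    have hB0 : P₀.det ≠ 0 := (Matrix.GeneralLinearGroup.det B⁻¹).ne_zero
    rw [det_smul, h0, mul_zero, det_mul, det_mul, det_transpose,
      show (P₀.map σ).det = σ P₀.det from ((σ : F →+* F).map_det P₀).symm] at h
    simp only [mul_eq_zero, map_eq_zero, hB0, false_or, or_false] at h
    exact ((Matrix.isUnit_iff_isUnit_det _).mp (gram_isUnit (isSesq_of_unitary hf) hf.nondegenerate)).ne_zero h
  have hRmem : ∀ i j, R i j ∈ F₁ := fun i j => (A₀ i j).2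
  have hswap : ∀ i j, σ a * σ (R j i) = a * R i j := by
    intro i j
    have h := congrFun (congrFun hAh i) j
    rw [hA] at h
    simpa using h
  obtain ⟨i0, j0, hij⟩ : ∃ i j, R i j ≠ 0 := by
    by_contra h
    push Not at h
    apply hRdet
    rw [show R = 0 from Matrix.ext h]
    exact Matrix.det_zero
  set ν := a / σ a with hν
  have hσa : σ a ≠ 0 := by simpa using ha
  have hνF : ν ∈ F₁ := by
    have : ν = σ (R j0 i0) / R i0 j0 := by
      rw [hν, div_eq_div_iff hσa hij]; linear_combination -hswap i0 j0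
    rw [this]
    exact F₁.div_mem (map_mem_subfield σ F₁ (A₀ j0 i0).2) (A₀ i0 j0).2
  have hνν : σ ν * ν = 1 := by
    rw [hν, map_div₀, hf.involutive]; field_simp
  obtain ⟨t, htF, ht0, ht⟩ : ∃ t ∈ F₁, t ≠ 0 ∧ σ (a * t) = a * t := by
    suffices h : ∃ t ∈ F₁, t ≠ 0 ∧ σ t = ν * t by
      obtain ⟨t, h1, h2, h3⟩ := h
      refine ⟨t, h1, h2, ?_⟩
      rw [map_mul, h3, hν]; field_simp
    by_cases htriv : ∀ x ∈ F₁, σ x = x
    · refine ⟨1, F₁.one_mem, one_ne_zero, ?_⟩
      rw [map_one, mul_one]
      by_contra hne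
      have h1 : ν ^ 2 = 1 := by rw [sq]; conv_lhs => arg 1; rw [← htriv ν hνF]
                                exact hνν
      have hνneg : ν = -1 := (sq_eq_one_iff.mp h1).resolve_left (Ne.symm hne)
      apply hne
      rw [hνneg]
      have hskew : Rᵀ = (-1 : F) • R := by
        ext i j
        have h := hswap i j
        rw [htriv _ (hRmem j i)] at h
        rw [transpose_apply, Matrix.smul_apply, smul_eq_mul, ← hνneg, hν, div_mul_eq_mul_div, eq_div_iff hσa]
        linear_combination h
      have h2 := congrArg Matrix.det hskew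
      rw [det_transpose, det_smul, hodd.neg_one_pow] at h2
      exact (mul_eq_right₀ hRdet).mp h2.symm |>.symm
    · push Not at htriv
      obtain ⟨y, hy, hyσ⟩ := htriv
      by_cases h1 : (1 : F) + σ ν * σ 1 = 0
      · refine ⟨y + σ ν * σ y, F₁.add_mem hy (F₁.mul_mem (map_mem_subfield σ F₁ hνF) (map_mem_subfield σ F₁ hy)), ?_, ?_⟩
        · intro h
          rw [map_one, mul_one] at h1
          apply hyσ
          have : σ ν = -1 := eq_neg_of_add_eq_zero_right h1
          rw [this] at h
          linear_combination -h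
        · rw [map_add, map_mul, hf.involutive, hf.involutive]
          linear_combination -(σ y) * hνν
      · refine ⟨1 + σ ν * σ 1, F₁.add_mem F₁.one_mem (F₁.mul_mem (map_mem_subfield σ F₁ hνF) (map_mem_subfield σ F₁ F₁.one_mem)), h1, ?_⟩
        rw [map_add, map_mul, hf.involutive, hf.involutive, map_one]
        linear_combination -hνν
  obtain ⟨μ, hμ⟩ := CfsgLib.Geo.Unit.exists_norm_eq hf.ne_refl hf.involutive ht
  have hμ0 : μ ≠ 0 := fun h => mul_ne_zero ha ht0 (by rw [← hμ, h, zero_mul])
  let sc : GL ι F := Units.map (Matrix.scalar ι : F →+* Matrix ι ι F).toMonoidHom (Units.mk0 μ⁻¹ (inv_ne_zero hμ0))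
  have hsc : sc ∈ scalars ι F := ⟨_, rfl⟩
  have hscv : (sc : Matrix ι ι F) = μ⁻¹ • (1 : Matrix ι ι F) := by
    show Matrix.scalar ι μ⁻¹ = _
    rw [Matrix.scalar_apply, ← Matrix.smul_one_eq_diagonal]
  have hgram : ∀ u v, f (((sc * B⁻¹ : GL ι F) : Matrix ι ι F) *ᵥ u) (((sc * B⁻¹ : GL ι F) : Matrix ι ι F) *ᵥ v) =
      u ⬝ᵥ ((t⁻¹ • R) *ᵥ (σ ∘ v)) := by
    intro u v
    rw [Units.val_mul, hscv, smul_mul_assoc, one_mul, smul_mulVec, smul_mulVec, (isSesq_of_unitary hf).smul_left,
      (isSesq_of_unitary hf).smul_right, (isSesq_of_unitary hf).eq_gram, ← hP₀, comp_mulVec,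
      ← vecMul_transpose P₀ u, ← dotProduct_mulVec, mulVec_mulVec, mulVec_mulVec, ← hAdef, hA, smul_mulVec,
      dotProduct_smul, smul_mulVec, dotProduct_smul, smul_eq_mul, smul_eq_mul, ← mul_assoc, ← mul_assoc]
    congr 1
    rw [map_inv₀, mul_assoc, mul_comm _ a, ← mul_assoc, mul_comm _ a, mul_assoc, ← mul_inv, hμ]
    field_simp
  refine ⟨sc * B⁻¹, ?_, fun u v hu hv => ?_, ?_⟩
  · rcases hr.eq_two_or_odd' with rfl | h
    swap
    · exact Or.inl h
    refine Or.inr ⟨rfl, ?_⟩
    by_contra heven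
    have : CharP F 2 := char_two_of_even heven
    have h2 : (2 : F) = 0 := by exact_mod_cast CharP.cast_eq_zero F 2
    have hfix1 : ∀ x ∈ F₁, σ x = x := fun x hx => fixed_of_index_two hf.ne_refl hf.involutive hcard hx
    have hRsym : Rᵀ = R := by
      ext i j
      have h := hswap i j
      rw [hfix1 _ (hRmem j i)] at h
      have hνone : ν = 1 := by
        have h1 : ν ^ 2 = 1 := by rw [sq]; conv_lhs => arg 1; rw [← hfix1 ν hνF]
                                  exact hνν
        rcases sq_eq_one_iff.mp h1 with e | e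
        · exact e
        · rw [e, CharTwo.neg_eq]
      rw [hν, div_eq_one_iff_eq hσa] at hνone
      rw [← hνone] at h
      exact mul_left_cancel₀ ha h
    by_cases hdiag : ∀ i, R i i = 0
    · refine not_symplectic_of_odd hodd (fun u v => u ⬝ᵥ (R *ᵥ v)) ⟨⟨?_, ?_, ?_, ?_⟩, ?_, ?_, ?_⟩
      · intro x y v; exact add_dotProduct _ _ _
      · intro c x v; exact smul_dotProduct _ _ _
      · intro v x y; simp only [mulVec_add, dotProduct_add]
      · intro c v x; simp only [mulVec_smul, dotProduct_smul, smul_eq_mul]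
      · intro u v
        rw [CharTwo.neg_eq, dotProduct_mulVec, ← mulVec_transpose, hRsym, dotProduct_comm]
      · intro v
        rw [dot_mulVec_self_of_two h2 hRsym]
        simp [hdiag]
      · intro v hv
        have hRu : IsUnit R := (Matrix.isUnit_iff_isUnit_det _).mpr (Ne.isUnit hRdet)
        have hne : R *ᵥ v ≠ 0 := fun h => hv ((Matrix.mulVec_injective_iff_isUnit.mpr hRu) (h.trans (mulVec_zero R).symm))
        obtain ⟨k, hk⟩ := Function.ne_iff.mp hne
        refine ⟨⟨Pi.single k 1, by simpa using hk⟩, Pi.single k 1, ?_⟩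
        dsimp only
        rw [dotProduct_mulVec, ← mulVec_transpose, hRsym]
        simpa using hk
    · push Not at hdiag
      obtain ⟨i1, hi1⟩ := hdiag
      choose s hs using fun i => (Finite.injective_iff_surjective.mp (frobenius_inj F 2)) (R i i)
      have hs' : ∀ i, s i ^ 2 = R i i := fun i => hs i
      let L : (ι → F) →ₗ[F] F := (dotProductBilin F F s).comp (Matrix.toLin' (B : Matrix ι ι F))
      have hL : ∀ v, L v = s ⬝ᵥ ((B : Matrix ι ι F) *ᵥ v) := fun v => rfl
      rcases habs.1 (LinearMap.ker L) (forall_matrixSet.mpr fun n hn => by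
        rintro _ ⟨v, hv, rfl⟩
        rw [SetLike.mem_coe, LinearMap.mem_ker, hL] at hv
        rw [LinearMap.mem_ker, hL, Matrix.toLin'_apply]
        have hrat : ∀ i j, ((B : Matrix ι ι F) * (n : Matrix ι ι F) * P₀) i j ∈ F₁ := hB _ (coe_mem_matrixSet hn)
        have hm : (B : Matrix ι ι F) * (n : Matrix ι ι F) =
            ((B : Matrix ι ι F) * (n : Matrix ι ι F) * P₀) * (B : Matrix ι ι F) := by
          rw [mul_assoc _ P₀, hP₀, Units.inv_mul, mul_one]
        set m := (B : Matrix ι ι F) * (n : Matrix ι ι F) * P₀ with hmdef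
        have hmfix : mᵀ * R * m = R := by
          have h := (fixes_iff (isSesq_of_unitary hf) _).mp (fun u v => hfix _ (coe_mem_matrixSet hn) u v)
          have hmσ : m.map σ = m := by ext i j; exact hfix1 _ (hrat i j)
          have hn' : P₀ * m = (n : Matrix ι ι F) * P₀ := by
            rw [hmdef, ← mul_assoc, ← mul_assoc, hP₀, Units.inv_mul, one_mul]
          have h1 : mᵀ * (P₀ᵀ * A * P₀.map σ) * m.map σ = P₀ᵀ * A * P₀.map σ := by
            calc _ = (P₀ * m)ᵀ * A * (P₀ * m).map σ := by
                  rw [transpose_mul P₀ m, Matrix.map_mul (L := P₀) (M := m)]; simp only [mul_assoc]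
              _ = P₀ᵀ * ((n : Matrix ι ι F)ᵀ * A * (n : Matrix ι ι F).map σ) * P₀.map σ := by
                  rw [hn', transpose_mul, Matrix.map_mul]; simp only [mul_assoc]
              _ = _ := by rw [h]
          rw [hA, hmσ, mul_smul_comm, smul_mul_assoc] at h1
          exact smul_right_injective _ ha h1
        have hsm : s ᵥ* m = s := by
          funext j
          apply frobenius_inj F 2
          show (s ᵥ* m) j ^ 2 = s j ^ 2
          rw [hs', ← congrFun (congrFun hmfix j) j]
          have e : (mᵀ * R * m) j j = (fun i => m i j) ⬝ᵥ (R *ᵥ fun i => m i j) := by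
            rw [mul_assoc]
            simp only [Matrix.mul_apply, transpose_apply, dotProduct, mulVec]
          rw [e, dot_mulVec_self_of_two h2 hRsym]
          simp only [vecMul, dotProduct]
          rw [sum_pow_char 2]
          exact Finset.sum_congr rfl fun i _ => by rw [mul_pow, hs']
        rw [mulVec_mulVec, hm, ← mulVec_mulVec, dotProduct_mulVec, hsm, hv]) with h | h
      · have h1 := LinearMap.finrank_range_add_finrank_ker L
        have h3 := Submodule.finrank_le (LinearMap.range L)
        rw [h, finrank_bot, Module.finrank_fintype_fun_eq_card] at h1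
        rw [Module.finrank_self] at h3
        omega
      · rw [LinearMap.ker_eq_top] at h
        have := LinearMap.congr_fun h (P₀ *ᵥ Pi.single i1 1)
        rw [hL, hP₀, mulVec_mulVec, Units.mul_inv, one_mulVec, dotProduct_single, mul_one, LinearMap.zero_apply] at this
        exact hi1 (by rw [← hs', this]; ring)
  · rw [one_mul, hgram]
    refine Subfield.sum_mem _ fun i _ => F₁.mul_mem (hu i) (Subfield.sum_mem _ fun j _ => F₁.mul_mem ?_ ?_)
    · dsimp only
      rw [Matrix.smul_apply, smul_eq_mul]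
      exact F₁.mul_mem (F₁.inv_mem htF) (A₀ i j).2
    · exact map_mem_subfield σ F₁ (hv j)
  · rw [subfieldSubgroup_scalar_mul F₁ _ hsc]
    exact le_subfieldSubgroup habs hN F₁ B hB

end CfsgLib.Aschbacher
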