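import Cfsg.Agent.Aschbacher.OrthogonalMember
import Cfsg.Agent.Aschbacher.Extraspecial

/-!
Aschbacher's theorem for the orthogonal groups of odd prime dimension in odd characteristic.
-/
set_option autoImplicit false

namespace CfsgLib.Aschbacher

open Matrix Cfsg Cfsg.Geo CfsgLib.GeoClifford
open scoped MatrixGroups commutatorElement

variable {ι : Type} [Fintype ι] [DecidableEq ι] {F : Type*} [Field F]

lemma IsHerm.perp_nondegenerate {σ : F ≃+* F} {f : (ι → F) → (ι → F) → F} (hf : IsHerm σ f)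
    {W : Submodule F (ι → F)} (hW : IsNondegenerateOn f W) :
    IsNondegenerateOn f (hf.perp W) ∧ Module.finrank F W + Module.finrank F (hf.perp W) = Fintype.card ι := by
  have hWW : W ⊓ hf.perp W = ⊥ := by
    rw [Submodule.eq_bot_iff]
    intro w hw
    by_contra h0
    obtain ⟨-, x, hx, hx0⟩ := hW w hw.1 h0
    exact hx0 (hw.2 x hx)
  have hle := hf.card_le_finrank_add_perp W
  set P := hf.perp W
  have hsum := Submodule.finrank_sup_add_finrank_inf_eq W P
  have hsup : Module.finrank F (W ⊔ P : Submodule F (ι → F)) ≤ Fintype.card ι := by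
    rw [← Module.finrank_fintype_fun_eq_card F]; exact Submodule.finrank_le _
  rw [hWW, finrank_bot] at hsum
  have htop : W ⊔ P = ⊤ := Submodule.eq_top_of_finrank_eq (by rw [Module.finrank_fintype_fun_eq_card]; omega)
  refine ⟨fun p hp hp0 => ?_, by omega⟩
  obtain ⟨⟨x, hx⟩, -⟩ := hf.nd p hp0
  obtain ⟨a, ha, b, hb, rfl⟩ := Submodule.mem_sup.mp (htop ▸ Submodule.mem_top : x ∈ W ⊔ P)
  rw [hf.sesq.add_left, hf.comm_zero (hp a ha), zero_add] at hx
  exact ⟨⟨b, hb, hx⟩, b, hb, fun h => hx (hf.comm_zero h)⟩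

lemma omegaGL_le_isometry (Q : (ι → F) → F) : omegaGL Q ≤ isometryGroup F Q := by
  rintro _ ⟨x, -, rfl⟩
  exact x.2

lemma omegaGL_le_specialLinear (Q : (ι → F) → F) : omegaGL Q ≤ specialLinear ι F := by
  rintro _ ⟨x, hx, rfl⟩
  exact Abelianization.commutator_subset_ker
    ((Matrix.GeneralLinearGroup.det : GL ι F →* Fˣ).comp (isometryGroup F Q).subtype) hx

lemma fixes_of_le_omega {Q : (ι → F) → F} {G : Subgroup (GL ι F)} (hG : G ≤ omegaGL Q) :
    FixesQuadForm (matrixSet G) Q ∧ FixesForm (matrixSet G) (QuadraticMap.polar Q) := by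
  have h : FixesQuadForm (matrixSet G) Q := forall_matrixSet.mpr fun g hg v =>
    omegaGL_le_isometry Q (hG hg) v v
  refine ⟨h, fun s hs u v => ?_⟩
  rw [QuadraticMap.polar, ← mulVec_add, h s hs, h s hs, h s hs]
  rfl

/-- An adjoint closed extension field of odd degree is self-adjoint. -/
lemma selfAdjoint_of_odd {σ : F ≃+* F} {f : (ι → F) → (ι → F) → F} (hf : IsHerm σ f) (hσ : σ = RingEquiv.refl F)
    {r : ℕ} (hr : Odd r) {K : Subalgebra F (Matrix ι ι F)} (hK : IsFieldSubalgebra r K)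
    (hKa : IsAdjointClosedFor f K) (h2 : (2 : F) ≠ 0) : IsSelfAdjointFor f K := by
  subst hσ
  have hu : ∀ x y : Matrix ι ι F, (∀ u v, f u (x *ᵥ v) = f u (y *ᵥ v)) → x = y := fun x y h => by
    apply Matrix.toLin'.injective
    exact LinearMap.ext fun v => hf.eq_of_right fun u => by simpa using h u v
  choose ad had hadj using hKa
  have hsymm : ∀ u v, f u v = f v u := fun u v => by simpa using hf.herm u v
  have hflip : ∀ k hk u v, f (ad k hk *ᵥ u) v = f u (k *ᵥ v) := fun k hk u v => by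
    rw [hsymm, ← hadj k hk, hsymm]
  let S : Submodule F (Matrix ι ι F) :=
    { carrier := {k | k ∈ K ∧ ∀ u v, f (k *ᵥ u) v = f u (k *ᵥ v)}
      add_mem' := fun {a b} ha hb => ⟨K.add_mem ha.1 hb.1, fun u v => by
        rw [add_mulVec, add_mulVec, hf.sesq.add_left, hf.sesq.add_right, ha.2, hb.2]⟩
      zero_mem' := ⟨K.zero_mem, fun u v => by simp [hf.sesq.zero_left, hf.sesq.zero_right]⟩
      smul_mem' := fun c a ha => ⟨K.smul_mem ha.1 c, fun u v => by
        rw [smul_mulVec, smul_mulVec, hf.sesq.smul_left, hf.sesq.smul_right, ha.2]; rfl⟩ }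
  let A : Submodule F (Matrix ι ι F) :=
    { carrier := {k | k ∈ K ∧ ∀ u v, f (k *ᵥ u) v = -f u (k *ᵥ v)}
      add_mem' := fun {a b} ha hb => ⟨K.add_mem ha.1 hb.1, fun u v => by
        rw [add_mulVec, add_mulVec, hf.sesq.add_left, hf.sesq.add_right, ha.2, hb.2]; ring⟩
      zero_mem' := ⟨K.zero_mem, fun u v => by simp [hf.sesq.zero_left, hf.sesq.zero_right]⟩
      smul_mem' := fun c a ha => ⟨K.smul_mem ha.1 c, fun u v => by
        rw [smul_mulVec, smul_mulVec, hf.sesq.smul_left, hf.sesq.smul_right, ha.2]; simp⟩ }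
  by_cases hA : ∀ k ∈ A, k = 0
  · intro k hk u v
    have hk' := hadj k hk
    have hmem : k - ad k hk ∈ A := by
      refine ⟨K.sub_mem hk (had k hk), fun u v => ?_⟩
      have hsl : ∀ x y z, f (x - y) z = f x z - f y z := fun x y z => by
        have := hf.sesq.add_left (x - y) y z; rw [sub_add_cancel] at this; linear_combination -this
      have hsr : ∀ x y z, f z (x - y) = f z x - f z y := fun x y z => by
        have := hf.sesq.add_right z (x - y) y; rw [sub_add_cancel] at this; linear_combination -this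
      rw [sub_mulVec, sub_mulVec, hsl, hsr, hflip, ← hk']
      ring
    rw [hk', ← sub_eq_zero.mp (hA _ hmem)]
  push Not at hA
  obtain ⟨s, hs, hs0⟩ := hA
  exfalso
  obtain ⟨t, ht, hst⟩ := hK.inv s hs.1 hs0
  have hts : t * s = 1 := (hK.comm t ht s hs.1).trans hst
  have htadj : ∀ u v, f (t *ᵥ u) v = -f u (t *ᵥ v) := by
    intro u v
    have h := hs.2 (t *ᵥ u) (t *ᵥ v)
    rw [mulVec_mulVec, mulVec_mulVec, hst, one_mulVec, one_mulVec] at h
    linear_combination h
  have hmulS : ∀ k ∈ A, t * k ∈ S := fun k hk => ⟨K.mul_mem ht hk.1, fun u v => by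
    rw [← mulVec_mulVec, htadj, hk.2, neg_neg, mulVec_mulVec, hK.comm k hk.1 t ht]⟩
  have hmulA : ∀ k ∈ S, s * k ∈ A := fun k hk => ⟨K.mul_mem hs.1 hk.1, fun u v => by
    rw [← mulVec_mulVec, hs.2, hk.2, mulVec_mulVec, hK.comm k hk.1 s hs.1]⟩
  let e : S ≃ₗ[F] A :=
    { toFun := fun k => ⟨s * k.1, hmulA k.1 k.2⟩
      map_add' := fun a b => Subtype.ext (mul_add s a.1 b.1)
      map_smul' := fun c a => Subtype.ext (mul_smul_comm c s a.1)
      invFun := fun k => ⟨t * k.1, hmulS k.1 k.2⟩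
      left_inv := fun k => Subtype.ext (by show t * (s * k.1) = k.1; rw [← mul_assoc, hts, one_mul])
      right_inv := fun k => Subtype.ext (by show s * (t * k.1) = k.1; rw [← mul_assoc, hst, one_mul]) }
  have hinf : S ⊓ A = ⊥ := by
    rw [Submodule.eq_bot_iff]
    intro k hk
    refine hu k 0 fun u v => ?_
    have h1 := hk.1.2 u v
    have h3 := hk.2.2 u v
    rw [h1] at h3
    have h4 : (2 : F) * f u (k *ᵥ v) = 0 := by linear_combination h3
    rw [(mul_eq_zero.mp h4).resolve_left h2, zero_mulVec, hf.sesq.zero_right]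
  have hsup : S ⊔ A = Subalgebra.toSubmodule K := by
    refine le_antisymm (sup_le (fun k hk => hk.1) fun k hk => hk.1) fun k hk => ?_
    have hk' := hadj k hk
    have hsum : k + ad k hk ∈ S := ⟨K.add_mem hk (had k hk), fun u v => by
      rw [add_mulVec, add_mulVec, hf.sesq.add_left, hf.sesq.add_right, hflip, ← hk', add_comm]⟩
    have hdif : k - ad k hk ∈ A := ⟨K.sub_mem hk (had k hk), fun u v => by
      have hsl : ∀ x y z, f (x - y) z = f x z - f y z := fun x y z => by
        have := hf.sesq.add_left (x - y) y z; rw [sub_add_cancel] at this; linear_combination -this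
      have hsr : ∀ x y z, f z (x - y) = f z x - f z y := fun x y z => by
        have := hf.sesq.add_right z (x - y) y; rw [sub_add_cancel] at this; linear_combination -this
      rw [sub_mulVec, sub_mulVec, hsl, hsr, hflip, ← hk']
      ring⟩
    have : k = (2 : F)⁻¹ • ((k + ad k hk) + (k - ad k hk)) := by
      rw [add_add_sub_cancel, ← two_smul F k, smul_smul, inv_mul_cancel₀ h2, one_smul]
    rw [this]
    exact Submodule.smul_mem _ _ (Submodule.add_mem_sup hsum hdif)
  have hd := Submodule.finrank_sup_add_finrank_inf_eq S A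
  rw [hsup, hinf, finrank_bot, ← e.finrank_eq] at hd
  have hKr : Module.finrank F (Subalgebra.toSubmodule K) = r := hK.finrank_eq
  rcases hr with ⟨m, hm⟩
  omega

/-- A group of isometries in odd prime dimension has no extension field as commutant of a normal subgroup. -/
lemma not_field_commutant [Fintype F] {Q : (ι → F) → F} (hQ : IsNondegenerateQuadraticForm Q) (h2 : (2 : F) ≠ 0)
    (hodd : Odd (Fintype.card ι)) {N : Subgroup (GL ι F)} (hfix : FixesForm (matrixSet N) (QuadraticMap.polar Q))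
    (hNs : ¬ N ≤ scalars ι F) : ¬ IsFieldSubalgebra (Fintype.card ι) (commutant N) := by
  intro hK
  have hfh := isHerm_polar hQ
  have hsa := selfAdjoint_of_odd hfh rfl hodd hK (hfh.commutant_adjointClosed hfix) h2
  have : Nonempty ι := Fintype.card_pos_iff.mp hodd.pos
  set K := commutant N
  obtain ⟨i⟩ := ‹Nonempty ι›
  set v : ι → F := Pi.single i 1
  have hv : v ≠ 0 := by simp [v]
  let ev : K →ₗ[F] (ι → F) :=
    { toFun := fun k => (k : Matrix ι ι F) *ᵥ v
      map_add' := fun a b => by simp [add_mulVec]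
      map_smul' := fun c a => by simp [smul_mulVec] }
  have hinj : Function.Injective ev := by
    rw [injective_iff_map_eq_zero]
    intro k hk
    by_contra h0
    obtain ⟨y, hy, hy1⟩ := hK.inv k.1 k.2 (fun h => h0 (Subtype.ext h))
    apply hv
    rw [← one_mulVec v, ← hy1, hK.comm k.1 k.2 y hy, ← mulVec_mulVec, show (k : Matrix ι ι F) *ᵥ v = 0 from hk,
      mulVec_zero]
  have hsurj : Function.Surjective ev :=
    (LinearMap.injective_iff_surjective_of_finrank_eq_finrank
      (hK.finrank_eq.trans (Module.finrank_fintype_fun_eq_card F).symm)).mp hinj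
  apply hNs
  intro a ha
  obtain ⟨k, hk⟩ := hsurj ((a : Matrix ι ι F) *ᵥ v)
  have hk' : (k : Matrix ι ι F) *ᵥ v = (a : Matrix ι ι F) *ᵥ v := hk
  have hak : (a : Matrix ι ι F) = k := by
    apply Matrix.toLin'.injective
    refine LinearMap.ext fun w => ?_
    obtain ⟨k2, rfl⟩ := hsurj w
    show (a : Matrix ι ι F) *ᵥ ((k2 : Matrix ι ι F) *ᵥ v) = (k : Matrix ι ι F) *ᵥ ((k2 : Matrix ι ι F) *ᵥ v)
    rw [mulVec_mulVec, mem_commutant.mp k2.2 a ha, ← mulVec_mulVec, ← hk', mulVec_mulVec, mulVec_mulVec,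
      hK.comm k.1 k.2 k2.1 k2.2]
  have haK : (a : Matrix ι ι F) ∈ K := hak ▸ k.2
  have hsq : (a : Matrix ι ι F) * (a : Matrix ι ι F) = 1 := by
    apply Matrix.toLin'.injective
    refine LinearMap.ext fun w => hfh.eq_of_right fun u => ?_
    rw [Matrix.toLin'_apply, ← mulVec_mulVec, ← hsa _ haK, hfix _ (coe_mem_matrixSet ha), Matrix.toLin'_apply,
      one_mulVec]
  rcases eq_or_ne ((a : Matrix ι ι F) - 1) 0 with h | h
  · rw [show a = 1 from Units.ext (by rw [sub_eq_zero.mp h, Units.val_one])]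
    exact (scalars ι F).one_mem
  · obtain ⟨y, hy, hy1⟩ := hK.inv _ (K.sub_mem haK K.one_mem) h
    have h0 : ((a : Matrix ι ι F) - 1) * ((a : Matrix ι ι F) + 1) = 0 := by
      rw [mul_add, mul_one, sub_mul, one_mul, hsq]; abel
    have h1 : (a : Matrix ι ι F) + 1 = 0 := by
      calc (a : Matrix ι ι F) + 1 = y * ((a : Matrix ι ι F) - 1) * ((a : Matrix ι ι F) + 1) := by
            rw [hK.comm y hy _ (K.sub_mem haK K.one_mem), hy1, one_mul]
        _ = 0 := by rw [mul_assoc, h0, mul_zero]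
    refine (mem_scalars_iff a).mpr ⟨-1, ?_⟩
    rw [eq_neg_of_add_eq_zero_left h1, Units.val_neg, Units.val_one, neg_smul, one_smul]

variable [Fintype F]

/-- In a frame of isometric lines a group of isometries is monomial with entries `±1`. -/
lemma realisable_of_frame {G N : Subgroup (GL ι F)} {Q : (ι → F) → F} (hQ : IsNondegenerateQuadraticForm Q)
    (hfix : FixesQuadForm (matrixSet G) Q) (hn : 2 ≤ Fintype.card ι)
    {b : Fin (Fintype.card ι) → (ι → F)} {χ : Fin (Fintype.card ι) → N → F} (hb : IsWeightFrame G N b χ)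
    (hQb : ∀ i, Q (b i) ≠ 0) (F₀ : Subfield F) : RealisableOver F₀ (matrixSet G) := by
  classical
  set i0 : Fin (Fintype.card ι) := ⟨0, by omega⟩
  choose γ hγG κ hκ0 hκ using hb.transitive i0
  set b' : Fin (Fintype.card ι) → (ι → F) := fun i => κ i • b i with hb'
  have hQb' : ∀ i, Q (b' i) = Q (b i0) := fun i => by
    rw [hb']; dsimp only
    rw [← hκ, hfix _ (coe_mem_matrixSet (hγG i))]
  have hli : LinearIndependent F b' := hb.indep.units_smul (fun i => Units.mk0 (κ i) (hκ0 i))
  let e : ι ≃ Fin (Fintype.card ι) := Fintype.equivFin ι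
  let X : Matrix ι ι F := Matrix.of fun r i => b' (e i) r
  have hXu : IsUnit X := Matrix.linearIndependent_cols_iff_isUnit.mp
    (show LinearIndependent F fun i => b' (e i) from hli.comp e e.injective)
  obtain ⟨Xu, hXu'⟩ := hXu
  have hXs : ∀ i, (Xu : Matrix ι ι F) *ᵥ Pi.single i 1 = b' (e i) := by
    intro i; ext r; simp [hXu', X]
  refine ⟨Xu⁻¹, forall_matrixSet.mpr fun g hg r i => ?_⟩
  rw [inv_inv]
  obtain ⟨π, hπ⟩ := hb.perm g hg
  obtain ⟨c, hc0, hc⟩ := hπ (e i)
  set j := π (e i)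
  have hgb : (g : Matrix ι ι F) *ᵥ b' (e i) = (κ (e i) * c * (κ j)⁻¹) • b' j := by
    simp only [hb', mulVec_smul, hc, smul_smul]
    rw [mul_assoc, inv_mul_cancel₀ (hκ0 j), mul_one]
  set d := κ (e i) * c * (κ j)⁻¹
  have hd : d ^ 2 = 1 := by
    have h := hfix _ (coe_mem_matrixSet hg) (b' (e i))
    rw [hgb, hQ.smul, hQb', hQb'] at h
    exact (mul_eq_right₀ (hQb i0)).mp h
  have hdF : d ∈ F₀ := by
    rcases sq_eq_one_iff.mp hd with h | h <;> rw [h]
    · exact F₀.one_mem
    · exact F₀.neg_mem F₀.one_mem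
  have hcol : (((Xu⁻¹ : GL ι F) : Matrix ι ι F) * (g : Matrix ι ι F) * (Xu : Matrix ι ι F)) *ᵥ Pi.single i 1 =
      d • Pi.single (e.symm j) 1 := by
    rw [← mulVec_mulVec, hXs, ← mulVec_mulVec, hgb, mulVec_smul]
    congr 1
    rw [show b' j = (Xu : Matrix ι ι F) *ᵥ Pi.single (e.symm j) 1 by rw [hXs, e.apply_symm_apply], mulVec_mulVec,
      ← Units.val_mul, inv_mul_cancel, Units.val_one, one_mulVec]
  have h := congrFun hcol r
  rw [Matrix.mulVec_single] at h
  simp only [MulOpposite.op_one, one_smul, Matrix.col_apply, Pi.smul_apply, Pi.single_apply, smul_eq_mul] at h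
  rw [h]
  split
  · rw [mul_one]; exact hdF
  · rw [mul_zero]; exact F₀.zero_mem

/-- The possible outcomes. -/
theorem structure_orthogonal_prime {Q : (ι → F) → F} (hQ : IsNondegenerateQuadraticForm Q)
    (hq : Odd (Fintype.card F)) (hdet : ∀ F₁ : Subfield F, (gramMatrix (QuadraticMap.polar Q)).det ∈ F₁)
    {G : Subgroup (GL ι F)} (hn : (Fintype.card ι).Prime) (h5 : 5 ≤ Fintype.card ι) (hG : G ≤ omegaGL Q) :
    (∃ W : Submodule F (ι → F), W ≠ ⊥ ∧ W ≠ ⊤ ∧ IsTotallySingularQuad Q W ∧ G ≤ subspaceStabilizer W) ∨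
    (∃ W : Submodule F (ι → F), W ≠ ⊥ ∧ W ≠ ⊤ ∧ Even (Module.finrank F W) ∧
      IsNondegenerateOn (QuadraticMap.polar Q) W ∧
      ¬ (Fintype.card F = 3 ∧ Module.finrank F W = 2 ∧ IsPlusTypeOn Q W) ∧ G ≤ subspaceStabilizer W) ∨
    ((Fintype.card F).Prime ∧ ∃ D : Fin (Fintype.card ι) → Submodule F (ι → F),
      IsOrthogonalMDecomposition Q 1 D ∧ G ≤ decompositionStabilizer D) ∨
    (∃ (F₀ : Subfield F) (r : ℕ) (P : GL ι F), r.Prime ∧ Fintype.card F = Nat.card F₀ ^ r ∧
      IsQuadFormRationalStructure Q F₀ P ∧ G ≤ subfieldSubgroup F₀ P) ∨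
    InOrthogonalResidualClass G := by
  classical
  have h2 : (2 : F) ≠ 0 := by
    intro h
    have hc := FiniteField.cast_card_eq_zero F
    obtain ⟨m, hm⟩ := hq
    rw [hm, Nat.cast_add, Nat.cast_mul, Nat.cast_ofNat, h, zero_mul, zero_add, Nat.cast_one] at hc
    exact one_ne_zero hc
  have hodd : Odd (Fintype.card ι) := hn.odd_of_ne_two (by omega)
  have : Nonempty ι := Fintype.card_pos_iff.mp hn.pos
  have hfh := isHerm_polar hQ
  obtain ⟨hfixQ, hfixB⟩ := fixes_of_le_omega hG
  have hQ0 : ∀ v, QuadraticMap.polar Q v v = 0 → Q v = 0 := fun v h => by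
    rw [polar_self_eq hQ] at h; exact (mul_eq_zero.mp h).resolve_left h2
  by_cases hirr : ActsIrreducibly (matrixSet G)
  swap
  · rcases hfh.reducible_cases hodd hfixB hirr with ⟨W, h0, h1, h⟩ | ⟨W, h0, hW, hd, h⟩
    · refine Or.inl ⟨W, h0, ?_, fun w hw => hQ0 w (h1 w hw w hw), h⟩
      rintro rfl
      obtain ⟨u, x, -, -, hux⟩ := exists_isotropic_quad hQ h2 (by omega)
      exact hux (h1 u Submodule.mem_top x Submodule.mem_top)
    right; left
    obtain ⟨hP, hsum⟩ := hfh.perp_nondegenerate hW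
    set P := hfh.perp W
    have hWdim : 0 < Module.finrank F W :=
      Nat.pos_of_ne_zero fun h' => h0 (Submodule.finrank_eq_zero.mp h')
    have hne : ∀ U : Submodule F (ι → F), 0 < Module.finrank F U → Module.finrank F U < Fintype.card ι →
        U ≠ ⊥ ∧ U ≠ ⊤ := fun U hU hU' => ⟨fun h' => by rw [h', finrank_bot] at hU; omega,
          fun h' => by rw [h', finrank_top, Module.finrank_fintype_fun_eq_card] at hU'; omega⟩
    by_cases hev : Even (Module.finrank F W)
    swap
    · have hPev : Even (Module.finrank F P) := by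
        rw [Nat.even_iff]; rw [Nat.odd_iff] at hodd; rw [Nat.not_even_iff] at hev; omega
      exact ⟨P, (hne P (by omega) (by omega)).1, (hne P (by omega) (by omega)).2, hPev, hP, fun hbad => by omega,
        hfh.perp_stable hfixB h⟩
    by_cases hbad : Fintype.card F = 3 ∧ Module.finrank F W = 2 ∧ IsPlusTypeOn Q W
    swap
    · exact ⟨W, h0, (hne W hWdim (by omega)).2, hev, hW, hbad, h⟩
    obtain ⟨hq3, hW2, U, hUW, hUs, hU2⟩ := hbad
    obtain ⟨e, he, he0⟩ := U.ne_bot_iff.mp (fun h' => by rw [h', finrank_bot] at hU2; omega)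
    obtain ⟨-, x, hx, hex⟩ := hW e (hUW he) he0
    set x' := (QuadraticMap.polar Q e x)⁻¹ • x with hx'
    have hex' : QuadraticMap.polar Q e x' = 1 := by
      rw [hx', hQ.polar_bilinear.smul_right, inv_mul_cancel₀ hex]
    have hxW : x' ∈ W := W.smul_mem _ hx
    clear_value x'
    set f' := x' + (-Q x') • e with hf'
    have hee : QuadraticMap.polar Q e e = 0 := by rw [polar_self_eq hQ, hUs e he, mul_zero]
    have hff : Q f' = 0 := by
      rw [hf', quad_add hQ, hQ.smul, hUs e he, hQ.polar_bilinear.smul_right, polar_symm Q x' e, hex']; ring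
    have hef : QuadraticMap.polar Q e f' = 1 := by
      rw [hf', hQ.polar_bilinear.add_right, hQ.polar_bilinear.smul_right, hex', hee, mul_zero, add_zero]
    have hfW : f' ∈ W := W.add_mem hxW (W.smul_mem _ (hUW he))
    have hli : LinearIndependent F ![e, f'] := by
      rw [LinearIndependent.pair_iff]
      intro s t hst
      have hz : QuadraticMap.polar Q e 0 = 0 := by simpa using hQ.polar_bilinear.smul_right 0 e 0
      have ht : t = 0 := by
        have h' := congrArg (QuadraticMap.polar Q e) hst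
        rw [hQ.polar_bilinear.add_right, hQ.polar_bilinear.smul_right, hQ.polar_bilinear.smul_right, hee, hef,
          hz] at h'
        simpa using h'
      rw [ht, zero_smul, add_zero] at hst
      exact ⟨(smul_eq_zero.mp hst).resolve_right he0, ht⟩
    have hspan : W = Submodule.span F (Set.range ![e, f']) := by
      refine (Submodule.eq_of_le_of_finrank_le (Submodule.span_le.mpr ?_) ?_).symm
      · rintro _ ⟨i, rfl⟩; fin_cases i
        · exact hUW he
        · exact hfW
      · rw [finrank_span_eq_card hli, Fintype.card_fin, hW2]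
    set v1 := e + f' with hv1
    have hv1Q : Q v1 = 1 := by rw [hv1, quad_add hQ, hUs e he, hff, hef]; ring
    have hfree : ∀ g ∈ G, (g : Matrix ι ι F) *ᵥ v1 ∈ F ∙ v1 := by
      intro g hg
      have hgW := CfsgLib.Geo.mem_subspaceStabilizer.mp (h hg) v1 (W.add_mem (hUW he) hfW)
      rw [hspan, Submodule.mem_span_range_iff_exists_fun] at hgW
      obtain ⟨c, hc⟩ := hgW
      rw [Fin.sum_univ_two] at hc
      simp only [Matrix.cons_val_zero, Matrix.cons_val_one] at hc
      have hval : c 0 * c 1 = 1 := by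
        have h' := hfixQ _ (coe_mem_matrixSet hg) v1
        rw [← hc, quad_add hQ, hQ.smul, hQ.smul, hUs e he, hff, hQ.polar_bilinear.smul_left,
          hQ.polar_bilinear.smul_right, hef, hv1Q] at h'
        linear_combination h'
      have hc0 : c 0 ≠ 0 := left_ne_zero_of_mul_eq_one hval
      have hsq : c 0 ^ 2 = 1 := by
        have := FiniteField.pow_card_sub_one_eq_one (c 0) hc0
        rwa [hq3] at this
      have heq : c 1 = c 0 := mul_left_cancel₀ hc0 (hval.trans (by rw [← hsq, sq]))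
      rw [← hc, heq, ← smul_add]
      exact Submodule.smul_mem _ _ (Submodule.mem_span_singleton_self _)
    have hv10 : v1 ≠ 0 := by
      intro h'
      rw [h', show Q 0 = 0 by simpa using hQ.smul 0 0] at hv1Q
      exact zero_ne_one hv1Q
    have hL : IsNondegenerateOn (QuadraticMap.polar Q) (F ∙ v1) := by
      intro w hw hw0
      obtain ⟨c, rfl⟩ := Submodule.mem_span_singleton.mp hw
      have hc : c ≠ 0 := fun h' => hw0 (by rw [h', zero_smul])
      refine ⟨⟨v1, Submodule.mem_span_singleton_self _, ?_⟩, v1, Submodule.mem_span_singleton_self _, ?_⟩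
      · rw [hQ.polar_bilinear.smul_right, polar_self_eq hQ, hv1Q, mul_one]; exact mul_ne_zero hc h2
      · rw [hQ.polar_bilinear.smul_left, polar_self_eq hQ, hv1Q, mul_one]; exact mul_ne_zero hc h2
    have hLs : G ≤ subspaceStabilizer (F ∙ v1) := fun g hg => CfsgLib.Geo.mem_subspaceStabilizer.mpr fun w hw => by
      obtain ⟨c, rfl⟩ := Submodule.mem_span_singleton.mp hw
      rw [mulVec_smul]
      exact Submodule.smul_mem _ _ (hfree g hg)
    obtain ⟨hP', hsum'⟩ := hfh.perp_nondegenerate hL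
    rw [finrank_span_singleton hv10] at hsum'
    refine ⟨hfh.perp (F ∙ v1), (hne _ (by omega) (by omega)).1, (hne _ (by omega) (by omega)).2, ?_, hP',
      fun hbad => by omega, hfh.perp_stable hfixB hLs⟩
    rw [Nat.even_iff]; rw [Nat.odd_iff] at hodd; omega
  right; right
  have hsub : ∀ (N : Subgroup (GL ι F)) (F₀ : Subfield F), NormSub G N →
      ActsAbsolutelyIrreducibly (matrixSet N) → F₀ ≠ ⊤ → RealisableOver F₀ (matrixSet N) →
      ∃ (F₁ : Subfield F) (r : ℕ) (P : GL ι F), r.Prime ∧ Fintype.card F = Nat.card F₁ ^ r ∧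
        IsQuadFormRationalStructure Q F₁ P ∧ G ≤ subfieldSubgroup F₁ P := by
    intro N F₀ hN habs h0 hre
    obtain ⟨F₁, r, hle, hr, hcard⟩ := exists_prime_index_ge h0
    obtain ⟨B, hB⟩ := realisableOver_mono hle hre
    obtain ⟨a, A₀, ha, hA⟩ := exists_rational_gram habs hfh.sesq hfh.nd
      (fun s hs => hfixB s (Set.image_mono hN.1 hs)) F₁ B hB
    set P₀ : Matrix ι ι F := ((B⁻¹ : GL ι F) : Matrix ι ι F) with hP₀
    set R := A₀.map F₁.subtype with hR
    set A := gramMatrix (QuadraticMap.polar Q) with hAdef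
    have e : P₀.map (RingEquiv.refl F) = P₀ := by ext i j; simp
    rw [e] at hA
    have hP0 : P₀.det ≠ 0 := (Matrix.GeneralLinearGroup.det B⁻¹).ne_zero
    have hA0 : A.det ≠ 0 := ((Matrix.isUnit_iff_isUnit_det _).mp (gram_isUnit hfh.sesq hfh.nd)).ne_zero
    have hdet' : P₀.det ^ 2 * A.det = a ^ Fintype.card ι * R.det := by
      have h := congrArg Matrix.det hA
      rw [det_mul, det_mul, det_transpose, det_smul] at h
      linear_combination h
    have hRdet : R.det ∈ F₁ := by
      rw [hR, show A₀.map F₁.subtype = F₁.subtype.mapMatrix A₀ from rfl, ← RingHom.map_det]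
      exact (A₀.det).2
    have hR0 : R.det ≠ 0 := fun h' => by
      rw [h', mul_zero] at hdet'
      exact mul_ne_zero (pow_ne_zero _ hP0) hA0 hdet'
    obtain ⟨k, hk⟩ := hodd
    set s := P₀.det / a ^ k with hs
    have hak : a ^ k ≠ 0 := pow_ne_zero _ ha
    have has : a = A.det / R.det * s ^ 2 := by
      rw [hs]; field_simp
      rw [hk, pow_succ a (2 * k), pow_mul'] at hdet'
      linear_combination -hdet'
    have hs0 : s ≠ 0 := div_ne_zero hP0 hak
    let sc : GL ι F := Units.map (Matrix.scalar ι : F →+* Matrix ι ι F).toMonoidHom (Units.mk0 s⁻¹ (inv_ne_zero hs0))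
    have hsc : sc ∈ scalars ι F := ⟨_, rfl⟩
    have hscv : (sc : Matrix ι ι F) = s⁻¹ • (1 : Matrix ι ι F) := by
      show Matrix.scalar ι s⁻¹ = _
      rw [Matrix.scalar_apply, ← Matrix.smul_one_eq_diagonal]
    refine ⟨F₁, r, sc * B⁻¹, hr, hcard, fun u hu => ?_, ?_⟩
    · have hval : 2 * Q (((sc * B⁻¹ : GL ι F) : Matrix ι ι F) *ᵥ u) = A.det / R.det * (u ⬝ᵥ (R *ᵥ u)) := by
        have eu : ∀ x : ι → F, ⇑(RingEquiv.refl F) ∘ x = x := fun x => rfl
        rw [← polar_self_eq hQ, hfh.sesq.eq_gram, eu, Units.val_mul, hscv, smul_mul_assoc, one_mul, smul_mulVec,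
          mulVec_smul, smul_dotProduct, dotProduct_smul, ← hP₀, ← hAdef, mulVec_mulVec,
          ← vecMul_transpose P₀ u, ← dotProduct_mulVec, mulVec_mulVec, ← mul_assoc, hA, smul_mulVec, dotProduct_smul]
        simp only [smul_eq_mul]
        rw [has]
        field_simp
      have hmem : A.det / R.det * (u ⬝ᵥ (R *ᵥ u)) ∈ F₁ := F₁.mul_mem (F₁.div_mem (hdet F₁) hRdet)
        (Subfield.sum_mem _ fun i _ => F₁.mul_mem (hu i)
          (Subfield.sum_mem _ fun j _ => F₁.mul_mem (A₀ i j).2 (hu j)))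
      rw [← hval] at hmem
      have h2F : (2 : F) ∈ F₁ := by rw [← one_add_one_eq_two]; exact F₁.add_mem F₁.one_mem F₁.one_mem
      have := F₁.div_mem hmem h2F
      rwa [mul_div_cancel_left₀ _ h2] at this
    · rw [subfieldSubgroup_scalar_mul F₁ _ hsc]
      exact le_subfieldSubgroup habs hN F₁ B hB
  by_cases hclean : Clean G
  swap
  · obtain ⟨N, hN, hNs, hK | ⟨b, χ, hb⟩⟩ := not_clean_cases hn hirr hclean
    · exact absurd hK (not_field_commutant hQ h2 hodd (fun s hs => hfixB s (Set.image_mono hN.1 hs)) hNs)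
    have hD := hfh.frame_nondegenerate hodd hn.two_le hfixB hN.1 hb
    have hQb : ∀ i, Q (b i) ≠ 0 := by
      intro i hQ0
      obtain ⟨-, x, hx, hx0⟩ := hD.nondegenerate i (b i) (Submodule.mem_span_singleton_self _) (hb.indep.ne_zero i)
      obtain ⟨d, rfl⟩ := Submodule.mem_span_singleton.mp hx
      exact hx0 (by rw [hQ.polar_bilinear.smul_right, polar_self_eq hQ, hQ0, mul_zero, mul_zero])
    by_cases hqp : (Fintype.card F).Prime
    · refine Or.inl ⟨hqp, _, ⟨hD, fun i j => ?_⟩, hb.le_decompositionStabilizer⟩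
      obtain ⟨g, hg, c, hc0, hc⟩ := hb.transitive i j
      have hmap : (Submodule.span F {b i}).map (Matrix.toLin' (g : Matrix ι ι F)) = Submodule.span F {b j} := by
        rw [Submodule.map_span, Set.image_singleton, Matrix.toLin'_apply, hc]
        exact Submodule.span_singleton_smul_eq (IsUnit.mk0 c hc0) _
      refine ⟨(Submodule.equivMapOfInjective _ (mulVec_injective_GL g) _).trans (LinearEquiv.ofEq _ _ hmap),
        fun w => ?_⟩
      simp only [LinearEquiv.trans_apply, LinearEquiv.coe_ofEq_apply, Submodule.coe_equivMapOfInjective_apply,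
        Matrix.toLin'_apply]
      exact hfixQ _ (coe_mem_matrixSet hg) _
    right; left
    obtain ⟨p, hchar⟩ := CharP.exists F
    obtain ⟨e, hp, hF⟩ := FiniteField.card F p
    obtain ⟨F₀, hF0, -⟩ := exists_subfield_card hp hF (m := 1) (one_dvd _) one_pos
    refine hsub G F₀ ⟨le_rfl, fun g hg a ha => G.mul_mem (G.mul_mem hg ha) (G.inv_mem hg)⟩ ?_ ?_
      (realisable_of_frame hQ hfixQ hn.two_le hb hQb F₀)
    · refine absIrred_iff.mpr ⟨hirr, eq_bot_iff_scalar.mpr fun x hx => ?_⟩
      rw [mem_commutant] at hx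
      have hspan : Submodule.span F (Set.range b) = ⊤ :=
        hb.indep.span_eq_top_of_card_eq_finrank' (by rw [Fintype.card_fin, Module.finrank_fintype_fun_eq_card])
      let Bb : Module.Basis (Fin (Fintype.card ι)) F (ι → F) := Module.Basis.mk hb.indep hspan.ge
      have hB' : ∀ i, Bb i = b i := fun i => by simp [Bb]
      have heig : ∀ i, ∃ d : F, x *ᵥ b i = d • b i := by
        intro i
        refine ⟨Bb.repr (x *ᵥ b i) i, ?_⟩
        conv_lhs => rw [← Bb.sum_repr (x *ᵥ b i)]
        rw [Finset.sum_eq_single i ?_ (fun h' => absurd (Finset.mem_univ i) h'), hB']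
        intro j _ hji
        suffices h0 : Bb.repr (x *ᵥ b i) j = 0 by rw [h0, zero_smul]
        by_contra h0
        apply hji
        refine hb.separated (funext fun a => ?_)
        have h := hx a.1 (hN.1 a.2)
        have h1 : ((a : GL ι F) : Matrix ι ι F) *ᵥ (x *ᵥ b i) = χ i a • (x *ᵥ b i) := by
          rw [mulVec_mulVec, h, ← mulVec_mulVec, hb.weight, mulVec_smul]
        have h3 := congrArg (fun w => Bb.repr w j) h1
        simp only [map_smul, Finsupp.smul_apply, smul_eq_mul] at h3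
        have h4 : ∀ w, Bb.repr (((a : GL ι F) : Matrix ι ι F) *ᵥ w) j = χ j a * Bb.repr w j := by
          intro w
          conv_lhs => rw [← Bb.sum_repr w]
          simp only [mulVec_sum, mulVec_smul, hB', hb.weight]
          simp only [← hB', map_sum, map_smul, Finsupp.coe_finsetSum, Finset.sum_apply, Finsupp.coe_smul,
            Pi.smul_apply, Module.Basis.repr_self, Finsupp.single_apply, smul_eq_mul, mul_ite, mul_one, mul_zero,
            Finset.sum_ite_eq', Finset.mem_univ, if_true]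
          ring
        rw [h4] at h3
        exact mul_right_cancel₀ h0 h3
      choose d hd using heig
      have hconst : ∀ i j, d i = d j := by
        intro i j
        obtain ⟨g, hg, c, hc0, hc⟩ := hb.transitive i j
        have h := congrArg (fun w => w *ᵥ b i) (hx g hg)
        simp only [← mulVec_mulVec, hd, mulVec_smul, hc, smul_smul] at h
        have := smul_left_injective F (hb.indep.ne_zero j) h
        exact mul_right_cancel₀ hc0 (by linear_combination this)
      refine ⟨d ⟨0, hn.pos⟩, Matrix.toLin'.injective (Bb.ext fun i => ?_)⟩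
      rw [hB', Matrix.toLin'_apply, Matrix.toLin'_apply, hd, smul_mulVec, one_mulVec, hconst i ⟨0, hn.pos⟩]
    · intro htop
      rw [htop, Nat.card_congr Subfield.topEquiv.toEquiv, Nat.card_eq_fintype_card, pow_one] at hF0
      exact hqp (hF0 ▸ hp)
  right
  obtain ⟨N, hN, hNs, hmin⟩ := exists_minimal_normal (not_le_scalars_of_irreducible hn.two_le hirr)
  have hfixN : FixesForm (matrixSet N) (QuadraticMap.polar Q) := fun s hs => hfixB s (Set.image_mono hN.1 hs)
  have hcl : ¬ ⁅N, N⁆ ≤ scalars ι F := by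
    intro hcl
    have habs := hclean N hN hNs
    apply hNs
    intro a ha
    have hcomm : ∀ b ∈ N, a * b = b * a := by
      intro b hb
      have hzN : ⁅a, b⁆ ∈ N := Subgroup.commutator_le_self N (Subgroup.commutator_mem_commutator ha hb)
      obtain ⟨z, hz⟩ := (mem_scalars_iff _).mp (hcl (Subgroup.commutator_mem_commutator ha hb))
      have hzn := scalar_pow_card_eq_one hz (omegaGL_le_specialLinear Q (hG (hN.1 hzN)))
      have hz2 : (z : F) ^ 2 = 1 := by
        obtain ⟨u, hu, hu0⟩ := (⊤ : Submodule F (ι → F)).ne_bot_iff.mp top_ne_bot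
        obtain ⟨-, w, hw⟩ := hQ.nondegenerate u hu0
        have h := hfixN _ (coe_mem_matrixSet hzN) u w
        rw [hz, smul_mulVec, smul_mulVec, one_mulVec, one_mulVec, hQ.polar_bilinear.smul_left,
          hQ.polar_bilinear.smul_right, ← mul_assoc, ← sq] at h
        exact (mul_eq_right₀ hw).mp h
      have hz1 : (z : F) = 1 := by
        obtain ⟨k, hk⟩ := hodd
        rwa [hk, pow_succ, pow_mul, hz2, one_pow, one_mul] at hzn
      have hab : a * b = b * a := commutatorElement_eq_one_iff_mul_comm.mp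
        (Units.ext (by rw [hz, hz1, one_smul, Units.val_one]))
      exact hab
    obtain ⟨c, hc⟩ := habs.2 (a : Matrix ι ι F) (forall_matrixSet.mpr fun b hb => by
      simpa using congrArg Units.val (hcomm b hb))
    refine (mem_scalars_iff a).mpr ⟨Units.mk0 c ?_, hc⟩
    intro h0
    rw [h0, zero_smul] at hc
    exact a.ne_zero hc
  obtain ⟨hperf, hsimp, hna, hcent, habs⟩ := residual_of_minimal hn hclean hN hmin hcl
  by_cases hre : ∃ F₀ : Subfield F, F₀ ≠ ⊤ ∧ RealisableOver F₀ (matrixSet N)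
  · obtain ⟨F₀, h0, h1⟩ := hre
    exact Or.inl (hsub N F₀ hN habs h0 h1)
  right
  refine ⟨N, ⟨hN.1, fun h hh x hx => hN.2 h hh x hx, hperf, hsimp, hna, hcent, habs,
    fun F₀ h0 h1 => hre ⟨F₀, h0, h1⟩⟩, ?_⟩
  rintro ⟨σ, f, hf, hfix⟩
  exact hre ⟨_, fixSubfield_ne_top hf.ne_refl,
    realisable_of_two_forms habs hf hfix hQ.polar_bilinear hQ.nondegenerate hfixN⟩

omit [Fintype F] in
lemma polar_quadFormOdd (m : ℕ) (u v : Unit ⊕ (Fin m ⊕ Fin m) → F) :
    QuadraticMap.polar (quadFormOdd m F) u v = 2 * u (.inl ()) * v (.inl ()) +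
      ∑ i : Fin m, (u (.inr (.inl i)) * v (.inr (.inr i)) + v (.inr (.inl i)) * u (.inr (.inr i))) := by
  simp only [QuadraticMap.polar, quadFormOdd, Pi.add_apply, add_mul, mul_add, Finset.sum_add_distrib]
  ring

omit [Fintype F] in
lemma quadFormOdd_nondegenerate (m : ℕ) (h2 : (2 : F) ≠ 0) :
    IsNondegenerateQuadraticForm (quadFormOdd m F) := by
  refine ⟨fun c v => ?_, ⟨?_, ?_, ?_, ?_⟩, fun v hv => ?_⟩
  · simp only [quadFormOdd, Pi.smul_apply, smul_eq_mul, mul_add, Finset.mul_sum]
    congr 1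
    · ring
    · exact Finset.sum_congr rfl fun i _ => by ring
  · intro x y v; simp only [polar_quadFormOdd, Pi.add_apply, add_mul, mul_add, Finset.sum_add_distrib]; ring
  · intro c x v
    simp only [polar_quadFormOdd, Pi.smul_apply, smul_eq_mul, mul_add, Finset.mul_sum]
    congr 1
    · ring
    · exact Finset.sum_congr rfl fun i _ => by ring
  · intro v x y; simp only [polar_quadFormOdd, Pi.add_apply, add_mul, mul_add, Finset.sum_add_distrib]; ring
  · intro c v x
    simp only [polar_quadFormOdd, Pi.smul_apply, smul_eq_mul, mul_add, Finset.mul_sum]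
    congr 1
    · ring
    · exact Finset.sum_congr rfl fun i _ => by ring
  · have key : ∀ w, QuadraticMap.polar (quadFormOdd m F) v w ≠ 0 →
        (∃ x, QuadraticMap.polar (quadFormOdd m F) x v ≠ 0) ∧ ∃ x, QuadraticMap.polar (quadFormOdd m F) v x ≠ 0 :=
      fun w hw => ⟨⟨w, by rwa [polar_symm]⟩, w, hw⟩
    obtain ⟨i, hi⟩ := Function.ne_iff.mp hv
    rcases i with ⟨⟩ | j | j
    · refine key (Pi.single (.inl ()) 1) ?_
      simpa [polar_quadFormOdd, Pi.single_apply, h2] using hi
    · refine key (Pi.single (.inr (.inr j)) 1) ?_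
      simpa [polar_quadFormOdd, Pi.single_apply] using hi
    · refine key (Pi.single (.inr (.inl j)) 1) ?_
      simpa [polar_quadFormOdd, Pi.single_apply] using hi

omit [Fintype F] in
lemma det_gram_quadFormOdd_mem (m : ℕ) (F₁ : Subfield F) :
    (gramMatrix (QuadraticMap.polar (quadFormOdd m F))).det ∈ F₁ := by
  classical
  rw [Matrix.det_apply']
  refine Subfield.sum_mem _ fun σ _ => F₁.mul_mem (intCast_mem F₁ _) (Subfield.prod_mem _ fun i _ => ?_)
  have h1 : ∀ a b : Unit ⊕ (Fin m ⊕ Fin m), (Pi.single a (1 : F) : _ → F) b ∈ F₁ := fun a b => by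
    rw [Pi.single_apply]; split
    · exact F₁.one_mem
    · exact F₁.zero_mem
  simp only [gramMatrix, polar_quadFormOdd]
  refine F₁.add_mem (F₁.mul_mem (F₁.mul_mem ?_ (h1 _ _)) (h1 _ _))
    (Subfield.sum_mem _ fun j _ => F₁.add_mem (F₁.mul_mem (h1 _ _) (h1 _ _)) (F₁.mul_mem (h1 _ _) (h1 _ _)))
  rw [← one_add_one_eq_two]; exact F₁.add_mem F₁.one_mem F₁.one_mem

/-- The maximal subgroups of `Ω` in odd prime dimension are geometric or residual. -/
theorem maximal_orthogonal_prime {m n : ℕ} (hnm : n = 2 * m + 1) (hn : n.Prime) (h5 : 5 ≤ n)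
    (hq : Odd (Fintype.card F)) {H : Subgroup (GL (Unit ⊕ (Fin m ⊕ Fin m)) F)}
    (hH : IsMaximalIn (omegaGL (quadFormOdd m F)) H) :
    (∃ W : Submodule F (Unit ⊕ (Fin m ⊕ Fin m) → F), W ≠ ⊥ ∧ IsTotallySingularQuad (quadFormOdd m F) W ∧
      H = subspaceStabilizer W ⊓ omegaGL (quadFormOdd m F)) ∨
    (∃ W : Submodule F (Unit ⊕ (Fin m ⊕ Fin m) → F), W ≠ ⊥ ∧ Even (Module.finrank F W) ∧
      IsNondegenerateOn (QuadraticMap.polar (quadFormOdd m F)) W ∧
      ¬ (Fintype.card F = 3 ∧ Module.finrank F W = 2 ∧ IsPlusTypeOn (quadFormOdd m F) W) ∧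
      H = subspaceStabilizer W ⊓ omegaGL (quadFormOdd m F)) ∨
    ((Fintype.card F).Prime ∧ ∃ D : Fin n → Submodule F (Unit ⊕ (Fin m ⊕ Fin m) → F),
      IsOrthogonalMDecomposition (quadFormOdd m F) 1 D ∧
      H = decompositionStabilizer D ⊓ omegaGL (quadFormOdd m F)) ∨
    (∃ (F₀ : Subfield F) (r : ℕ) (P : GL (Unit ⊕ (Fin m ⊕ Fin m)) F), r.Prime ∧
      Fintype.card F = Nat.card F₀ ^ r ∧ IsQuadFormRationalStructure (quadFormOdd m F) F₀ P ∧
      H = subfieldSubgroup F₀ P ⊓ omegaGL (quadFormOdd m F)) ∨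
    InOrthogonalResidualClass H := by
  have h2 : (2 : F) ≠ 0 := by
    intro h
    have hc := FiniteField.cast_card_eq_zero F
    obtain ⟨k, hk⟩ := hq
    rw [hk, Nat.cast_add, Nat.cast_mul, Nat.cast_ofNat, h, zero_mul, zero_add, Nat.cast_one] at hc
    exact one_ne_zero hc
  have hQ := quadFormOdd_nondegenerate m h2
  have hcn : Fintype.card (Unit ⊕ (Fin m ⊕ Fin m)) = n := by
    simp only [Fintype.card_sum, Fintype.card_unit, Fintype.card_fin]; omega
  rcases structure_orthogonal_prime hQ hq (det_gram_quadFormOdd_mem m) (hcn.symm ▸ hn) (hcn.symm ▸ h5) hH.1.le with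
    ⟨W, h0, h1, hs, h⟩ | ⟨W, h0, h1, he, hW, hb, h⟩ | ⟨hp, D, hD, h⟩ | ⟨F₀, r, P, hr, hcard, hP, h⟩ | h
  · exact Or.inl ⟨W, h0, hs, eq_inf_of_le hH h (omega_not_le_subspace hQ h2 (by omega) h0 h1)⟩
  · exact Or.inr (Or.inl ⟨W, h0, he, hW, hb, eq_inf_of_le hH h (omega_not_le_subspace hQ h2 (by omega) h0 h1)⟩)
  · refine Or.inr (Or.inr (Or.inl ⟨hp, ?_⟩))
    have h' := eq_inf_of_le hH h (omega_not_le_frame hQ h2 (by omega) hD.decomp)
    revert D
    rw [hcn]
    exact fun D hD _ h' => ⟨D, hD, h'⟩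
  · refine Or.inr (Or.inr (Or.inr (Or.inl ⟨F₀, r, P, hr, hcard, hP,
      eq_inf_of_le hH h (omega_not_le_subfield hQ h2 (by omega) ?_ P)⟩)))
    rintro rfl
    rw [Nat.card_congr Subfield.topEquiv.toEquiv, Nat.card_eq_fintype_card] at hcard
    have := Nat.pow_right_injective (Fintype.one_lt_card (α := F))
      (show Fintype.card F ^ 1 = Fintype.card F ^ r by rwa [pow_one])
    exact hr.ne_one this.symm
  · exact Or.inr (Or.inr (Or.inr (Or.inr h)))

end CfsgLib.Aschbacher
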