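import Cfsg.Agent.Aschbacher.Rational
import Cfsg.Agent.Aschbacher.LinearMember

/-!
Siegel elements of an orthogonal group over a finite field of odd order; `Ω` lies in no reducible, frame or
subfield group.
-/
set_option autoImplicit false

namespace CfsgLib.Aschbacher

open Matrix Cfsg Cfsg.Geo CfsgLib.GeoClifford CfsgLib.Geo
open scoped MatrixGroups commutatorElement

variable {ι : Type} [Fintype ι] [DecidableEq ι] {F : Type*} [Field F] {Q : (ι → F) → F}

omit [Fintype ι] [DecidableEq ι] in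
lemma polar_symm (Q : (ι → F) → F) (u v : ι → F) : QuadraticMap.polar Q u v = QuadraticMap.polar Q v u := by
  simp only [QuadraticMap.polar, add_comm u v]; ring

section Basic
variable (hQ : IsNondegenerateQuadraticForm Q)
include hQ

omit [Fintype ι] [DecidableEq ι] in
lemma polar_self_eq (v : ι → F) : QuadraticMap.polar Q v v = 2 * Q v := by
  rw [QuadraticMap.polar, ← two_smul F v, hQ.smul]
  ring

omit [Fintype ι] [DecidableEq ι] in
lemma quad_add (u v : ι → F) : Q (u + v) = Q u + Q v + QuadraticMap.polar Q u v := by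
  rw [QuadraticMap.polar]; ring

omit [Fintype ι] [DecidableEq ι] in
lemma isHerm_polar : IsHerm (RingEquiv.refl F) (QuadraticMap.polar Q) :=
  ⟨isSesq_of_bilinear hQ.polar_bilinear, fun _ => rfl, fun u v => by simp [polar_symm Q u v], hQ.nondegenerate⟩

/-- The Siegel map of an isotropic `u` and a vector orthogonal to it. -/
def siegLin (u x : ι → F) : (ι → F) →ₗ[F] (ι → F) where
  toFun v := v + QuadraticMap.polar Q v u • x + (-QuadraticMap.polar Q v x - Q x * QuadraticMap.polar Q v u) • u
  map_add' a b := by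
    simp only [hQ.polar_bilinear.add_left]
    module
  map_smul' c a := by
    simp only [hQ.polar_bilinear.smul_left, RingHom.id_apply]
    module

omit [Fintype ι] [DecidableEq ι] in
lemma siegLin_add {u x y : ι → F} (hu : Q u = 0) (hx : QuadraticMap.polar Q u x = 0)
    (hy : QuadraticMap.polar Q u y = 0) (v : ι → F) :
    siegLin hQ u x (siegLin hQ u y v) = siegLin hQ u (x + y) v := by
  have huu : QuadraticMap.polar Q u u = 0 := by rw [polar_self_eq hQ, hu, mul_zero]
  have hyu : QuadraticMap.polar Q y u = 0 := by rw [polar_symm, hy]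
  simp only [siegLin, LinearMap.coe_mk, AddHom.coe_mk, hQ.polar_bilinear.add_left, hQ.polar_bilinear.smul_left,
    hQ.polar_bilinear.add_right, quad_add hQ x y, huu, hx, hyu, mul_zero, add_zero, polar_symm Q x y]
  module

omit [Fintype ι] [DecidableEq ι] in
lemma siegLin_zero (u v : ι → F) : siegLin hQ u 0 v = v := by
  have h0 : Q 0 = 0 := by simpa using hQ.smul 0 0
  have h1 : QuadraticMap.polar Q v 0 = 0 := by simpa using hQ.polar_bilinear.smul_right 0 v 0
  simp [siegLin, h0, h1]

/-- The Siegel element. -/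
noncomputable def sieg {u x : ι → F} (hu : Q u = 0) (hx : QuadraticMap.polar Q u x = 0) : GL ι F where
  val := LinearMap.toMatrix' (siegLin hQ u x)
  inv := LinearMap.toMatrix' (siegLin hQ u (-x))
  val_inv := by
    have hx' : QuadraticMap.polar Q u (-x) = 0 := by
      rw [← neg_one_smul F x, hQ.polar_bilinear.smul_right, hx, mul_zero]
    rw [← LinearMap.toMatrix'_comp, show (siegLin hQ u x).comp (siegLin hQ u (-x)) = LinearMap.id from
      LinearMap.ext fun v => by
        rw [LinearMap.comp_apply, siegLin_add hQ hu hx hx', add_neg_cancel, siegLin_zero hQ, LinearMap.id_apply],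
      LinearMap.toMatrix'_id]
  inv_val := by
    have hx' : QuadraticMap.polar Q u (-x) = 0 := by
      rw [← neg_one_smul F x, hQ.polar_bilinear.smul_right, hx, mul_zero]
    rw [← LinearMap.toMatrix'_comp, show (siegLin hQ u (-x)).comp (siegLin hQ u x) = LinearMap.id from
      LinearMap.ext fun v => by
        rw [LinearMap.comp_apply, siegLin_add hQ hu hx' hx, neg_add_cancel, siegLin_zero hQ, LinearMap.id_apply],
      LinearMap.toMatrix'_id]

lemma sieg_mulVec {u x : ι → F} (hu : Q u = 0) (hx : QuadraticMap.polar Q u x = 0) (v : ι → F) :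
    (sieg hQ hu hx : Matrix ι ι F) *ᵥ v =
      v + QuadraticMap.polar Q v u • x + (-QuadraticMap.polar Q v x - Q x * QuadraticMap.polar Q v u) • u := by
  show LinearMap.toMatrix' (siegLin hQ u x) *ᵥ v = _
  rw [LinearMap.toMatrix'_mulVec]
  rfl

lemma sieg_preserves {u x : ι → F} (hu : Q u = 0) (hx : QuadraticMap.polar Q u x = 0) :
    sieg hQ hu hx ∈ isometryGroup F Q := by
  have hxu : QuadraticMap.polar Q x u = 0 := by rw [polar_symm, hx]
  intro v _
  show Q ((sieg hQ hu hx : Matrix ι ι F) *ᵥ v) = Q v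
  rw [sieg_mulVec hQ hu hx, quad_add hQ, quad_add hQ, hQ.smul, hQ.smul, hQ.polar_bilinear.add_left,
    hQ.polar_bilinear.smul_left, hQ.polar_bilinear.smul_right, hQ.polar_bilinear.smul_right,
    hQ.polar_bilinear.smul_right, hu, hxu]
  ring

/-- A Siegel element of an anisotropic vector lies in `Ω`. -/
lemma sieg_mem_omega (h2 : (2 : F) ≠ 0) {u x : ι → F} (hu : Q u = 0) (hx : QuadraticMap.polar Q u x = 0)
    (hQx : Q x ≠ 0) : sieg hQ hu hx ∈ omegaGL Q := by
  set y : ι → F := (2 : F)⁻¹ • x with hy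
  have huy : QuadraticMap.polar Q u y = 0 := by rw [hy, hQ.polar_bilinear.smul_right, hx, mul_zero]
  set t := sieg hQ hu huy with ht
  let R : (ι → F) →ₗ[F] (ι → F) :=
    { toFun := fun v => v - (QuadraticMap.polar Q v x / Q x) • x
      map_add' := fun a b => by simp only [hQ.polar_bilinear.add_left, add_div]; module
      map_smul' := fun c a => by simp only [hQ.polar_bilinear.smul_left, RingHom.id_apply, mul_div_assoc]; module }
  have hRR : R.comp R = LinearMap.id := by
    refine LinearMap.ext fun v => ?_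
    have e : QuadraticMap.polar Q (v - (QuadraticMap.polar Q v x / Q x) • x) x = -QuadraticMap.polar Q v x := by
      rw [sub_eq_add_neg, ← neg_smul, hQ.polar_bilinear.add_left, hQ.polar_bilinear.smul_left, polar_self_eq hQ]
      field_simp
      ring
    simp only [R, LinearMap.comp_apply, LinearMap.coe_mk, AddHom.coe_mk, e, LinearMap.id_apply, neg_div]
    module
  let r : GL ι F := ⟨LinearMap.toMatrix' R, LinearMap.toMatrix' R,
    by rw [← LinearMap.toMatrix'_comp, hRR, LinearMap.toMatrix'_id],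
    by rw [← LinearMap.toMatrix'_comp, hRR, LinearMap.toMatrix'_id]⟩
  have hr : ∀ v, (r : Matrix ι ι F) *ᵥ v = v - (QuadraticMap.polar Q v x / Q x) • x := fun v => by
    show LinearMap.toMatrix' R *ᵥ v = _
    rw [LinearMap.toMatrix'_mulVec]; rfl
  have hrI : r ∈ isometryGroup F Q := by
    intro v _
    show Q ((r : Matrix ι ι F) *ᵥ v) = Q v
    rw [hr, sub_eq_add_neg, ← neg_smul, quad_add hQ, hQ.smul, hQ.polar_bilinear.smul_right]
    field_simp
    ring
  have hmem : ⁅t, r⁆ ∈ omegaGL Q := by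
    refine ⟨⁅(⟨t, sieg_preserves hQ hu huy⟩ : isometryGroup F Q), ⟨r, hrI⟩⁆,
      Subgroup.commutator_mem_commutator (Subgroup.mem_top _) (Subgroup.mem_top _), ?_⟩
    simp [commutatorElement_def]
  suffices h : ⁅t, r⁆ = sieg hQ hu hx by rwa [h] at hmem
  rw [commutatorElement_def]
  have hrinv : r⁻¹ = r := Units.ext rfl
  rw [hrinv]
  suffices h : t * r = sieg hQ hu hx * r * t by
    rw [h, mul_inv_cancel_right, mul_assoc]
    nth_rewrite 2 [← hrinv]
    rw [mul_inv_cancel, mul_one]
  apply Units.ext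
  apply Matrix.toLin'.injective
  refine LinearMap.ext fun v => ?_
  simp only [Units.val_mul, Matrix.toLin'_apply, ← mulVec_mulVec, ht, sieg_mulVec hQ, hr]
  have hyQ : Q y = (2 : F)⁻¹ ^ 2 * Q x := hQ.smul _ _
  simp only [hy, hQ.polar_bilinear.add_left, hQ.polar_bilinear.smul_left, hQ.polar_bilinear.smul_right,
    sub_eq_add_neg, ← neg_smul, polar_self_eq hQ, polar_symm Q x u, hx, hu, smul_smul] at *
  rw [hyQ]
  match_scalars <;> field_simp <;> ring

variable [Fintype F]

omit [DecidableEq ι] in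
lemma exists_ternary_zero (h2 : (2 : F) ≠ 0) {b1 b2 b3 : ι → F} (h1 : Q b1 ≠ 0) (hb2 : Q b2 ≠ 0)
    (h12 : QuadraticMap.polar Q b1 b2 = 0) (h13 : QuadraticMap.polar Q b1 b3 = 0)
    (h23 : QuadraticMap.polar Q b2 b3 = 0) : ∃ y z : F, Q (y • b1 + z • b2 + b3) = 0 := by
  classical
  have hodd : Fintype.card F % 2 = 1 := FiniteField.odd_card_of_char_ne_two (by
    intro h
    haveI := ringChar.of_eq h
    exact h2 (by exact_mod_cast CharP.cast_eq_zero F 2))
  obtain ⟨y, z, hyz⟩ := FiniteField.exists_root_sum_quadratic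
    (f := Polynomial.C (Q b1) * Polynomial.X ^ 2) (g := Polynomial.C (Q b2) * Polynomial.X ^ 2 + Polynomial.C (Q b3))
    (Polynomial.degree_C_mul_X_pow 2 h1)
    (by rw [Polynomial.degree_add_C (by rw [Polynomial.degree_C_mul_X_pow 2 hb2]; decide),
      Polynomial.degree_C_mul_X_pow 2 hb2]; rfl) hodd
  refine ⟨y, z, ?_⟩
  simp only [Polynomial.eval_mul, Polynomial.eval_C, Polynomial.eval_pow, Polynomial.eval_X, Polynomial.eval_add] at hyz
  rw [quad_add hQ, quad_add hQ, hQ.smul, hQ.smul, hQ.polar_bilinear.add_left, hQ.polar_bilinear.smul_left,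
    hQ.polar_bilinear.smul_left, hQ.polar_bilinear.smul_right, hQ.polar_bilinear.smul_left, h12, h13, h23]
  linear_combination hyz

omit [Fintype F] in
/-- A subspace of more than half dimension contains an anisotropic vector. -/
lemma exists_quad_ne_zero (h2 : (2 : F) ≠ 0) {T : Submodule F (ι → F)}
    (hT : Fintype.card ι < 2 * Module.finrank F T) : ∃ t ∈ T, Q t ≠ 0 := by
  by_contra hcon
  push Not at hcon
  have hfh := isHerm_polar hQ
  have hTP : T ≤ hfh.perp T := by
    intro s hs t ht
    rw [QuadraticMap.polar, hcon _ (T.add_mem hs ht), hcon s hs, hcon t ht]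
    ring
  have hle : Module.finrank F (hfh.perp T) + Module.finrank F T ≤ Fintype.card ι := by
    let A := gramMatrix (QuadraticMap.polar Q)
    have hA : IsUnit A := gram_isUnit hfh.sesq hfh.nd
    -- `x ↦ Bᵀ x` embeds `perp T` into the annihilator of `T`
    let φ : (ι → F) →ₗ[F] Module.Dual F (ι → F) :=
      { toFun := fun x =>
          { toFun := fun v => QuadraticMap.polar Q x v
            map_add' := fun a b => hQ.polar_bilinear.add_right _ _ _
            map_smul' := fun c a => hQ.polar_bilinear.smul_right _ _ _ }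
        map_add' := fun a b => LinearMap.ext fun v => hQ.polar_bilinear.add_left _ _ _
        map_smul' := fun c a => LinearMap.ext fun v => hQ.polar_bilinear.smul_left _ _ _ }
    have hinj : Function.Injective φ := by
      rw [injective_iff_map_eq_zero]
      intro x hx
      by_contra hx0
      obtain ⟨-, v, hv⟩ := hQ.nondegenerate x hx0
      exact hv (LinearMap.congr_fun hx v)
    have hsub : (hfh.perp T).map φ ≤ T.dualAnnihilator := by
      rintro _ ⟨x, hx, rfl⟩
      rw [Submodule.mem_dualAnnihilator]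
      exact fun t ht => hx t ht
    have h1 := Submodule.finrank_mono hsub
    rw [← (Submodule.equivMapOfInjective φ hinj _).finrank_eq] at h1
    have h3 := Subspace.finrank_add_finrank_dualAnnihilator_eq T
    rw [Module.finrank_fintype_fun_eq_card] at h3
    omega
  have := Submodule.finrank_mono hTP
  omega

omit [Fintype F] in
lemma exists_quad_ne_zero_perp (h2 : (2 : F) ≠ 0) (hn : 3 ≤ Fintype.card ι) (u : ι → F) :
    ∃ x, QuadraticMap.polar Q u x = 0 ∧ Q x ≠ 0 := by
  have hfh := isHerm_polar hQ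
  have h1 := hfh.card_le_finrank_add_perp (F ∙ u)
  have h2' : Module.finrank F (F ∙ u) ≤ 1 := by
    rcases eq_or_ne u 0 with rfl | hu
    · rw [Submodule.span_zero_singleton, finrank_bot]; exact Nat.zero_le _
    · rw [finrank_span_singleton hu]
  obtain ⟨x, hx, hx0⟩ := exists_quad_ne_zero hQ h2 (T := hfh.perp (F ∙ u)) (by omega)
  exact ⟨x, by rw [polar_symm]; exact hx u (Submodule.mem_span_singleton_self _), hx0⟩

/-- There is an isotropic vector not orthogonal to everything. -/
lemma exists_isotropic_quad (h2 : (2 : F) ≠ 0) (hn : 3 ≤ Fintype.card ι) :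
    ∃ u x, u ≠ 0 ∧ Q u = 0 ∧ QuadraticMap.polar Q u x ≠ 0 := by
  have hfh := isHerm_polar hQ
  obtain ⟨b1, -, h1⟩ := exists_quad_ne_zero hQ h2 (T := ⊤) (by
    rw [finrank_top, Module.finrank_fintype_fun_eq_card]; omega)
  obtain ⟨b2, h12, hb2⟩ := exists_quad_ne_zero_perp hQ h2 hn b1
  have hb1 : b1 ≠ 0 := fun h => h1 (by rw [h]; simpa using hQ.smul 0 0)
  have hle : Module.finrank F (Submodule.span F ({b1, b2} : Set (ι → F))) ≤ 2 := by
    classical
    have := finrank_span_finset_le_card (R := F) ({b1, b2} : Finset (ι → F))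
    rw [Finset.coe_pair] at this
    exact this.trans Finset.card_le_two
  have hP := hfh.card_le_finrank_add_perp (Submodule.span F ({b1, b2} : Set (ι → F)))
  obtain ⟨b3, hb3, hb30⟩ := (hfh.perp (Submodule.span F ({b1, b2} : Set (ι → F)))).ne_bot_iff.mp
    (fun h => by rw [h, finrank_bot] at hP; omega)
  have h13 : QuadraticMap.polar Q b1 b3 = 0 := by
    rw [polar_symm]; exact hb3 b1 (Submodule.subset_span (Set.mem_insert _ _))
  have h23 : QuadraticMap.polar Q b2 b3 = 0 := by
    rw [polar_symm]; exact hb3 b2 (Submodule.subset_span (Set.mem_insert_of_mem _ rfl))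
  obtain ⟨y, z, hyz⟩ := exists_ternary_zero hQ h2 h1 hb2 h12 h13 h23
  have hne : y • b1 + z • b2 + b3 ≠ 0 := by
    intro h
    have hB := congrArg (fun w => QuadraticMap.polar Q w b1) h
    have hB' := congrArg (fun w => QuadraticMap.polar Q w b2) h
    have hz : ∀ w, QuadraticMap.polar Q 0 w = 0 := fun w => by simpa using hQ.polar_bilinear.smul_left 0 0 w
    simp only [hQ.polar_bilinear.add_left, hQ.polar_bilinear.smul_left, hz, polar_self_eq hQ, polar_symm Q b2 b1,
      h12, polar_symm Q b3 b1, h13, mul_zero, add_zero] at hB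
    simp only [hQ.polar_bilinear.add_left, hQ.polar_bilinear.smul_left, hz, polar_self_eq hQ, h12,
      polar_symm Q b3 b2, h23, mul_zero, zero_add, add_zero] at hB'
    have hy : y = 0 := (mul_eq_zero.mp hB).resolve_right (mul_ne_zero h2 h1)
    have hz' : z = 0 := (mul_eq_zero.mp hB').resolve_right (mul_ne_zero h2 hb2)
    rw [hy, hz', zero_smul, zero_smul, zero_add, zero_add] at h
    exact hb30 h
  obtain ⟨-, w, hw⟩ := hQ.nondegenerate _ hne
  exact ⟨_, w, hne, hyz, hw⟩

/-- No proper subspace is stable under all Siegel elements of anisotropic vectors. -/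
lemma siegel_not_stable (h2 : (2 : F) ≠ 0) (hn : 3 ≤ Fintype.card ι) {W : Submodule F (ι → F)}
    (h0 : W ≠ ⊥) (h1 : W ≠ ⊤) : ¬ ∀ (u x : ι → F) (hu : Q u = 0) (hx : QuadraticMap.polar Q u x = 0), Q x ≠ 0 →
      ∀ v ∈ W, (sieg hQ hu hx : Matrix ι ι F) *ᵥ v ∈ W := by
  intro hle
  have hfh := isHerm_polar hQ
  set P := hfh.perp W
  have hcase : ∀ u, Q u = 0 → u ∈ W ∨ u ∈ P := by
    intro u hu
    by_cases huP : u ∈ P
    · exact Or.inr huP
    left
    obtain ⟨v, hv, hvu⟩ : ∃ v ∈ W, QuadraticMap.polar Q u v ≠ 0 := by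
      by_contra h
      push Not at h
      exact huP h
    obtain ⟨x, hx, hQx⟩ := exists_quad_ne_zero_perp hQ h2 hn u
    have hx' : QuadraticMap.polar Q u (-x) = 0 := by
      rw [← neg_one_smul F x, hQ.polar_bilinear.smul_right, hx, mul_zero]
    have hQx' : Q (-x) = Q x := by rw [← neg_one_smul F x, hQ.smul]; ring
    have e1 := hle u x hu hx hQx v hv
    have e2 := hle u (-x) hu hx' (hQx' ▸ hQx) v hv
    rw [sieg_mulVec] at e1 e2
    have h := W.sub_mem (W.add_mem e1 e2) (W.add_mem hv hv)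
    have hne : (-2 * Q x * QuadraticMap.polar Q v u) ≠ 0 :=
      mul_ne_zero (mul_ne_zero (neg_ne_zero.mpr h2) hQx) (by rwa [polar_symm])
    have e : v + QuadraticMap.polar Q v u • x + (-QuadraticMap.polar Q v x - Q x * QuadraticMap.polar Q v u) • u +
        (v + QuadraticMap.polar Q v u • -x +
          (-QuadraticMap.polar Q v (-x) - Q (-x) * QuadraticMap.polar Q v u) • u) - (v + v) =
        (-2 * Q x * QuadraticMap.polar Q v u) • u := by
      rw [hQx', ← neg_one_smul F x, hQ.polar_bilinear.smul_right]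
      module
    rw [e] at h
    exact (W.smul_mem_iff hne).mp h
  obtain ⟨z, x, -, hz, hzx⟩ := exists_isotropic_quad hQ h2 hn
  have hall : ∀ T : Submodule F (ι → F), T ≠ ⊤ → ∃ w, Q w = 0 ∧ w ∉ T := by
    intro T hT
    by_contra hcon
    push Not at hcon
    refine hT (eq_top_iff.mpr fun v _ => ?_)
    have hgood : ∀ w, QuadraticMap.polar Q z w ≠ 0 → w ∈ T := by
      intro w hw
      have h : Q (w + (-(Q w) / QuadraticMap.polar Q z w) • z) = 0 := by
        rw [quad_add hQ, hQ.smul, hz, hQ.polar_bilinear.smul_right, polar_symm Q w z]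
        field_simp
        ring
      exact (T.add_mem_iff_left (T.smul_mem _ (hcon z hz))).mp (hcon _ h)
    by_cases hv : QuadraticMap.polar Q z v = 0
    · have := hgood (v + x) (by rw [hQ.polar_bilinear.add_right, hv, zero_add]; exact hzx)
      exact (T.add_mem_iff_left (hgood x hzx)).mp this
    · exact hgood v hv
  obtain ⟨w0, hw0, hw0W⟩ := hall W h1
  obtain ⟨w1, hw1, hw1P⟩ := hall P (hfh.perp_ne_top h0)
  have hw1W : w1 ∈ W := (hcase w1 hw1).resolve_right hw1P
  have hw0P : w0 ∈ P := (hcase w0 hw0).resolve_left hw0W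
  rcases hcase (w0 + w1) (by rw [quad_add hQ, hw0, hw1, hw0P w1 hw1W]; ring) with h | h
  · exact hw0W ((W.add_mem_iff_left hw1W).mp h)
  · exact hw1P ((P.add_mem_iff_right hw0P).mp h)

/-- `Ω` is irreducible. -/
theorem omega_not_le_subspace (h2 : (2 : F) ≠ 0) (hn : 3 ≤ Fintype.card ι) {W : Submodule F (ι → F)}
    (h0 : W ≠ ⊥) (h1 : W ≠ ⊤) : ¬ omegaGL Q ≤ subspaceStabilizer W := fun hle =>
  siegel_not_stable hQ h2 hn h0 h1 fun _ _ hu hx hQx v hv =>
    mem_subspaceStabilizer.mp (hle (sieg_mem_omega hQ h2 hu hx hQx)) v hv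

/-- `Ω` stabilises no orthogonal frame. -/
theorem omega_not_le_frame (h2 : (2 : F) ≠ 0) (hn : 4 ≤ Fintype.card ι)
    {D : Fin (Fintype.card ι) → Submodule F (ι → F)}
    (hD : IsNondegenerateMDecomposition (QuadraticMap.polar Q) 1 D) : ¬ omegaGL Q ≤ decompositionStabilizer D := by
  classical
  intro hle
  obtain ⟨b, hb, hbD⟩ := exists_line_basis hD.decomp
  have hmem : ∀ i, b i ∈ D i := fun i => by rw [hbD i]; exact Submodule.mem_span_singleton_self _
  have horth : ∀ i j, i ≠ j → QuadraticMap.polar Q (b i) (b j) = 0 := fun i j h =>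
    hD.orthogonal i j h _ (hmem i) _ (hmem j)
  have hnd : ∀ i, Q (b i) ≠ 0 := by
    intro i hQ0
    obtain ⟨-, x, hx, hx0⟩ := hD.nondegenerate i (b i) (hmem i) (hb.ne_zero i)
    rw [hbD i] at hx
    obtain ⟨d, rfl⟩ := Submodule.mem_span_singleton.mp hx
    exact hx0 (by rw [hQ.polar_bilinear.smul_right, polar_self_eq hQ, hQ0, mul_zero, mul_zero])
  set k : Fin 4 → Fin (Fintype.card ι) := Fin.castLE hn
  have hk : Function.Injective k := Fin.castLE_injective hn
  have ho : ∀ i j : Fin 4, i ≠ j → QuadraticMap.polar Q (b (k i)) (b (k j)) = 0 := fun i j h => horth _ _ (hk.ne h)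
  obtain ⟨y, z, hyz⟩ := exists_ternary_zero hQ h2 (hnd (k 1)) (hnd (k 2)) (ho 1 2 (by decide)) (ho 1 3 (by decide))
    (ho 2 3 (by decide))
  set u := y • b (k 1) + z • b (k 2) + b (k 3) with hu
  have hu0 : QuadraticMap.polar Q u (b (k 0)) = 0 := by
    simp only [hu, hQ.polar_bilinear.add_left, hQ.polar_bilinear.smul_left, ho 1 0 (by decide), ho 2 0 (by decide),
      ho 3 0 (by decide), mul_zero, add_zero]
  obtain ⟨π, hπ⟩ := hle (sieg_mem_omega hQ h2 hyz hu0 (hnd (k 0)))
  have himg : b (k 0) + (-(2 * Q (b (k 0)))) • u ∈ D (π (k 0)) := by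
    rw [← hπ, Submodule.mem_map]
    refine ⟨b (k 0), hmem _, ?_⟩
    rw [Matrix.toLin'_apply, sieg_mulVec, polar_self_eq hQ, polar_symm Q (b (k 0)) u, hu0]
    module
  rw [hbD] at himg
  obtain ⟨d, hd⟩ := Submodule.mem_span_singleton.mp himg
  have hval : ∀ j, π (k 0) ≠ j → QuadraticMap.polar Q (b (k 0) + (-(2 * Q (b (k 0)))) • u) (b j) = 0 := by
    intro j hj
    rw [← hd, hQ.polar_bilinear.smul_left, horth _ _ hj, mul_zero]
  by_cases h3 : π (k 0) = k 3
  · have h := hval (k 0) (h3 ▸ hk.ne (by decide))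
    simp only [hQ.polar_bilinear.add_left, hQ.polar_bilinear.smul_left, hu0, mul_zero, add_zero, polar_self_eq hQ] at h
    exact mul_ne_zero h2 (hnd _) h
  · have h := hval (k 3) h3
    simp only [hu, hQ.polar_bilinear.add_left, hQ.polar_bilinear.smul_left, ho 0 3 (by decide), ho 1 3 (by decide),
      ho 2 3 (by decide), polar_self_eq hQ, mul_zero, zero_add] at h
    exact mul_ne_zero (neg_ne_zero.mpr (mul_ne_zero h2 (hnd _))) (mul_ne_zero h2 (hnd _)) h

omit hQ in
/-- A unipotent element of a subfield group is rational. -/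
lemma unipotent_rational {F₁ : Subfield F} {P g : GL ι F} [Nonempty ι]
    (hg : IsNilpotent ((g : Matrix ι ι F) - 1)) (hmem : g ∈ subfieldSubgroup F₁ P) (i j : ι) :
    (((P⁻¹ : GL ι F) : Matrix ι ι F) * ((g : Matrix ι ι F) - 1) * (P : Matrix ι ι F)) i j ∈ F₁ := by
  classical
  obtain ⟨x, hx, hxe⟩ := hmem
  obtain ⟨_, ⟨y, rfl⟩, s, hs, hys⟩ := Subgroup.mem_sup_of_normal_right.mp hx
  obtain ⟨cu, hcu⟩ := (mem_scalars_iff s).mp hs
  set c : F := (cu : F)
  set Y : Matrix ι ι F := (y : Matrix ι ι F₁).map F₁.subtype with hY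
  have hxv : (x : Matrix ι ι F) = c • Y := by
    rw [← hys, Units.val_mul, hcu, mul_smul_comm, mul_one]
    rfl
  set N := ((P⁻¹ : GL ι F) : Matrix ι ι F) * ((g : Matrix ι ι F) - 1) * (P : Matrix ι ι F) with hN
  have hNY : N = c • Y - 1 := by
    have he : x = P⁻¹ * g * P := by rw [← hxe]; simp [mul_assoc]
    rw [hN, mul_sub, sub_mul, mul_one, Units.inv_mul, ← Units.val_mul, ← Units.val_mul, ← he, hxv]
  obtain ⟨n, hn⟩ := hg
  have hnil : IsNilpotent N := ⟨n, by rw [hN, Units.conj_pow', hn, mul_zero, zero_mul]⟩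
  have hc0 : c ≠ 0 := cu.ne_zero
  have hcF : c⁻¹ ∈ F₁ := by
    rw [mem_subfield_iff]
    obtain ⟨p, hchar⟩ := CharP.exists F
    obtain ⟨e, hp, hF⟩ := FiniteField.card F p
    have : Fact p.Prime := ⟨hp⟩
    obtain ⟨d, -, hd⟩ := FiniteField.card F₁ p
    set τ : F →+* F := iterateFrobenius F p d
    have hτ : ∀ a, τ a = a ^ Nat.card F₁ := fun a => by
      rw [Nat.card_eq_fintype_card, hd]; exact iterateFrobenius_def p d a
    have hfix : Y.map τ = Y := by
      ext i j
      rw [Matrix.map_apply, hτ]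
      exact (mem_subfield_iff F₁ _).mp ((y : Matrix ι ι F₁) i j).2
    have h1 : IsNilpotent (Y - c⁻¹ • (1 : Matrix ι ι F)) := by
      have : Y - c⁻¹ • (1 : Matrix ι ι F) = c⁻¹ • N := by
        rw [hNY, smul_sub, smul_smul, inv_mul_cancel₀ hc0, one_smul]
      rw [this]; exact hnil.smul _
    have h1τ : IsNilpotent (Y - τ c⁻¹ • (1 : Matrix ι ι F)) := by
      have h := h1.map τ.mapMatrix
      rwa [map_sub, RingHom.mapMatrix_apply, hfix, RingHom.mapMatrix_apply, Matrix.map_smul' _ _ _ (map_mul τ),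
        Matrix.map_one _ (map_zero τ) (map_one τ)] at h
    have hd2 := Commute.isNilpotent_sub ?_ h1 h1τ
    swap
    · exact ((Commute.refl Y).sub_right ((Commute.one_right Y).smul_right _)).sub_left
        (((Commute.one_left _).smul_left _))
    rw [sub_sub_sub_cancel_left, ← sub_smul] at hd2
    obtain ⟨m, hm⟩ := hd2
    rw [smul_pow, one_pow, smul_eq_zero] at hm
    have := pow_eq_zero_iff'.mp (hm.resolve_right one_ne_zero)
    rw [sub_eq_zero] at this
    rw [← hτ]
    exact this.1
  have hc : c ∈ F₁ := by simpa using F₁.inv_mem hcF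
  show N i j ∈ F₁
  rw [hNY, Matrix.sub_apply, Matrix.smul_apply, smul_eq_mul]
  refine F₁.sub_mem (F₁.mul_mem hc ((y : Matrix ι ι F₁) i j).2) ?_
  rw [Matrix.one_apply]
  split
  · exact F₁.one_mem
  · exact F₁.zero_mem

/-- `Ω` lies in no subfield group. -/
theorem omega_not_le_subfield (h2 : (2 : F) ≠ 0) (hn : 3 ≤ Fintype.card ι) {F₁ : Subfield F} (hF₁ : F₁ ≠ ⊤)
    (P : GL ι F) : ¬ omegaGL Q ≤ subfieldSubgroup F₁ P := by
  classical
  intro hle
  have : Nonempty ι := Fintype.card_pos_iff.mp (by omega)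
  obtain ⟨u, -, hu0, hu, -⟩ := exists_isotropic_quad hQ h2 hn
  obtain ⟨x, hx, hQx⟩ := exists_quad_ne_zero_perp hQ h2 hn u
  let L1 : (ι → F) →ₗ[F] (ι → F) :=
    { toFun := fun v => QuadraticMap.polar Q v u • x - QuadraticMap.polar Q v x • u
      map_add' := fun a b => by simp only [hQ.polar_bilinear.add_left]; module
      map_smul' := fun c a => by simp only [hQ.polar_bilinear.smul_left, RingHom.id_apply]; module }
  set M := LinearMap.toMatrix' L1 with hM
  set N := ((P⁻¹ : GL ι F) : Matrix ι ι F) * M * (P : Matrix ι ι F) with hN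
  have hx' : ∀ t : F, QuadraticMap.polar Q u (t • x) = 0 := fun t => by
    rw [hQ.polar_bilinear.smul_right, hx, mul_zero]
  have hkey : ∀ t : F, t ≠ 0 → ∀ i j, 2 * t * N i j ∈ F₁ := by
    intro t ht i j
    have hQt : ∀ s : F, s ≠ 0 → Q (s • x) ≠ 0 := fun s hs => by
      rw [hQ.smul]; exact mul_ne_zero (pow_ne_zero _ hs) hQx
    set g1 := sieg hQ hu (hx' t) with hg1
    set g2 := sieg hQ hu (hx' (-t)) with hg2
    have huu : QuadraticMap.polar Q u u = 0 := by rw [polar_self_eq hQ, hu, mul_zero]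
    have hnil : ∀ s : F, IsNilpotent ((sieg hQ hu (hx' s) : Matrix ι ι F) - 1) := by
      intro s
      refine ⟨3, ?_⟩
      apply Matrix.toLin'.injective
      refine LinearMap.ext fun v => ?_
      have hxu : QuadraticMap.polar Q x u = 0 := by rw [polar_symm, hx]
      simp only [pow_succ, pow_zero, one_mul, map_zero, LinearMap.zero_apply, Matrix.toLin'_apply, ← mulVec_mulVec,
        sub_mulVec, one_mulVec, sieg_mulVec hQ, add_sub_add_right_eq_sub, hQ.smul, hQ.polar_bilinear.smul_right]
      simp only [sub_eq_add_neg, ← neg_one_smul F (_ : ι → F), hQ.polar_bilinear.add_left,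
        hQ.polar_bilinear.smul_left, smul_smul, hxu, huu, hx, polar_self_eq hQ, hu]
      module
    have h1 := unipotent_rational (hnil t) (hle (sieg_mem_omega hQ h2 hu (hx' t) (hQt t ht))) i j
    have h2' := unipotent_rational (hnil (-t)) (hle (sieg_mem_omega hQ h2 hu (hx' (-t)) (hQt _ (neg_ne_zero.mpr ht)))) i j
    have e : ((g1 : Matrix ι ι F) - 1) - ((g2 : Matrix ι ι F) - 1) = (2 * t) • M := by
      apply Matrix.toLin'.injective
      refine LinearMap.ext fun v => ?_
      rw [sub_sub_sub_cancel_right, Matrix.toLin'_apply, Matrix.toLin'_apply, sub_mulVec, sieg_mulVec, sieg_mulVec,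
        smul_mulVec, hM, LinearMap.toMatrix'_mulVec]
      simp only [L1, LinearMap.coe_mk, AddHom.coe_mk, hQ.polar_bilinear.smul_right, hQ.smul]
      module
    have h := F₁.sub_mem h1 h2'
    rw [← Matrix.sub_apply, ← sub_mul, ← mul_sub, e, mul_smul_comm, smul_mul_assoc, ← hN, Matrix.smul_apply,
      smul_eq_mul] at h
    exact h
  obtain ⟨i, j, hij⟩ : ∃ i j, N i j ≠ 0 := by
    by_contra h
    push Not at h
    have hN0 : N = 0 := Matrix.ext h
    have hM0 : M = 0 := by
      have e : (P : Matrix ι ι F) * N * ((P⁻¹ : GL ι F) : Matrix ι ι F) = M := by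
        rw [hN, ← mul_assoc, ← mul_assoc, Units.mul_inv, one_mul, mul_assoc, Units.mul_inv, mul_one]
      rw [← e, hN0, mul_zero, zero_mul]
    have h3 := congrArg (fun A => A *ᵥ x) hM0
    simp only [hM, LinearMap.toMatrix'_mulVec, zero_mulVec, L1, LinearMap.coe_mk, AddHom.coe_mk,
      polar_symm Q x u, hx, zero_smul, zero_sub, neg_eq_zero, polar_self_eq hQ] at h3
    exact (smul_eq_zero.mp h3).elim (mul_ne_zero h2 hQx) hu0
  apply hF₁
  rw [eq_top_iff]
  intro t _
  rcases eq_or_ne t 0 with rfl | ht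
  · exact F₁.zero_mem
  have h := F₁.div_mem (hkey t ht i j) (hkey 1 one_ne_zero i j)
  rwa [show 2 * t * N i j / (2 * 1 * N i j) = t by field_simp] at h

end Basic

end CfsgLib.Aschbacher
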