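import Cfsg.Agent.Aschbacher.UnitaryMember
import Cfsg.Agent.Aschbacher.Extraspecial

/-!
Aschbacher's theorem for the special unitary groups of odd prime dimension.
-/
set_option autoImplicit false

namespace CfsgLib.Aschbacher

open Matrix Cfsg Cfsg.Geo CfsgLib.GeoClifford
open scoped MatrixGroups commutatorElement

/-- Over a field with `q ^ 2` elements the standard hermitian form is unitary. -/
lemma exists_hermForm_unitary {F : Type*} [Field F] [Fintype F] {n q : ℕ} (hF : Fintype.card F = q ^ 2) :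
    ∃ σ : F ≃+* F, IsUnitaryForm σ (hermForm n F q) ∧ (∀ a, σ a = a ^ q) ∧
      ∃ p m : ℕ, p.Prime ∧ CharP F p ∧ q = p ^ m ∧ 0 < m := by
  classical
  obtain ⟨p, hchar⟩ := CharP.exists F
  obtain ⟨e, hp, hcard⟩ := FiniteField.card F p
  have : Fact p.Prime := ⟨hp⟩
  have hdvd : q ∣ p ^ (e : ℕ) := by rw [← hcard, hF]; exact Dvd.intro q (sq q).symm
  obtain ⟨m, -, rfl⟩ := (Nat.dvd_prime_pow hp).mp hdvd
  have hm : 0 < m := by
    rcases Nat.eq_zero_or_pos m with rfl | h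
    · have := Fintype.one_lt_card (α := F)
      simp [hF] at this
    · exact h
  let σ : F ≃+* F := RingEquiv.ofBijective (iterateFrobenius F p m)
    (Finite.injective_iff_bijective.mp (RingHom.injective _))
  have hσ : ∀ a, σ a = a ^ p ^ m := fun a => iterateFrobenius_def p m a
  have hinv : ∀ a, σ (σ a) = a := by
    intro a
    rw [hσ, hσ, ← pow_mul, ← sq, ← hF, FiniteField.pow_card]
  have hne : σ ≠ RingEquiv.refl F := by
    intro h
    obtain ⟨u, hu⟩ := IsCyclic.exists_generator (α := Fˣ)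
    have h1 : u ^ p ^ m = u := Units.ext (by
      rw [Units.val_pow_eq_pow_val, ← hσ, h]; rfl)
    have hpos : 0 < p ^ m := pow_pos hp.pos m
    have h2 : u ^ (p ^ m - 1) = 1 := by
      apply mul_right_cancel (b := u)
      rw [← pow_succ, Nat.sub_add_cancel hpos, h1, one_mul]
    have h3 := orderOf_eq_card_of_forall_mem_zpowers hu
    have h4 := Nat.le_of_dvd (by
      have : 1 < p ^ m := Nat.one_lt_pow hm.ne' hp.one_lt
      omega) (orderOf_dvd_of_pow_eq_one h2)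
    rw [h3, Nat.card_eq_fintype_card, Fintype.card_units, hF] at h4
    have : 1 < p ^ m := Nat.one_lt_pow hm.ne' hp.one_lt
    have : p ^ m < (p ^ m) ^ 2 := by nlinarith
    omega
  refine ⟨σ, ⟨hne, hinv, fun x y v => ?_, fun c x v => ?_, fun v w => ?_, fun v hv => ?_⟩, hσ, p, m, hp, hchar, rfl, hm⟩
  · simp only [hermForm, Pi.add_apply, add_mul, Finset.sum_add_distrib]
  · simp only [hermForm, Pi.smul_apply, smul_eq_mul, mul_assoc, Finset.mul_sum]
  · simp only [hermForm, map_sum, map_mul]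
    refine Finset.sum_congr rfl fun i _ => ?_
    rw [hσ (w i), ← hσ (v i), hinv]
    ring
  · obtain ⟨i, hi⟩ := Function.ne_iff.mp hv
    refine ⟨⟨Pi.single i 1, ?_⟩, Pi.single i 1, ?_⟩
    · simp only [hermForm, Pi.single_apply, ite_mul, one_mul, zero_mul, Finset.sum_ite_eq', Finset.mem_univ, if_true]
      exact pow_ne_zero _ hi
    · simp only [hermForm, Pi.single_apply, ← hσ, apply_ite σ, map_one, map_zero, mul_ite, mul_one, mul_zero,
        Finset.sum_ite_eq', Finset.mem_univ, if_true]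
      exact hi

variable {ι : Type} [Fintype ι] [DecidableEq ι] {F : Type*} [Field F] [Fintype F]

/-- The possible outcomes. -/
theorem structure_unitary_prime {σ : F ≃+* F} {f : (ι → F) → (ι → F) → F} (hf : IsUnitaryForm σ f)
    {p m : ℕ} (hp : p.Prime) [CharP F p] (hF : Fintype.card F = p ^ (2 * m)) (hσ : ∀ a, σ a = a ^ p ^ m)
    {G : Subgroup (GL ι F)} (hn : (Fintype.card ι).Prime) (hodd : Odd (Fintype.card ι)) (hG : G ≤ isoSL f) :
    (∃ W : Submodule F (ι → F), W ≠ ⊥ ∧ IsTotallySingularFor f W ∧ G ≤ subspaceStabilizer W) ∨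
    (∃ W : Submodule F (ι → F), W ≠ ⊥ ∧ IsNondegenerateOn f W ∧ 2 * Module.finrank F W < Fintype.card ι ∧
      G ≤ subspaceStabilizer W) ∨
    (∃ D : Fin (Fintype.card ι) → Submodule F (ι → F), IsNondegenerateMDecomposition f 1 D ∧
      G ≤ decompositionStabilizer D) ∨
    (∃ K : Subalgebra F (Matrix ι ι F), IsFieldSubalgebra (Fintype.card ι) K ∧ IsAdjointClosedFor f K ∧
      G ≤ subalgebraNormalizer K) ∨
    (∃ (F₀ : Subfield F) (r : ℕ) (P : GL ι F), r.Prime ∧ (Odd r ∨ (r = 2 ∧ Odd (Fintype.card F))) ∧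
      Fintype.card F = Nat.card F₀ ^ r ∧ IsFormRationalStructure f F₀ 1 P ∧ G ≤ subfieldSubgroup F₀ P) ∨
    (∃ R : Subgroup (GL ι F), orderOf (p : ZMod (Fintype.card ι)) = 2 * m ∧
      IsSymplecticTypeGroup (Fintype.card ι) R ∧ ActsAbsolutelyIrreducibly (matrixSet R) ∧ R ≤ isoSL f ∧
      Nat.card R = Fintype.card ι ^ 3 ∧ Nat.card (Subgroup.center R) = Fintype.card ι ∧
      ⁅R, R⁆ ≤ scalars ι F ∧ G ≤ subgroupNormalizer R) ∨
    InUnitaryResidualClass G := by
  classical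
  have hfh := isHerm_of_unitary hf
  have hfixG := fixesForm_of_le_isoSL hG
  have : Nonempty ι := Fintype.card_pos_iff.mp hn.pos
  have hn3 : 3 ≤ Fintype.card ι := by
    have := hn.two_le
    rcases hodd with ⟨k, hk⟩
    omega
  by_cases hirr : ActsIrreducibly (matrixSet G)
  swap
  · rcases hfh.reducible_cases hodd hfixG hirr with h | h
    · exact Or.inl h
    · exact Or.inr (Or.inl h)
  right; right
  by_cases hclean : Clean G
  swap
  · obtain ⟨N, hN, -, hK | ⟨b, χ, hb⟩⟩ := not_clean_cases hn hirr hclean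
    · exact Or.inr (Or.inl ⟨commutant N, hK,
        hfh.commutant_adjointClosed (fixesForm_of_le_isoSL (hN.1.trans hG)),
        le_subalgebraNormalizer (commutant_conjStable hN)⟩)
    · exact Or.inl ⟨_, hfh.frame_nondegenerate hodd hn.two_le hfixG hN.1 hb, hb.le_decompositionStabilizer⟩
  right; right
  obtain ⟨N, hN, hNs, hmin⟩ := exists_minimal_normal (not_le_scalars_of_irreducible hn.two_le hirr)
  have hfixN := fixesForm_of_le_isoSL (hN.1.trans hG)
  have hsub : ∀ F₀ : Subfield F, ActsAbsolutelyIrreducibly (matrixSet N) → F₀ ≠ ⊤ →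
      RealisableOver F₀ (matrixSet N) →
      ∃ (F₁ : Subfield F) (r : ℕ) (P : GL ι F), r.Prime ∧ (Odd r ∨ (r = 2 ∧ Odd (Fintype.card F))) ∧
        Fintype.card F = Nat.card F₁ ^ r ∧ IsFormRationalStructure f F₁ 1 P ∧ G ≤ subfieldSubgroup F₁ P := by
    intro F₀ habs h0 hre
    obtain ⟨F₁, r, hle, hr, hcard⟩ := exists_prime_index_ge h0
    obtain ⟨B, hB⟩ := realisableOver_mono hle hre
    obtain ⟨P, h1, h2, h3⟩ := exists_formRational_unitary hodd hn.two_le hf habs hN hfixN hr hcard hB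
    exact ⟨F₁, r, P, hr, h1, hcard, h2, h3⟩
  by_cases hcl : ⁅N, N⁆ ≤ scalars ι F
  · obtain ⟨hst, hcz, hcard, habs, c, hc, hreal, -⟩ :=
      extraspecial_of_minimal hn hodd (hG.trans inf_le_right) hclean hN hNs hcl
    have : Fact p.Prime := ⟨hp⟩
    have : Fact (Fintype.card ι).Prime := ⟨hn⟩
    set r := Fintype.card ι with hr
    set e := orderOf (p : ZMod r) with he
    have hcast : ∀ d, (p : ZMod r) ^ d = 1 ↔ r ∣ p ^ d - 1 := by
      intro d
      rw [← ZMod.natCast_eq_zero_iff, Nat.cast_sub (Nat.one_le_pow _ _ hp.pos), Nat.cast_pow, Nat.cast_one,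
        sub_eq_zero]
    have hrq : r ∣ p ^ (2 * m) - 1 := by
      rw [← hF]
      exact hc.dvd_of_pow_eq_one _ (FiniteField.pow_card_sub_one_eq_one c (hc.ne_zero hn.ne_zero))
    have hef : e ∣ 2 * m := orderOf_dvd_of_pow_eq_one ((hcast _).mpr hrq)
    have hm : 0 < 2 * m := by
      rcases Nat.eq_zero_or_pos (2 * m) with h | h
      · have := Fintype.one_lt_card (α := F)
        rw [hF, h, pow_zero] at this
        omega
      · exact h
    have he0 : 0 < e := Nat.pos_of_dvd_of_pos hef hm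
    by_cases hfe : e = 2 * m
    · refine Or.inr (Or.inl ⟨N, hfe, hst, habs, hN.1.trans hG, hcard, hcz, hcl, fun g hg => ?_⟩)
      rw [subgroupNormalizer, Subgroup.mem_normalizer_iff]
      intro x
      refine ⟨fun hx => hN.2 g hg x hx, fun hx => ?_⟩
      simpa [mul_assoc] using hN.2 g⁻¹ (G.inv_mem hg) _ hx
    · left
      obtain ⟨F₀, hF0, hmem⟩ := exists_subfield_card hp hF hef he0
      have hcF : c ∈ F₀ := by
        apply hmem
        obtain ⟨k, hk⟩ := (hcast e).mp (pow_orderOf_eq_one _)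
        rw [← Nat.sub_add_cancel (Nat.one_le_pow e p hp.pos), pow_succ, hk, pow_mul, hc.pow_eq_one, one_pow,
          one_mul]
      refine hsub F₀ habs ?_ (hreal F₀ hcF)
      intro htop
      rw [htop, Nat.card_congr Subfield.topEquiv.toEquiv, Nat.card_eq_fintype_card, hF] at hF0
      exact hfe (Nat.pow_right_injective hp.two_le hF0).symm
  · obtain ⟨hperf, hsimp, hna, hcent, habs⟩ := residual_of_minimal hn hclean hN hmin hcl
    by_cases hre : ∃ F₀ : Subfield F, F₀ ≠ ⊤ ∧ RealisableOver F₀ (matrixSet N)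
    · obtain ⟨F₀, h0, h1⟩ := hre
      exact Or.inl (hsub F₀ habs h0 h1)
    right; right
    refine ⟨N, ⟨hN.1, fun h hh x hx => hN.2 h hh x hx, hperf, hsimp, hna, hcent, habs,
      fun F₀ h0 h1 => hre ⟨F₀, h0, h1⟩⟩, ?_, ?_⟩
    · rintro ⟨Q, hQ, hfix⟩
      have hfix' : FixesForm (matrixSet N) (QuadraticMap.polar Q) := by
        intro s hs u v
        rw [QuadraticMap.polar, ← mulVec_add, hfix s hs, hfix s hs, hfix s hs]
        rfl
      exact hre ⟨_, fixSubfield_ne_top hf.ne_refl,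
        realisable_of_two_forms habs hf hfixN hQ.polar_bilinear hQ.nondegenerate hfix'⟩
    · rintro ⟨g, hg, -⟩
      exact not_symplectic_of_odd hodd g hg

/-- The maximal subgroups of `SU` in odd prime dimension at least five are geometric or residual. -/
theorem maximal_unitary_prime {n q : ℕ} (hn : n.Prime) (h5 : 5 ≤ n) (hF : Fintype.card F = q ^ 2)
    {H : Subgroup (GL (Fin n) F)} (hH : IsMaximalIn (GU n F q ⊓ specialLinear (Fin n) F) H) :
    (∃ W : Submodule F (Fin n → F), W ≠ ⊥ ∧ IsTotallySingularFor (hermForm n F q) W ∧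
      H = subspaceStabilizer W ⊓ (GU n F q ⊓ specialLinear (Fin n) F)) ∨
    (∃ W : Submodule F (Fin n → F), W ≠ ⊥ ∧ IsNondegenerateOn (hermForm n F q) W ∧
      2 * Module.finrank F W < n ∧ H = subspaceStabilizer W ⊓ (GU n F q ⊓ specialLinear (Fin n) F)) ∨
    (∃ D : Fin n → Submodule F (Fin n → F), IsNondegenerateMDecomposition (hermForm n F q) 1 D ∧
      H = decompositionStabilizer D ⊓ (GU n F q ⊓ specialLinear (Fin n) F)) ∨
    (∃ K : Subalgebra F (Matrix (Fin n) (Fin n) F), IsFieldSubalgebra n K ∧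
      IsAdjointClosedFor (hermForm n F q) K ∧ H = subalgebraNormalizer K ⊓ (GU n F q ⊓ specialLinear (Fin n) F)) ∨
    (∃ (F₀ : Subfield F) (r : ℕ) (P : GL (Fin n) F), r.Prime ∧ Odd r ∧ Fintype.card F = Nat.card F₀ ^ r ∧
      IsFormRationalStructure (hermForm n F q) F₀ 1 P ∧
      H = subfieldSubgroup F₀ P ⊓ (GU n F q ⊓ specialLinear (Fin n) F)) ∨
    (Odd q ∧ ∃ (F₀ : Subfield F) (P : GL (Fin n) F), Fintype.card F = Nat.card F₀ ^ 2 ∧
      IsFormRationalStructure (hermForm n F q) F₀ 1 P ∧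
      H = subfieldSubgroup F₀ P ⊓ (GU n F q ⊓ specialLinear (Fin n) F)) ∨
    (∃ (p m : ℕ) (R : Subgroup (GL (Fin n) F)), p.Prime ∧ CharP F p ∧ q = p ^ m ∧
      orderOf (p : ZMod n) = 2 * m ∧ IsSymplecticTypeGroup n R ∧ ActsAbsolutelyIrreducibly (matrixSet R) ∧
      R ≤ GU n F q ∧ R ≤ similarityGroup (hermForm n F q) ∧ Nat.card R = n ^ 3 ∧
      Nat.card (Subgroup.center R) = n ∧
      H = subgroupNormalizer R ⊓ (GU n F q ⊓ specialLinear (Fin n) F)) ∨
    InUnitaryResidualClass H := by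
  obtain ⟨σ, hf, hσ, p, m, hp, hchar, hq, -⟩ := exists_hermForm_unitary (n := n) hF
  have hFp : Fintype.card F = p ^ (2 * m) := by rw [hF, hq, ← pow_mul, mul_comm]
  have hodd : Odd n := hn.odd_of_ne_two (by omega)
  have hS : GU n F q ⊓ specialLinear (Fin n) F = isoSL (hermForm n F q) := rfl
  rw [hS] at hH ⊢
  have hcn : Fintype.card (Fin n) = n := Fintype.card_fin n
  have h := structure_unitary_prime hf hp hFp (fun a => hq ▸ hσ a) (hcn.symm ▸ hn) (hcn.symm ▸ hodd) hH.1.le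
  have hn3 : 3 ≤ Fintype.card (Fin n) := by omega
  rcases h with ⟨W, h0, h1, h⟩ | ⟨W, h0, h1, h2, h⟩ | ⟨D, hD, h⟩ | ⟨K, hK, hKa, h⟩ |
    ⟨F₀, r, P, hr, hrq, hcard, hP, h⟩ | ⟨R, ho, hR, hRi, hRS, hRc, hRz, hcl, h⟩ | h
  · refine Or.inl ⟨W, h0, h1, eq_inf_of_le hH h (isoSL_not_le_subspace hf hn3 h0 ?_)⟩
    rintro rfl
    obtain ⟨z, x, -, hzx⟩ := exists_isotropic_pair hf hn3
    exact hzx (h1 z Submodule.mem_top x Submodule.mem_top)
  · rw [hcn] at h2
    refine Or.inr (Or.inl ⟨W, h0, h1, h2, eq_inf_of_le hH h (isoSL_not_le_subspace hf hn3 h0 ?_)⟩)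
    rintro rfl
    rw [finrank_top, Module.finrank_fintype_fun_eq_card, hcn] at h2
    omega
  · refine Or.inr (Or.inr (Or.inl ?_))
    have h' := eq_inf_of_le hH h (isoSL_not_le_frame hf (by omega) hD)
    revert D
    rw [hcn]
    exact fun D hD _ h' => ⟨D, hD, h'⟩
  · refine Or.inr (Or.inr (Or.inr (Or.inl ⟨K, ⟨hK.comm, hK.inv, hK.finrank_eq.trans hcn⟩, hKa,
      eq_inf_of_le hH h (isoSL_not_le_field hf hn3 (by omega) hK)⟩)))
  · have h' := eq_inf_of_le hH h (isoSL_not_le_subfield hf hn3 hr hrq hcard hP)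
    rcases hrq with hro | ⟨rfl, hFo⟩
    · exact Or.inr (Or.inr (Or.inr (Or.inr (Or.inl ⟨F₀, r, P, hr, hro, hcard, hP, h'⟩))))
    · refine Or.inr (Or.inr (Or.inr (Or.inr (Or.inr (Or.inl ⟨?_, F₀, P, hcard, hP, h'⟩)))))
      rw [hF] at hFo
      exact (Nat.odd_pow_iff two_ne_zero).mp hFo
  · rw [hcn] at ho hR hRc hRz
    refine Or.inr (Or.inr (Or.inr (Or.inr (Or.inr (Or.inr (Or.inl ⟨p, m, R, hp, hchar, hq, ho, hR, hRi,
      hRS.trans inf_le_left, fun g hg => ⟨1, fun u v => ?_⟩, hRc, hRz,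
      eq_inf_of_le hH h (isoSL_not_le_normalizer hf (by omega) hRi hcl)⟩))))))
    rw [Units.val_one, one_mul]
    exact (hRS hg).1 u v
  · exact Or.inr (Or.inr (Or.inr (Or.inr (Or.inr (Or.inr (Or.inr h))))))

lemma orderOf_two_mul_eleven {p m : ℕ} (h : orderOf (p : ZMod 11) = 2 * m) (hm : 0 < m) :
    (m = 1 ∧ p % 11 = 10) ∨ (m = 5 ∧ (p % 11 = 2 ∨ p % 11 = 6 ∨ p % 11 = 7 ∨ p % 11 = 8)) := by
  have key : ∀ x : ZMod 11, x ≠ 0 → x.val ≠ 1 → (x ^ 5 ≠ 1) →
      (x ^ 2 = 1 ∧ x.val = 10) ∨ (x ^ 2 ≠ 1 ∧ (x.val = 2 ∨ x.val = 6 ∨ x.val = 7 ∨ x.val = 8)) := by decide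
  have : Fact (Nat.Prime 11) := ⟨by norm_num⟩
  have hval : (p : ZMod 11).val = p % 11 := ZMod.val_natCast (n := 11) p
  have h0 : (p : ZMod 11) ≠ 0 := by
    intro h0
    rw [h0, orderOf_eq_zero_iff'.mpr (fun k hk => by rw [zero_pow hk.ne']; exact zero_ne_one)] at h
    omega
  have hd : 2 * m ∣ 10 := h ▸ orderOf_dvd_of_pow_eq_one (ZMod.pow_card_sub_one_eq_one h0)
  have h5 : (p : ZMod 11) ^ 5 ≠ 1 := by
    intro h5
    have := h ▸ orderOf_dvd_of_pow_eq_one h5
    exact absurd ((dvd_mul_right 2 m).trans this) (by decide)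
  have h1 : (p : ZMod 11).val ≠ 1 := by
    intro h1
    have : (p : ZMod 11) = 1 := ZMod.val_injective 11 (h1.trans rfl)
    rw [this, orderOf_one] at h
    omega
  have hmd : m ∈ Nat.divisors 5 := Nat.mem_divisors.mpr ⟨Nat.dvd_of_mul_dvd_mul_left two_pos hd, by norm_num⟩
  rw [show Nat.divisors 5 = {1, 5} by decide] at hmd
  simp only [Finset.mem_insert, Finset.mem_singleton] at hmd
  rcases key _ h0 h1 h5 with ⟨h2, hv⟩ | ⟨h2, hv⟩
  · refine Or.inl ⟨hmd.resolve_right fun h' => ?_, hval ▸ hv⟩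
    have := orderOf_le_of_pow_eq_one two_pos h2
    omega
  · refine Or.inr ⟨hmd.resolve_left fun h' => h2 ?_, hval ▸ hv⟩
    subst h'
    have h4 := pow_orderOf_eq_one ((p : ℕ) : ZMod 11)
    rw [h] at h4
    exact h4

lemma orderOf_two_mul_seven {p m : ℕ} (h : orderOf (p : ZMod 7) = 2 * m) (hm : 0 < m) :
    (m = 1 ∧ p % 7 = 6) ∨ (m = 3 ∧ (p % 7 = 3 ∨ p % 7 = 5)) := by
  have key : ∀ x : ZMod 7, x ≠ 0 → x.val ≠ 1 → (x ^ 3 ≠ 1) →
      (x ^ 2 = 1 ∧ x.val = 6) ∨ (x ^ 2 ≠ 1 ∧ (x.val = 3 ∨ x.val = 5)) := by decide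
  have : Fact (Nat.Prime 7) := ⟨by norm_num⟩
  have hval : (p : ZMod 7).val = p % 7 := ZMod.val_natCast (n := 7) p
  have h0 : (p : ZMod 7) ≠ 0 := by
    intro h0
    rw [h0, orderOf_eq_zero_iff'.mpr (fun k hk => by rw [zero_pow hk.ne']; exact zero_ne_one)] at h
    omega
  have hd : 2 * m ∣ 6 := h ▸ orderOf_dvd_of_pow_eq_one (ZMod.pow_card_sub_one_eq_one h0)
  have h3 : (p : ZMod 7) ^ 3 ≠ 1 := by
    intro h3
    have := h ▸ orderOf_dvd_of_pow_eq_one h3
    exact absurd ((dvd_mul_right 2 m).trans this) (by decide)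
  have h1 : (p : ZMod 7).val ≠ 1 := by
    intro h1
    have : (p : ZMod 7) = 1 := ZMod.val_injective 7 (h1.trans rfl)
    rw [this, orderOf_one] at h
    omega
  have hmd : m ∈ Nat.divisors 3 := Nat.mem_divisors.mpr ⟨Nat.dvd_of_mul_dvd_mul_left two_pos hd, by norm_num⟩
  rw [show Nat.divisors 3 = {1, 3} by decide] at hmd
  simp only [Finset.mem_insert, Finset.mem_singleton] at hmd
  rcases key _ h0 h1 h3 with ⟨h2, hv⟩ | ⟨h2, hv⟩
  · refine Or.inl ⟨hmd.resolve_right fun h' => ?_, hval ▸ hv⟩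
    have := orderOf_le_of_pow_eq_one two_pos h2
    omega
  · refine Or.inr ⟨hmd.resolve_left fun h' => h2 ?_, hval ▸ hv⟩
    subst h'
    have h4 := pow_orderOf_eq_one ((p : ℕ) : ZMod 7)
    rw [h] at h4
    exact h4

end CfsgLib.Aschbacher
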