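import Cfsg.Agent.Aschbacher.Herm
import Cfsg.Agent.Aschbacher.Subfield
import Cfsg.Agent.Geo.UnitaryBasic

/-!
Forms fixed by an absolutely irreducible group written over a subfield: rational structures, and two forms
of different type force a smaller field.
-/
set_option autoImplicit false

namespace CfsgLib.Aschbacher

open Matrix Cfsg.Geo CfsgLib.GeoClifford
open scoped MatrixGroups

variable {ι : Type} [Fintype ι] [DecidableEq ι] {F : Type*} [Field F]

/-- An absolutely irreducible set fixes at most one form of each type, up to scalars. -/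
lemma gram_unique {σ : F ≃+* F} {A B : Matrix ι ι F} {S : Set (Matrix ι ι F)}
    (habs : ActsAbsolutelyIrreducibly S) (hA : IsUnit A) (h1 : ∀ s ∈ S, sᵀ * A * s.map σ = A)
    (h2 : ∀ s ∈ S, sᵀ * B * s.map σ = B) : ∃ c : F, B = c • A := by
  obtain ⟨A', hA'⟩ := hA.exists_left_inv
  have hcomm : ∀ s ∈ S, (A' * B) * s.map σ = s.map σ * (A' * B) := by
    intro s hs
    have h1 := h1 s hs
    have h2 := h2 s hs
    have hinv : A' * sᵀ * A * s.map σ = 1 := by
      rw [mul_assoc A', mul_assoc A', h1, hA']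
    have hinv' : s.map σ * (A' * sᵀ * A) = 1 := mul_eq_one_comm.mp hinv
    calc A' * B * s.map σ = (s.map σ * (A' * sᵀ * A)) * (A' * B * s.map σ) := by rw [hinv', one_mul]
      _ = s.map σ * (A' * sᵀ * (A * A') * B * s.map σ) := by simp only [mul_assoc]
      _ = s.map σ * (A' * (sᵀ * B * s.map σ)) := by
          rw [mul_eq_one_comm.mp hA', mul_one]; simp only [mul_assoc]
      _ = s.map σ * (A' * B) := by rw [h2]
  obtain ⟨c, hc⟩ := habs.2 ((A' * B).map σ.symm) fun s hs => by
    have h := congrArg (fun M : Matrix ι ι F => M.map σ.symm) (hcomm s hs)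
    simp only [Matrix.map_mul] at h
    have e : (s.map σ).map σ.symm = s := by ext i j; simp
    rw [e] at h
    rw [Matrix.map_mul]
    exact h
  refine ⟨σ c, ?_⟩
  have h : A' * B = (σ c) • (1 : Matrix ι ι F) := by
    ext i j
    have := congrArg σ (congrFun (congrFun hc i) j)
    by_cases hij : i = j <;> simpa [Matrix.map_apply, Matrix.one_apply, hij] using this
  calc B = A * (A' * B) := by rw [← mul_assoc, mul_eq_one_comm.mp hA', one_mul]
    _ = σ c • A := by rw [h, mul_smul_comm, mul_one]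

variable [Fintype F]

/-- The elements fixed by an automorphism. -/
def fixSubfield (σ : F ≃+* F) : Subfield F where
  carrier := {a | σ a = a}
  one_mem' := map_one σ
  zero_mem' := map_zero σ
  add_mem' := fun {a b} (ha : σ a = a) (hb : σ b = b) => show σ (a + b) = a + b by rw [map_add, ha, hb]
  mul_mem' := fun {a b} (ha : σ a = a) (hb : σ b = b) => show σ (a * b) = a * b by rw [map_mul, ha, hb]
  neg_mem' := fun {a} (ha : σ a = a) => show σ (-a) = -a by rw [map_neg, ha]
  inv_mem' := fun a (ha : σ a = a) => show σ a⁻¹ = a⁻¹ by rw [map_inv₀, ha]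

omit [Fintype F] in
lemma fixSubfield_ne_top {σ : F ≃+* F} (hσ : σ ≠ RingEquiv.refl F) : fixSubfield σ ≠ ⊤ := by
  intro h
  exact hσ (RingEquiv.ext fun a => (h ▸ Subfield.mem_top a : a ∈ fixSubfield σ))

/-- Elements of a subfield of a finite field are the roots of `X ^ |F₁| - X`. -/
lemma mem_subfield_iff (F₁ : Subfield F) (x : F) : x ∈ F₁ ↔ x ^ Nat.card F₁ = x := by
  classical
  rw [Nat.card_eq_fintype_card]
  refine ⟨fun hx => congrArg Subtype.val (FiniteField.pow_card (⟨x, hx⟩ : F₁)), fun hx => ?_⟩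
  have hQ : 1 < Fintype.card F₁ := Fintype.one_lt_card
  set p : Polynomial F := Polynomial.X ^ Fintype.card F₁ - Polynomial.X
  have hp : p ≠ 0 := FiniteField.X_pow_card_sub_X_ne_zero F hQ
  have hdeg : p.natDegree = Fintype.card F₁ := FiniteField.X_pow_card_sub_X_natDegree_eq F hQ
  let s : Finset F := Finset.univ.filter (fun a => a ∈ F₁)
  have hs : s ⊆ p.roots.toFinset := by
    intro a ha
    rw [Multiset.mem_toFinset, Polynomial.mem_roots hp]
    have h : a ^ Fintype.card F₁ = a :=
      congrArg Subtype.val (FiniteField.pow_card (⟨a, (Finset.mem_filter.mp ha).2⟩ : F₁))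
    simp [p, h]
  have heq : s = p.roots.toFinset := Finset.eq_of_subset_of_card_le hs (by
    calc p.roots.toFinset.card ≤ Multiset.card p.roots := Multiset.toFinset_card_le _
      _ ≤ p.natDegree := Polynomial.card_roots' p
      _ = s.card := by rw [hdeg, Fintype.card_subtype])
  have hxr : x ∈ s := heq ▸ (by
    rw [Multiset.mem_toFinset, Polynomial.mem_roots hp]
    simp [p, hx])
  exact (Finset.mem_filter.mp hxr).2

lemma map_mem_subfield (σ : F ≃+* F) (F₁ : Subfield F) {x : F} (hx : x ∈ F₁) : σ x ∈ F₁ := by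
  rw [mem_subfield_iff] at hx ⊢
  rw [← map_pow, hx]

/-- A group fixing forms of two different types is realisable over the fixed field of the semilinearity. -/
lemma realisable_of_two_forms {N : Subgroup (GL ι F)} (habs : ActsAbsolutelyIrreducibly (matrixSet N))
    {σ : F ≃+* F} {f : (ι → F) → (ι → F) → F} (hf : IsUnitaryForm σ f) (hfix : FixesForm (matrixSet N) f)
    {g : (ι → F) → (ι → F) → F} (hg : IsBilinearForm g) (hgn : IsNondegenerateForm g)
    (hgfix : FixesForm (matrixSet N) g) : RealisableOver (fixSubfield σ) (matrixSet N) := by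
  classical
  rcases isEmpty_or_nonempty ι with h | h
  · exact ⟨1, fun _ _ i => (IsEmpty.false i).elim⟩
  obtain ⟨uA, huA⟩ := gram_isUnit (isSesq_of_unitary hf) hf.nondegenerate
  obtain ⟨uB, huB⟩ := gram_isUnit (isSesq_of_bilinear hg) hgn
  set C : GL ι F := uB⁻¹ * uA with hC
  -- conjugation by `C` is the semilinearity
  have hσ : ∀ n ∈ N, (n : Matrix ι ι F) * (C : Matrix ι ι F) =
      (C : Matrix ι ι F) * ((n : Matrix ι ι F)).map σ := by
    intro n hn
    have h1 := (fixes_iff (isSesq_of_unitary hf) _).mp (fun u v => hfix _ (coe_mem_matrixSet hn) u v)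
    have h2 := (fixes_iff (isSesq_of_bilinear hg) _).mp (fun u v => hgfix _ (coe_mem_matrixSet hn) u v)
    rw [← huA] at h1
    rw [← huB] at h2
    have e : ((n : Matrix ι ι F)).map (RingEquiv.refl F) = (n : Matrix ι ι F) := by ext i j; simp
    rw [e] at h2
    rw [hC, Units.val_mul]
    generalize (n : Matrix ι ι F) = s at h1 h2 ⊢
    have h3 : (uB : Matrix ι ι F) * s * ((uB⁻¹ : GL ι F) : Matrix ι ι F) * sᵀ = 1 := by
      have h4 : sᵀ * ((uB : Matrix ι ι F) * s * ((uB⁻¹ : GL ι F) : Matrix ι ι F)) = 1 := by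
        rw [← mul_assoc, ← mul_assoc, h2, Units.mul_inv]
      exact mul_eq_one_comm.mp h4
    calc s * (((uB⁻¹ : GL ι F) : Matrix ι ι F) * (uA : Matrix ι ι F))
        = s * (((uB⁻¹ : GL ι F) : Matrix ι ι F) * (sᵀ * (uA : Matrix ι ι F) * s.map σ)) := by rw [h1]
      _ = ((uB⁻¹ : GL ι F) : Matrix ι ι F) * ((uB : Matrix ι ι F) * s * ((uB⁻¹ : GL ι F) : Matrix ι ι F) * sᵀ) *
          ((uA : Matrix ι ι F) * s.map σ) := by simp only [← mul_assoc, Units.inv_mul, one_mul]
      _ = ((uB⁻¹ : GL ι F) : Matrix ι ι F) * (uA : Matrix ι ι F) * s.map σ := by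
          rw [h3, mul_one, ← mul_assoc]
  set M : Matrix ι ι F := (C : Matrix ι ι F) with hM
  have hmap2 : ∀ X : Matrix ι ι F, (X.map σ).map σ = X := fun X => by
    ext i j; exact hf.involutive _
  obtain ⟨lam, hlam⟩ := habs.2 (M * M.map σ) (forall_matrixSet.mpr fun n hn => by
    have h := hσ n hn
    have h' := congrArg (fun X : Matrix ι ι F => X.map σ) h
    simp only [Matrix.map_mul, hmap2] at h'
    rw [mul_assoc, ← h', ← mul_assoc, ← h, mul_assoc])
  have hMu : IsUnit M := C.isUnit
  have hlam0 : lam ≠ 0 := by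
    intro h0
    rw [h0, zero_smul] at hlam
    have hu : IsUnit (M * M.map σ) := hMu.mul (by
      rw [show M.map σ = (σ : F →+* F).mapMatrix M from rfl]; exact hMu.map _)
    rw [hlam] at hu
    exact not_isUnit_zero hu
  have hlamσ : σ lam = lam := by
    have h1 : M.map σ * M = σ lam • (1 : Matrix ι ι F) := by
      have h := congrArg (fun X : Matrix ι ι F => X.map σ) hlam
      simp only [Matrix.map_mul, hmap2] at h
      rw [h]
      ext i j
      by_cases hij : i = j <;> simp [Matrix.map_apply, Matrix.one_apply, hij]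
    have h2 : M * (M.map σ * M) = lam • M := by rw [← mul_assoc, hlam, smul_mul_assoc, one_mul]
    rw [h1, mul_smul_comm, mul_one] at h2
    by_contra hne
    have h3 : (σ lam - lam) • M = 0 := by rw [sub_smul, h2, sub_self]
    exact hMu.ne_zero ((smul_eq_zero.mp h3).resolve_left (sub_ne_zero.mpr hne))
  obtain ⟨μ, hμ⟩ := CfsgLib.Geo.Unit.exists_norm_eq hf.ne_refl hf.involutive hlamσ
  have hμ0 : μ ≠ 0 := fun h => hlam0 (by rw [← hμ, h, zero_mul])
  set M' : Matrix ι ι F := μ⁻¹ • M with hM'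
  have hMM : M' * M'.map σ = 1 := by
    have e : M'.map σ = (σ μ)⁻¹ • M.map σ := by ext i j; simp [hM', Matrix.map_apply]
    rw [e, hM', smul_mul_assoc, mul_smul_comm, smul_smul, hlam, smul_smul, ← hμ]
    rw [show μ⁻¹ * (σ μ)⁻¹ * (μ * σ μ) = 1 by field_simp [show σ μ ≠ 0 by simpa using hμ0], one_smul]
  -- Hilbert 90: fixed vectors span
  let φ : (ι → F) → (ι → F) := fun v => M' *ᵥ (σ ∘ v)
  have hφφ : ∀ v, φ (φ v) = v := by
    intro v
    simp only [φ]
    rw [comp_mulVec, show σ ∘ (σ ∘ v) = v from funext fun i => hf.involutive _, mulVec_mulVec, hMM, one_mulVec]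
  have hφadd : ∀ u v, φ (u + v) = φ u + φ v := by
    intro u v
    simp only [φ]
    rw [← mulVec_add]
    congr 1
    funext i; simp
  have hφsmul : ∀ (a : F) v, φ (a • v) = σ a • φ v := by
    intro a v
    simp only [φ]
    rw [← mulVec_smul]
    congr 1
    funext i; simp
  obtain ⟨α, hα⟩ : ∃ α, σ α ≠ α := by
    by_contra h
    push Not at h
    exact hf.ne_refl (RingEquiv.ext h)
  have hspan : Submodule.span F {v | φ v = v} = ⊤ := by
    rw [eq_top_iff]
    intro v _
    have hw0 : φ (v + φ v) = v + φ v := by rw [hφadd, hφφ, add_comm]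
    have hw1 : φ (α • v + σ α • φ v) = α • v + σ α • φ v := by
      rw [hφadd, hφsmul, hφsmul, hφφ, hf.involutive, add_comm]
    have h : (α • v + σ α • φ v) - σ α • (v + φ v) = (α - σ α) • v := by
      rw [smul_add, sub_smul]; abel
    have hmem : (α - σ α) • v ∈ Submodule.span F {v | φ v = v} := by
      rw [← h]
      exact Submodule.sub_mem _ (Submodule.subset_span hw1) (Submodule.smul_mem _ _ (Submodule.subset_span hw0))
    have h2 := Submodule.smul_mem _ (α - σ α)⁻¹ hmem
    rwa [smul_smul, inv_mul_cancel₀ (sub_ne_zero.mpr (Ne.symm hα)), one_smul] at h2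
  obtain ⟨T, hTS, hTspan, hTli⟩ := exists_linearIndependent F {v : ι → F | φ v = v}
  rw [hspan] at hTspan
  let Bs : Module.Basis T F (ι → F) := Module.Basis.mk hTli (by rw [Subtype.range_coe_subtype]; simp [hTspan])
  letI := Fintype.ofFinite T
  have hcard : Fintype.card ι = Fintype.card T := by
    rw [← Module.finrank_eq_card_basis Bs, Module.finrank_fintype_fun_eq_card]
  let e : ι ≃ T := Fintype.equivOfCardEq hcard
  let X : Matrix ι ι F := Matrix.of fun r i => ((e i : T) : ι → F) r
  have hXu : IsUnit X := Matrix.linearIndependent_cols_iff_isUnit.mp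
    (show LinearIndependent F fun i => ((e i : T) : ι → F) from hTli.comp e e.injective)
  have hXφ : M' * X.map σ = X := by
    apply Matrix.ext_of_mulVec_single
    intro i
    have hcol : X *ᵥ Pi.single i 1 = ((e i : T) : ι → F) := by ext r; simp [X]
    have hs : σ ∘ (Pi.single i 1 : ι → F) = Pi.single i 1 := by
      ext k; by_cases hk : k = i <;> simp [Pi.single_apply, hk]
    rw [← mulVec_mulVec, hcol]
    conv_lhs => rw [← hs, ← comp_mulVec, hcol]
    exact hTS (e i).2
  obtain ⟨Xu, hXu'⟩ := hXu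
  refine ⟨Xu⁻¹, forall_matrixSet.mpr fun n hn r i => ?_⟩
  rw [inv_inv]
  set Y : Matrix ι ι F := ((Xu⁻¹ : GL ι F) : Matrix ι ι F) * (n : Matrix ι ι F) * (Xu : Matrix ι ι F) with hY
  show σ (Y r i) = Y r i
  have hn' : (n : Matrix ι ι F) * M' = M' * ((n : Matrix ι ι F)).map σ := by
    rw [hM', mul_smul_comm, smul_mul_assoc, hσ n hn]
  have h1 : (Xu : Matrix ι ι F) * Y = (n : Matrix ι ι F) * (Xu : Matrix ι ι F) := by
    rw [hY, ← mul_assoc, ← mul_assoc, Units.mul_inv, one_mul]
  have h2 : (Xu : Matrix ι ι F) * Y.map σ = (Xu : Matrix ι ι F) * Y := by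
    rw [hXu']
    conv_lhs => rw [← hXφ, mul_assoc, ← Matrix.map_mul, ← hXu', h1, Matrix.map_mul, ← mul_assoc, ← hn',
      mul_assoc, hXu', hXφ]
    rw [← hXu', h1]
  have h3 : Y.map σ = Y := Xu.isUnit.mul_left_cancel h2
  exact congrFun (congrFun h3 r) i

/-- In coordinates over a subfield the Gram matrix of a fixed form is rational up to a scalar. -/
lemma exists_rational_gram [Nonempty ι] {N : Subgroup (GL ι F)} (habs : ActsAbsolutelyIrreducibly (matrixSet N))
    {σ : F ≃+* F} {f : (ι → F) → (ι → F) → F} (hf : IsSesq σ f) (hnd : IsNondegenerateForm f)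
    (hfix : FixesForm (matrixSet N) f) (F₁ : Subfield F) (B : GL ι F)
    (hB : ∀ s ∈ matrixSet N, ∀ i j, ((B : Matrix ι ι F) * s * ((B⁻¹ : GL ι F) : Matrix ι ι F)) i j ∈ F₁) :
    ∃ (a : F) (A₀ : Matrix ι ι F₁), a ≠ 0 ∧
      (((B⁻¹ : GL ι F) : Matrix ι ι F))ᵀ * gramMatrix f * (((B⁻¹ : GL ι F) : Matrix ι ι F)).map σ =
        a • A₀.map F₁.subtype := by
  classical
  set P : Matrix ι ι F := ((B⁻¹ : GL ι F) : Matrix ι ι F) with hP
  set Q : Matrix ι ι F := (B : Matrix ι ι F) with hQ
  have hPQ : P * Q = 1 := by rw [hP, hQ, Units.inv_mul]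
  have hQP : Q * P = 1 := by rw [hP, hQ, Units.mul_inv]
  set A' := Pᵀ * gramMatrix f * P.map σ with hA'
  have hA'u : IsUnit A' := by
    have hPu : IsUnit P := (B⁻¹ : GL ι F).isUnit
    refine IsUnit.mul (IsUnit.mul ?_ (gram_isUnit hf hnd)) (hPu.map (σ : F →+* F).mapMatrix)
    rw [Matrix.isUnit_iff_isUnit_det, det_transpose, ← Matrix.isUnit_iff_isUnit_det]
    exact hPu
  have hA'fix : ∀ n ∈ N, (Q * (n : Matrix ι ι F) * P)ᵀ * A' * (Q * (n : Matrix ι ι F) * P).map σ = A' := by
    intro n hn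
    have h := (fixes_iff hf _).mp (fun u v => hfix _ (coe_mem_matrixSet hn) u v)
    generalize (n : Matrix ι ι F) = s at h ⊢
    calc _ = (P * (Q * s * P))ᵀ * gramMatrix f * (P * (Q * s * P)).map σ := by
          rw [hA', transpose_mul P (Q * s * P), Matrix.map_mul (L := P) (M := Q * s * P)]
          simp only [mul_assoc]
      _ = (s * P)ᵀ * gramMatrix f * (s * P).map σ := by rw [← mul_assoc, ← mul_assoc, hPQ, one_mul]
      _ = Pᵀ * (sᵀ * gramMatrix f * s.map σ) * P.map σ := by
          rw [transpose_mul, Matrix.map_mul]; simp only [mul_assoc]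
      _ = A' := by rw [h, hA']
  obtain ⟨i0, j0, hne⟩ : ∃ i j, A' i j ≠ 0 := by
    by_contra h
    push Not at h
    exact hA'u.ne_zero (Matrix.ext h)
  obtain ⟨π, hπ⟩ : ∃ π : Module.Dual F₁ F, π (A' i0 j0) ≠ 0 := by
    by_contra h
    push Not at h
    exact hne ((Module.forall_dual_apply_eq_zero_iff F₁ _).mp h)
  let A₀ : Matrix ι ι F₁ := fun i j => π (A' i j)
  set R : Matrix ι ι F := A₀.map F₁.subtype with hR
  have hRfix : ∀ s ∈ matrixSet N, sᵀ * (Qᵀ * R * Q.map σ) * s.map σ = Qᵀ * R * Q.map σ := by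
    refine forall_matrixSet.mpr fun n hn => ?_
    have h := hA'fix n hn
    have hrat : ∀ i j, (Q * (n : Matrix ι ι F) * P) i j ∈ F₁ := hB _ (coe_mem_matrixSet hn)
    have hs : Q * (n : Matrix ι ι F) = (Q * (n : Matrix ι ι F) * P) * Q := by rw [mul_assoc _ P, hPQ, mul_one]
    generalize Q * (n : Matrix ι ι F) * P = m at h hrat hs ⊢
    have hkey : mᵀ * R * m.map σ = R := by
      ext i j
      have e : ∀ k l, mᵀ i k * R k l * m.map σ l j = F₁.subtype (π (mᵀ i k * A' k l * m.map σ l j)) := by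
        intro k l
        have hk : mᵀ i k * m.map σ l j ∈ F₁ := F₁.mul_mem (hrat k i) (map_mem_subfield σ F₁ (hrat l j))
        rw [show mᵀ i k * A' k l * m.map σ l j = (⟨_, hk⟩ : F₁) • A' k l from by
          show _ = mᵀ i k * m.map σ l j * A' k l; ring, map_smul]
        show mᵀ i k * (π (A' k l) : F) * m.map σ l j = (mᵀ i k * m.map σ l j) * (π (A' k l) : F)
        ring
      simp only [Matrix.mul_apply, Finset.sum_mul]
      rw [Finset.sum_congr rfl fun l _ => Finset.sum_congr rfl fun k _ => e k l]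
      simp only [← map_sum]
      have hij := congrArg (fun X : Matrix ι ι F => X i j) h
      simp only [Matrix.mul_apply, Finset.sum_mul] at hij
      rw [hij]
      rfl
    calc _ = (Q * (n : Matrix ι ι F))ᵀ * R * (Q * (n : Matrix ι ι F)).map σ := by
          rw [transpose_mul, Matrix.map_mul]; simp only [mul_assoc]
      _ = Qᵀ * (mᵀ * R * m.map σ) * Q.map σ := by
          rw [hs, transpose_mul, Matrix.map_mul]; simp only [mul_assoc]
      _ = _ := by rw [hkey]
  obtain ⟨c, hc⟩ := gram_unique habs (gram_isUnit hf hnd)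
    (forall_matrixSet.mpr fun n hn => (fixes_iff hf _).mp (fun u v => hfix _ (coe_mem_matrixSet hn) u v)) hRfix
  have hRc : R = c • A' := by
    calc R = (Q * P)ᵀ * R * (Q * P).map σ := by rw [hQP, transpose_one, one_mul, Matrix.map_one _ (map_zero σ) (map_one σ), mul_one]
      _ = Pᵀ * (Qᵀ * R * Q.map σ) * P.map σ := by rw [transpose_mul, Matrix.map_mul]; simp only [mul_assoc]
      _ = c • A' := by rw [hc, mul_smul_comm, smul_mul_assoc, hA']
  have hc0 : c ≠ 0 := by
    intro h0
    rw [h0, zero_smul] at hRc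
    exact hπ (Subtype.ext (congrFun (congrFun hRc i0) j0))
  exact ⟨c⁻¹, A₀, inv_ne_zero hc0, by rw [← hR, hRc, smul_smul, inv_mul_cancel₀ hc0, one_smul]⟩

omit [Fintype F] in
/-- Scaling the basis does not change a subfield group. -/
lemma subfieldSubgroup_scalar_mul (F₁ : Subfield F) (P : GL ι F) {s : GL ι F} (hs : s ∈ scalars ι F) :
    subfieldSubgroup F₁ (s * P) = subfieldSubgroup F₁ P := by
  have e : (MulAut.conj (s * P)).toMonoidHom = (MulAut.conj P).toMonoidHom := by
    ext x : 1
    simp only [MulEquiv.coe_toMonoidHom, MulAut.conj_apply]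
    calc s * P * x * (s * P)⁻¹ = s * (P * x * P⁻¹) * s⁻¹ := by simp [mul_assoc]
      _ = P * x * P⁻¹ := by rw [scalars_comm hs, mul_inv_cancel_right]
  rw [subfieldSubgroup, e, subfieldSubgroup]

end CfsgLib.Aschbacher
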