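import Cfsg.Agent.Aschbacher.Prime

/-!
An irreducible group of prime degree with a non-scalar normal subgroup that is not absolutely irreducible:
an extension field or a frame of weight lines.
-/
set_option autoImplicit false

namespace CfsgLib.Aschbacher

open Matrix Cfsg.Geo CfsgLib.GeoClifford
open scoped MatrixGroups

variable {ι : Type} [Fintype ι] [DecidableEq ι] {F : Type*} [Field F]

/-- `b` is a basis of lines permuted transitively by `G`, with distinct characters of `N`. -/
structure IsWeightFrame (G N : Subgroup (GL ι F)) (b : Fin (Fintype.card ι) → (ι → F))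
    (χ : Fin (Fintype.card ι) → N → F) : Prop where
  indep : LinearIndependent F b
  weight : ∀ i (a : N), ((a : GL ι F) : Matrix ι ι F) *ᵥ b i = χ i a • b i
  separated : Function.Injective χ
  perm : ∀ g ∈ G, ∃ π : Equiv.Perm (Fin (Fintype.card ι)), ∀ i, ∃ c : F, c ≠ 0 ∧
    (g : Matrix ι ι F) *ᵥ b i = c • b (π i)
  transitive : ∀ i j, ∃ g ∈ G, ∃ c : F, c ≠ 0 ∧ (g : Matrix ι ι F) *ᵥ b i = c • b j

lemma IsWeightFrame.isMDecomposition {G N : Subgroup (GL ι F)} {b : Fin (Fintype.card ι) → (ι → F)}
    {χ : Fin (Fintype.card ι) → N → F} (h : IsWeightFrame G N b χ) (hn : 2 ≤ Fintype.card ι) :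
    IsMDecomposition 1 (fun i => Submodule.span F {b i}) := by
  refine ⟨hn, one_pos, fun i => finrank_span_singleton (h.indep.ne_zero i), h.indep.iSupIndep_span_singleton, ?_⟩
  rw [← Submodule.span_range_eq_iSup]
  exact h.indep.span_eq_top_of_card_eq_finrank' (by rw [Fintype.card_fin, Module.finrank_fintype_fun_eq_card])

lemma IsWeightFrame.le_decompositionStabilizer {G N : Subgroup (GL ι F)} {b : Fin (Fintype.card ι) → (ι → F)}
    {χ : Fin (Fintype.card ι) → N → F} (h : IsWeightFrame G N b χ) :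
    G ≤ decompositionStabilizer (fun i => Submodule.span F {b i}) := by
  intro g hg
  obtain ⟨π, hπ⟩ := h.perm g hg
  refine ⟨π, fun i => ?_⟩
  obtain ⟨c, hc, hgc⟩ := hπ i
  rw [Submodule.map_span, Set.image_singleton, Matrix.toLin'_apply, hgc]
  exact Submodule.span_singleton_smul_eq (IsUnit.mk0 c hc) _

/-- A non-scalar reducible normal subgroup of an irreducible group of prime degree has a weight frame. -/
lemma exists_weightFrame {G N : Subgroup (GL ι F)} (hn : (Fintype.card ι).Prime)
    (hirr : ActsIrreducibly (matrixSet G)) (hN : NormSub G N) (hNs : ¬ N ≤ scalars ι F)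
    (hNr : ¬ ActsIrreducibly (matrixSet N)) : ∃ b χ, IsWeightFrame G N b χ := by
  classical
  obtain ⟨v, hv0, hv⟩ := exists_eigenvector_of_not_irreducible hn hirr hN hNr
  set S : Set (ι → F) := {w | ∃ g ∈ G, w = (g : Matrix ι ι F) *ᵥ v} with hS
  have hSne : ∀ w ∈ S, w ≠ 0 := by
    rintro _ ⟨g, -, rfl⟩ h
    exact hv0 (mulVec_injective_GL g (by simpa using h))
  have hSN : ∀ w ∈ S, ∀ a : N, ∃ c : F, ((a : GL ι F) : Matrix ι ι F) *ᵥ w = c • w := by
    rintro _ ⟨g, hg, rfl⟩ a
    obtain ⟨c, hc⟩ := hv _ (show g⁻¹ * a.1 * g ∈ N by simpa using hN.2 g⁻¹ (G.inv_mem hg) a.1 a.2)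
    have h := congrArg (fun u => (g : Matrix ι ι F) *ᵥ u) hc
    exact ⟨c, by simpa [mulVec_mulVec, mulVec_smul, mul_assoc] using h⟩
  have hspan : Submodule.span F S = ⊤ := by
    refine eq_top_of_invariant hirr _ ?_ ?_
    · intro h
      exact hv0 ((Submodule.span_eq_bot.mp h) v ⟨1, G.one_mem, by simp⟩)
    · intro g hg w hw
      induction hw using Submodule.span_induction with
      | mem x hx =>
        obtain ⟨g', hg', rfl⟩ := hx
        exact Submodule.subset_span ⟨g * g', G.mul_mem hg hg', by simp [mulVec_mulVec]⟩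
      | zero => simp
      | add x y _ _ hx hy => rw [mulVec_add]; exact Submodule.add_mem _ hx hy
      | smul c x _ hx => rw [mulVec_smul]; exact Submodule.smul_mem _ _ hx
  obtain ⟨T, hTS, hTspan, hTli⟩ := exists_linearIndependent F S
  rw [hspan] at hTspan
  let B : Module.Basis T F (ι → F) := Module.Basis.mk hTli (by rw [Subtype.range_coe_subtype]; simp [hTspan])
  have : Finite T := Module.Finite.finite_basis B
  letI := Fintype.ofFinite T
  have hcard : Fintype.card T = Fintype.card ι := by
    rw [← Module.finrank_eq_card_basis B, Module.finrank_fintype_fun_eq_card]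
  let e : Fin (Fintype.card ι) ≃ T := (Fintype.equivFinOfCardEq hcard).symm
  let Bn : Module.Basis (Fin (Fintype.card ι)) F (ι → F) := B.reindex e.symm
  set b : Fin (Fintype.card ι) → (ι → F) := fun i => Bn i with hb
  have hbS : ∀ i, b i ∈ S := fun i => hTS (by simp [b, Bn, B])
  choose χ hχ using fun i (a : N) => hSN (b i) (hbS i) a
  have hbli : LinearIndependent F b := Bn.linearIndependent
  have hrepr : ∀ (a : N) w i, Bn.repr (((a : GL ι F) : Matrix ι ι F) *ᵥ w) i = χ i a * Bn.repr w i := by
    intro a w i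
    conv_lhs => rw [← Bn.sum_repr w]
    simp only [mulVec_sum, mulVec_smul, show ∀ j, Bn j = b j from fun j => rfl, hχ]
    simp [b, Finsupp.single_apply, mul_comm]
  -- weight spaces
  let W : (N → F) → Submodule F (ι → F) := fun μ =>
    { carrier := {w | ∀ a : N, ((a : GL ι F) : Matrix ι ι F) *ᵥ w = μ a • w}
      add_mem' := fun {x y} hx hy a => by rw [mulVec_add, hx a, hy a, smul_add]
      zero_mem' := fun a => by simp
      smul_mem' := fun c x hx a => by rw [mulVec_smul, hx a, smul_comm] }
  let fib : (N → F) → Finset (Fin (Fintype.card ι)) := fun μ => Finset.univ.filter fun i => χ i = μ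
  have hW : ∀ μ, W μ = Submodule.span F (b '' (fib μ : Set (Fin (Fintype.card ι)))) := by
    intro μ
    refine le_antisymm (fun w hw => ?_) (Submodule.span_le.mpr ?_)
    · rw [show b = ⇑Bn from rfl, Module.Basis.mem_span_image]
      intro i hi
      rw [Finset.mem_coe, Finsupp.mem_support_iff] at hi
      simp only [fib, Finset.coe_filter, Finset.mem_univ, true_and, Set.mem_setOf_eq]
      funext a
      have h := hrepr a w i
      rw [hw a, map_smul, Finsupp.smul_apply, smul_eq_mul] at h
      exact (mul_right_cancel₀ hi h).symm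
    · rintro _ ⟨i, hi, rfl⟩ a
      simp only [fib, Finset.coe_filter, Finset.mem_univ, true_and, Set.mem_setOf_eq] at hi
      rw [← hi]; exact hχ i a
  have hdim : ∀ μ, Module.finrank F (W μ) = (fib μ).card := by
    intro μ
    rw [hW, ← Finset.coe_image, finrank_span_finset_eq_card, Finset.card_image_of_injective _ hbli.injective]
    rw [Finset.coe_image]
    exact (hbli.linearIndepOn _).id_image
  have hmove : ∀ g ∈ G, ∀ μ, ∃ ν, (W μ).map (Matrix.toLin' (g : Matrix ι ι F)) ≤ W ν ∧
      ∀ w, ((g : Matrix ι ι F) *ᵥ w) ∈ W ν → w ∈ W μ := by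
    intro g hg μ
    refine ⟨fun a => μ ⟨g⁻¹ * a.1 * g, by simpa using hN.2 g⁻¹ (G.inv_mem hg) a.1 a.2⟩, ?_, ?_⟩
    · rintro _ ⟨w, hw, rfl⟩ a
      have h := congrArg (fun u => (g : Matrix ι ι F) *ᵥ u)
        (hw ⟨g⁻¹ * a.1 * g, by simpa using hN.2 g⁻¹ (G.inv_mem hg) a.1 a.2⟩)
      simpa [mulVec_mulVec, mulVec_smul, mul_assoc] using h
    · intro w hw a
      have h := congrArg (fun u => ((g⁻¹ : GL ι F) : Matrix ι ι F) *ᵥ u)
        (hw ⟨g * a.1 * g⁻¹, hN.2 g hg a.1 a.2⟩)
      simpa [mulVec_mulVec, mulVec_smul, mul_assoc] using h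
  have htrans : ∀ i j, ∃ g ∈ G, (g : Matrix ι ι F) *ᵥ b i = b j := by
    intro i j
    obtain ⟨gi, hgi, ei⟩ := hbS i
    obtain ⟨gj, hgj, ej⟩ := hbS j
    refine ⟨gj * gi⁻¹, G.mul_mem hgj (G.inv_mem hgi), ?_⟩
    rw [ei, ej, mulVec_mulVec, ← Units.val_mul, inv_mul_cancel_right]
  have hle : ∀ i j, (fib (χ i)).card ≤ (fib (χ j)).card := by
    intro i j
    obtain ⟨g, hg, hgij⟩ := htrans i j
    obtain ⟨ν, hν, -⟩ := hmove g hg (χ i)
    have hν' : ν = χ j := by
      funext a
      have h := hν ⟨b i, hχ i, rfl⟩ a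
      rw [Matrix.toLin'_apply, hgij, hχ j a] at h
      exact (smul_left_injective F (hbli.ne_zero j) h).symm
    rw [← hdim, ← hdim, ← hν', (Submodule.equivMapOfInjective _ (mulVec_injective_GL g) (W (χ i))).finrank_eq]
    exact Submodule.finrank_mono hν
  have i0 : Fin (Fintype.card ι) := ⟨0, hn.pos⟩
  have hdvd : (fib (χ i0)).card ∣ Fintype.card ι := by
    have h := Finset.card_eq_sum_card_image χ (Finset.univ : Finset (Fin (Fintype.card ι)))
    rw [Finset.card_univ, Fintype.card_fin, Finset.sum_congr rfl (g := fun _ => (fib (χ i0)).card) ?_,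
      Finset.sum_const, smul_eq_mul] at h
    · exact Dvd.intro_left _ h.symm
    · intro μ hμ
      obtain ⟨j, -, rfl⟩ := Finset.mem_image.mp hμ
      exact le_antisymm (hle j i0) (hle i0 j)
  have hone : (fib (χ i0)).card = 1 := by
    refine (hn.eq_one_or_self_of_dvd _ hdvd).resolve_right fun h => hNs fun a ha => ?_
    have hall : fib (χ i0) = Finset.univ := Finset.eq_univ_of_card _ (by rw [h, Fintype.card_fin])
    have heq : ∀ i, χ i = χ i0 := fun i => by
      have := hall.ge (Finset.mem_univ i)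
      simpa [fib] using this
    have hmat : (a : Matrix ι ι F) = χ i0 ⟨a, ha⟩ • (1 : Matrix ι ι F) := by
      apply Matrix.toLin'.injective
      refine Bn.ext fun i => ?_
      have := hχ i ⟨a, ha⟩
      rw [heq i] at this
      rw [Matrix.toLin'_apply]
      simpa [b] using this
    refine (mem_scalars_iff a).mpr ⟨Units.mk0 _ ?_, hmat⟩
    intro h0
    have : Nonempty ι := Fintype.card_pos_iff.mp hn.pos
    rw [h0, zero_smul] at hmat
    exact a.ne_zero hmat
  have hsep : Function.Injective χ := by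
    intro i j hij
    have hc : (fib (χ i)).card ≤ 1 := hone ▸ hle i i0
    exact Finset.card_le_one.mp hc i (by simp [fib]) j (by simp [fib, hij])
  refine ⟨b, χ, hbli, hχ, hsep, fun g hg => ?_, fun i j => ?_⟩
  · have hex : ∀ i, ∃ (j : _) (c : F), c ≠ 0 ∧ (g : Matrix ι ι F) *ᵥ b i = c • b j := by
      intro i
      obtain ⟨ν, hν, -⟩ := hmove g hg (χ i)
      have hmem : (g : Matrix ι ι F) *ᵥ b i ∈ W ν := hν ⟨b i, hχ i, rfl⟩
      have hne : (g : Matrix ι ι F) *ᵥ b i ≠ 0 := fun h => hbli.ne_zero i (mulVec_injective_GL g (by simpa using h))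
      rw [hW] at hmem
      obtain ⟨j, hj⟩ : (fib ν).Nonempty := by
        by_contra h
        rw [Finset.not_nonempty_iff_eq_empty] at h
        rw [h] at hmem
        exact hne (by simpa using hmem)
      have hfib : fib ν = {j} := by
        refine Finset.eq_singleton_iff_unique_mem.mpr ⟨hj, fun k hk => hsep ?_⟩
        simp only [fib, Finset.mem_filter, Finset.mem_univ, true_and] at hj hk
        rw [hk, hj]
      rw [hfib, Finset.coe_singleton, Set.image_singleton, Submodule.mem_span_singleton] at hmem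
      obtain ⟨c, hc⟩ := hmem
      refine ⟨j, c, ?_, hc.symm⟩
      rintro rfl
      exact hne (by rw [← hc, zero_smul])
    choose π c hc0 hc using hex
    have hinj : Function.Injective π := by
      intro i k hik
      by_contra hne
      have h : (g : Matrix ι ι F) *ᵥ (c k • b i - c i • b k) = 0 := by
        rw [mulVec_sub, mulVec_smul, mulVec_smul, hc, hc, hik, smul_smul, smul_smul, mul_comm, sub_self]
      have h2 : c k • b i - c i • b k = 0 := mulVec_injective_GL g (a₁ := _) (a₂ := 0) (by simpa using h)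
      have h3 := congrArg (fun w => Bn.repr w i) h2
      simp [b, Finsupp.single_apply, Ne.symm hne, hc0 k] at h3
    exact ⟨Equiv.ofBijective π (Finite.injective_iff_bijective.mp hinj), fun i => ⟨c i, hc0 i, hc i⟩⟩
  · obtain ⟨g, hg, h⟩ := htrans i j
    exact ⟨g, hg, 1, one_ne_zero, by rw [h, one_smul]⟩

variable [Fintype F]

/-- An irreducible group of prime degree is clean, or has an extension field or a weight frame. -/
theorem not_clean_cases {G : Subgroup (GL ι F)} (hn : (Fintype.card ι).Prime)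
    (hirr : ActsIrreducibly (matrixSet G)) (hnc : ¬ Clean G) :
    ∃ N, NormSub G N ∧ ¬ N ≤ scalars ι F ∧
      (IsFieldSubalgebra (Fintype.card ι) (commutant N) ∨ ∃ b χ, IsWeightFrame G N b χ) := by
  have : Nonempty ι := Fintype.card_pos_iff.mp hn.pos
  unfold Clean at hnc
  push Not at hnc
  obtain ⟨N, hN, hNs, hna⟩ := hnc
  refine ⟨N, hN, hNs, ?_⟩
  by_cases hNi : ActsIrreducibly (matrixSet N)
  · left
    have hK := isFieldSubalgebra_commutant hNi rfl
    refine ⟨hK.comm, hK.inv, (hn.eq_one_or_self_of_dvd _ (fieldSubalgebra_dvd hK)).resolve_left fun h => ?_⟩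
    exact hna (absIrred_iff.mpr ⟨hNi, fieldSubalgebra_eq_bot h⟩)
  · exact Or.inr (exists_weightFrame hn hirr hN hNs hNi)

/-- An irreducible group of prime degree is not contained in the scalars. -/
lemma not_le_scalars_of_irreducible {G : Subgroup (GL ι F)} (hn : 2 ≤ Fintype.card ι)
    (hirr : ActsIrreducibly (matrixSet G)) : ¬ G ≤ scalars ι F := by
  intro hle
  obtain ⟨i⟩ : Nonempty ι := Fintype.card_pos_iff.mp (by omega)
  have hv : (Pi.single i 1 : ι → F) ≠ 0 := by simp
  rcases hirr (Submodule.span F {Pi.single i 1}) (forall_matrixSet.mpr fun g hg => by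
    rw [Submodule.map_span_le]
    intro w hw
    rw [Set.mem_singleton_iff] at hw
    subst hw
    obtain ⟨c, hc⟩ := (mem_scalars_iff g).mp (hle hg)
    rw [Matrix.toLin'_apply, hc, smul_mulVec, one_mulVec]
    exact Submodule.smul_mem _ _ (Submodule.mem_span_singleton_self _)) with h | h
  · exact hv (Submodule.span_singleton_eq_bot.mp h)
  · have := finrank_span_singleton (K := F) hv
    rw [h, finrank_top, Module.finrank_fintype_fun_eq_card] at this
    omega

/-- A minimal non-scalar normal subgroup. -/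
lemma exists_minimal_normal {G : Subgroup (GL ι F)} (hGs : ¬ G ≤ scalars ι F) :
    ∃ N, NormSub G N ∧ ¬ N ≤ scalars ι F ∧ ∀ M, NormSub G M → M ≤ N → ¬ M ≤ scalars ι F → M = N := by
  obtain ⟨N, -, hNmin⟩ := exists_minimal_le_of_wellFoundedLT
    (fun N : Subgroup (GL ι F) => NormSub G N ∧ ¬ N ≤ scalars ι F) G
    ⟨⟨le_rfl, fun g hg a ha => G.mul_mem (G.mul_mem hg ha) (G.inv_mem hg)⟩, hGs⟩
  exact ⟨N, hNmin.prop.1, hNmin.prop.2, fun M hM hle hMs => le_antisymm hle (hNmin.2 ⟨hM, hMs⟩ hle)⟩

end CfsgLib.Aschbacher
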