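import Cfsg.Agent.Aschbacher.NotClean
import Cfsg.Agent.Aschbacher.Forms

/-!
Groups of isometries of a non-degenerate hermitian or symmetric form in odd prime dimension:
invariant subspaces, extension fields and weight frames are compatible with the form.
-/
set_option autoImplicit false

namespace CfsgLib.Aschbacher

open Matrix Cfsg.Geo CfsgLib.GeoClifford
open scoped MatrixGroups

variable {ι : Type} [Fintype ι] [DecidableEq ι] {F : Type*} [Field F]

/-- A non-degenerate `σ`-hermitian form; `σ` may be the identity (a symmetric bilinear form). -/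
structure IsHerm (σ : F ≃+* F) (f : (ι → F) → (ι → F) → F) : Prop where
  sesq : IsSesq σ f
  invol : ∀ a, σ (σ a) = a
  herm : ∀ u v, f u v = σ (f v u)
  nd : IsNondegenerateForm f

omit [Fintype ι] [DecidableEq ι] in
lemma isHerm_of_unitary {σ : F ≃+* F} {f : (ι → F) → (ι → F) → F} (hf : IsUnitaryForm σ f) : IsHerm σ f :=
  ⟨isSesq_of_unitary hf, hf.involutive, hf.herm, hf.nondegenerate⟩

namespace IsHerm

variable {σ : F ≃+* F} {f : (ι → F) → (ι → F) → F}

omit [Fintype ι] [DecidableEq ι] in
lemma comm_zero (hf : IsHerm σ f) {u v : ι → F} (h : f u v = 0) : f v u = 0 := by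
  rw [hf.herm, h, map_zero]

omit [Fintype ι] [DecidableEq ι] in
/-- The orthogonal complement. -/
def perp (hf : IsHerm σ f) (W : Submodule F (ι → F)) : Submodule F (ι → F) where
  carrier := {v | ∀ w ∈ W, f v w = 0}
  add_mem' := fun {a b} ha hb w hw => by rw [hf.sesq.add_left, ha w hw, hb w hw, add_zero]
  zero_mem' := fun w _ => hf.sesq.zero_left w
  smul_mem' := fun c a ha w hw => by rw [hf.sesq.smul_left, ha w hw, mul_zero]

omit [DecidableEq ι] in
lemma card_le_finrank_add_perp (hf : IsHerm σ f) (W : Submodule F (ι → F)) :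
    Fintype.card ι ≤ Module.finrank F W + Module.finrank F (hf.perp W) := by
  let b := Module.finBasis F W
  let R : (ι → F) →ₗ[F] (Fin (Module.finrank F W) → F) :=
    { toFun := fun v j => f v (b j : ι → F)
      map_add' := fun x y => funext fun j => hf.sesq.add_left _ _ _
      map_smul' := fun c x => funext fun j => hf.sesq.smul_left _ _ _ }
  have hker : LinearMap.ker R ≤ hf.perp W := by
    intro v hv w hw
    have hv' : ∀ j, f v (b j : ι → F) = 0 := fun j => congrFun (LinearMap.mem_ker.mp hv) j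
    have hW : W ≤ Submodule.span F (Set.range fun j => (b j : ι → F)) := by
      intro x hx
      have h := congrArg Subtype.val (b.sum_repr ⟨x, hx⟩)
      simp only [AddSubmonoidClass.coe_finsetSum, Submodule.coe_smul_of_tower] at h
      rw [← h]
      exact Submodule.sum_mem _ fun j _ => Submodule.smul_mem _ _ (Submodule.subset_span ⟨j, rfl⟩)
    have := hW hw
    clear hw
    induction this using Submodule.span_induction with
    | mem x hx => obtain ⟨j, rfl⟩ := hx; exact hv' j
    | zero => exact hf.sesq.zero_right v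
    | add x y _ _ hx hy => rw [hf.sesq.add_right, hx, hy, add_zero]
    | smul c x _ hx => rw [hf.sesq.smul_right, hx, mul_zero]
  have h1 := LinearMap.finrank_range_add_finrank_ker R
  have h2 : Module.finrank F (LinearMap.range R) ≤ Module.finrank F W := by
    simpa using Submodule.finrank_le (LinearMap.range R)
  have h3 := Submodule.finrank_mono hker
  rw [Module.finrank_fintype_fun_eq_card] at h1
  omega

lemma perp_ne_top (hf : IsHerm σ f) {W : Submodule F (ι → F)} (h : W ≠ ⊥) : hf.perp W ≠ ⊤ := by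
  intro htop
  obtain ⟨w, hw, hw0⟩ := W.ne_bot_iff.mp h
  obtain ⟨⟨x, hx⟩, -⟩ := hf.nd w hw0
  exact hx ((htop ▸ Submodule.mem_top : x ∈ hf.perp W) w hw)

lemma perp_stable (hf : IsHerm σ f) {G : Subgroup (GL ι F)} (hG : FixesForm (matrixSet G) f)
    {W : Submodule F (ι → F)} (hW : G ≤ subspaceStabilizer W) : G ≤ subspaceStabilizer (hf.perp W) := by
  intro g hg
  refine CfsgLib.Geo.mem_subspaceStabilizer.mpr fun v hv w hw => ?_
  have hw' : ((g⁻¹ : GL ι F) : Matrix ι ι F) *ᵥ w ∈ W :=
    CfsgLib.Geo.mem_subspaceStabilizer.mp (hW (G.inv_mem hg)) w hw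
  have h := hG _ (coe_mem_matrixSet hg) v (((g⁻¹ : GL ι F) : Matrix ι ι F) *ᵥ w)
  rw [hv _ hw', mulVec_mulVec, ← Units.val_mul, mul_inv_cancel, Units.val_one, one_mulVec] at h
  exact h

/-- A reducible group of isometries in odd dimension stabilises a totally singular subspace or a
non-degenerate subspace of less than half dimension. -/
theorem reducible_cases (hf : IsHerm σ f) (hodd : Odd (Fintype.card ι)) {G : Subgroup (GL ι F)}
    (hG : FixesForm (matrixSet G) f) (hred : ¬ ActsIrreducibly (matrixSet G)) :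
    (∃ W : Submodule F (ι → F), W ≠ ⊥ ∧ IsTotallySingularFor f W ∧ G ≤ subspaceStabilizer W) ∨
    ∃ W : Submodule F (ι → F), W ≠ ⊥ ∧ IsNondegenerateOn f W ∧
      2 * Module.finrank F W < Fintype.card ι ∧ G ≤ subspaceStabilizer W := by
  obtain ⟨W, h0, h1, hW⟩ := exists_subspace_of_not_irreducible hred
  by_cases hWW : W ⊓ hf.perp W = ⊥
  swap
  · refine Or.inl ⟨_, hWW, fun u hu v hv => hu.2 v hv.1, fun g hg => ?_⟩
    refine CfsgLib.Geo.mem_subspaceStabilizer.mpr fun v hv => ⟨?_, ?_⟩
    · exact CfsgLib.Geo.mem_subspaceStabilizer.mp (hW hg) v hv.1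
    · exact CfsgLib.Geo.mem_subspaceStabilizer.mp (hf.perp_stable hG hW hg) v hv.2
  right
  have hle := hf.card_le_finrank_add_perp W
  set P := hf.perp W
  have hsum := Submodule.finrank_sup_add_finrank_inf_eq W P
  have hsup : Module.finrank F (W ⊔ P : Submodule F (ι → F)) ≤ Fintype.card ι := by
    rw [← Module.finrank_fintype_fun_eq_card F]; exact Submodule.finrank_le _
  rw [hWW, finrank_bot] at hsum
  have htop : W ⊔ P = ⊤ := Submodule.eq_top_of_finrank_eq (by rw [Module.finrank_fintype_fun_eq_card]; omega)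
  have key : ∀ U U' : Submodule F (ι → F), U ⊔ U' = ⊤ → (∀ u ∈ U, ∀ u' ∈ U', f u' u = 0) →
      IsNondegenerateOn f U := by
    intro U U' hUU horth u hu hu0
    obtain ⟨⟨x, hx⟩, -⟩ := hf.nd u hu0
    obtain ⟨a, ha, b, hb, rfl⟩ := Submodule.mem_sup.mp (hUU ▸ Submodule.mem_top : x ∈ U ⊔ U')
    rw [hf.sesq.add_left, horth u hu b hb, add_zero] at hx
    exact ⟨⟨a, ha, hx⟩, a, ha, fun h => hx (hf.comm_zero h)⟩
  rcases hodd with ⟨k, hk⟩
  by_cases hhalf : 2 * Module.finrank F W < Fintype.card ι
  · exact ⟨W, h0, key W P htop (fun u hu v hv => hv u hu), hhalf, hW⟩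
  · refine ⟨P, fun h => h1 ?_, key P W (sup_comm W P ▸ htop) (fun u hu v hv => hf.comm_zero (hu v hv)),
      by omega, hf.perp_stable hG hW⟩
    rw [h, sup_bot_eq] at htop
    exact htop

lemma exists_adjoint (hf : IsHerm σ f) (k : Matrix ι ι F) :
    ∃ k' : Matrix ι ι F, ∀ u v, f (k *ᵥ u) v = f u (k' *ᵥ v) := by
  obtain ⟨A', hA'⟩ := (gram_isUnit hf.sesq hf.nd).exists_right_inv
  refine ⟨(A' * kᵀ * gramMatrix f).map σ, fun u v => ?_⟩
  have e : ((A' * kᵀ * gramMatrix f).map σ).map σ = A' * kᵀ * gramMatrix f := by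
    ext i j; exact hf.invol _
  rw [hf.sesq.eq_gram, hf.sesq.eq_gram, comp_mulVec, e, mulVec_mulVec, ← mul_assoc, ← mul_assoc, hA', one_mul,
    ← mulVec_mulVec, dotProduct_mulVec u kᵀ, vecMul_transpose]

lemma eq_of_right (hf : IsHerm σ f) {x y : ι → F} (h : ∀ u, f u x = f u y) : x = y := by
  by_contra hne
  obtain ⟨⟨u, hu⟩, -⟩ := hf.nd _ (sub_ne_zero.mpr hne)
  apply hu
  have := hf.sesq.add_right u (x - y) y
  rw [sub_add_cancel, h] at this
  linear_combination -this

/-- The commutant of a group of isometries is closed under adjoints. -/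
lemma commutant_adjointClosed (hf : IsHerm σ f) {N : Subgroup (GL ι F)} (hN : FixesForm (matrixSet N) f) :
    IsAdjointClosedFor f (commutant N) := by
  intro k hk
  obtain ⟨k', hk'⟩ := hf.exists_adjoint k
  refine ⟨k', mem_commutant.mpr fun a ha => ?_, hk'⟩
  apply Matrix.toLin'.injective
  refine LinearMap.ext fun v => hf.eq_of_right fun u => ?_
  simp only [Matrix.toLin'_apply, ← mulVec_mulVec]
  have hinv : ∀ x y, f x ((a : Matrix ι ι F) *ᵥ y) = f (((a⁻¹ : GL ι F) : Matrix ι ι F) *ᵥ x) y := by
    intro x y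
    have h := hN _ (coe_mem_matrixSet ha) (((a⁻¹ : GL ι F) : Matrix ι ι F) *ᵥ x) y
    rw [mulVec_mulVec, ← Units.val_mul, mul_inv_cancel, Units.val_one, one_mulVec] at h
    exact h
  rw [hinv, ← hk', mulVec_mulVec, ← (mem_commutant.mp hk) _ (N.inv_mem ha), ← mulVec_mulVec, ← hinv, ← hk']

/-- A weight frame of isometries in odd dimension is orthogonal and non-degenerate. -/
lemma frame_nondegenerate (hf : IsHerm σ f) (hodd : Odd (Fintype.card ι)) (hn : 2 ≤ Fintype.card ι)
    {G N : Subgroup (GL ι F)} (hG : FixesForm (matrixSet G) f) (hNG : N ≤ G)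
    {b : Fin (Fintype.card ι) → (ι → F)} {χ : Fin (Fintype.card ι) → N → F} (h : IsWeightFrame G N b χ) :
    IsNondegenerateMDecomposition f 1 (fun i => Submodule.span F {b i}) := by
  classical
  have hwt : ∀ i j, f (b i) (b j) ≠ 0 → ∀ a, χ i a * σ (χ j a) = 1 := by
    intro i j hij a
    have h1 := hG _ (coe_mem_matrixSet (hNG a.2)) (b i) (b j)
    rw [h.weight, h.weight, hf.sesq.smul_left, hf.sesq.smul_right, ← mul_assoc] at h1
    exact (mul_eq_right₀ hij).mp h1
  have hspan : Submodule.span F (Set.range b) = ⊤ :=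
    h.indep.span_eq_top_of_card_eq_finrank' (by rw [Fintype.card_fin, Module.finrank_fintype_fun_eq_card])
  have hex : ∀ i, ∃ j, f (b i) (b j) ≠ 0 := by
    intro i
    by_contra hcon
    push Not at hcon
    obtain ⟨-, x, hx⟩ := hf.nd _ (h.indep.ne_zero i)
    apply hx
    have hx' : x ∈ Submodule.span F (Set.range b) := hspan ▸ Submodule.mem_top
    clear hx
    induction hx' using Submodule.span_induction with
    | mem y hy => obtain ⟨j, rfl⟩ := hy; exact hcon j
    | zero => exact hf.sesq.zero_right _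
    | add y z _ _ hy hz => rw [hf.sesq.add_right, hy, hz, add_zero]
    | smul c y _ hy => rw [hf.sesq.smul_right, hy, mul_zero]
  choose p hp using hex
  have huniq : ∀ i j, f (b i) (b j) ≠ 0 → j = p i := by
    intro i j hij
    refine h.separated (funext fun a => σ.injective ?_)
    have h1 := hwt i j hij a
    have h2 := hwt i (p i) (hp i) a
    exact mul_left_cancel₀ (left_ne_zero_of_mul_eq_one h1) (h1.trans h2.symm)
  have hinv : ∀ i, p (p i) = i := fun i => (huniq (p i) i fun h0 => hp i (hf.comm_zero h0)).symm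
  obtain ⟨i0, hi0⟩ : ∃ i, p i = i := by
    by_contra hcon
    push Not at hcon
    have h2 : (∑ _i : Fin (Fintype.card ι), (1 : ZMod 2)) = 0 :=
      Finset.sum_involution (fun i _ => p i) (fun _ _ => by decide) (fun i _ _ => hcon i)
        (fun _ _ => Finset.mem_univ _) (fun i _ => hinv i)
    rw [Finset.sum_const, Finset.card_univ, Fintype.card_fin, nsmul_one] at h2
    have h3 : Fintype.card ι % 2 = 0 := by
      have := (ZMod.natCast_eq_zero_iff (Fintype.card ι) 2).mp h2
      omega
    rw [Nat.odd_iff] at hodd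
    omega
  have hall : ∀ i, p i = i := by
    intro i
    obtain ⟨g, hg, c, hc, hgc⟩ := h.transitive i0 i
    refine (huniq i i ?_).symm
    have h1 := hG _ (coe_mem_matrixSet hg) (b i0) (b i0)
    rw [hgc, hf.sesq.smul_left, hf.sesq.smul_right] at h1
    intro h0
    rw [h0, mul_zero, mul_zero] at h1
    exact hp i0 (hi0.symm ▸ h1.symm)
  refine ⟨h.isMDecomposition hn, fun i w hw hw0 => ?_, fun i j hij u hu v hv => ?_⟩
  · obtain ⟨c, rfl⟩ := Submodule.mem_span_singleton.mp hw
    have hii : f (b i) (b i) ≠ 0 := by have := hp i; rwa [hall i] at this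
    have hc : c ≠ 0 := fun h0 => hw0 (by rw [h0, zero_smul])
    refine ⟨⟨b i, Submodule.mem_span_singleton_self _, ?_⟩, b i, Submodule.mem_span_singleton_self _, ?_⟩
    · rw [hf.sesq.smul_right]; exact mul_ne_zero (by simpa using hc) hii
    · rw [hf.sesq.smul_left]; exact mul_ne_zero hc hii
  · obtain ⟨c, rfl⟩ := Submodule.mem_span_singleton.mp hu
    obtain ⟨d, rfl⟩ := Submodule.mem_span_singleton.mp hv
    rw [hf.sesq.smul_left, hf.sesq.smul_right]
    by_contra hne
    exact hij (((huniq i j fun h0 => hne (by rw [h0, mul_zero, mul_zero])).trans (hall i)).symm)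

end IsHerm

end CfsgLib.Aschbacher
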