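import Cfsg.Agent.Aschbacher.LinearMember

/-!
Aschbacher's theorem for the special linear groups of odd prime dimension.
-/
set_option autoImplicit false

namespace CfsgLib.Aschbacher

open Matrix Cfsg.Geo CfsgLib.GeoClifford
open scoped MatrixGroups commutatorElement

variable {ι : Type} [Fintype ι] [DecidableEq ι] {F : Type*} [Field F] [Fintype F]

lemma exists_inverting_auto {r p e : ℕ} [Fact r.Prime] [Fact p.Prime] [CharP F p] (hr2 : r ≠ 2) {c : F}
    (hc : IsPrimitiveRoot c r) (hF : Fintype.card F = p ^ e) (he : orderOf (p : ZMod r) = e) (heven : Even e)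
    (he0 : 0 < e) :
    ∃ σ : F ≃+* F, σ ≠ RingEquiv.refl F ∧ (∀ a, σ (σ a) = a) ∧ σ c = c⁻¹ := by
  obtain ⟨m, hm⟩ := heven
  subst hm
  have hm0 : 0 < m := by omega
  have hpm : (p : ZMod r) ^ m = -1 := by
    have h1 : ((p : ZMod r) ^ m) ^ 2 = 1 := by
      rw [← pow_mul, show m * 2 = m + m by ring, ← he, pow_orderOf_eq_one]
    rcases sq_eq_one_iff.mp h1 with h | h
    · exact absurd (orderOf_le_of_pow_eq_one hm0 h) (by omega)
    · exact h
  let σ : F ≃+* F := RingEquiv.ofBijective (iterateFrobenius F p m)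
    (Finite.injective_iff_bijective.mp (RingHom.injective _))
  have hσ : ∀ a, σ a = a ^ p ^ m := fun a => iterateFrobenius_def p m a
  have hσc : σ c = c⁻¹ := by
    rw [hσ]
    have h : ((p ^ m + 1 : ℕ) : ZMod r) = 0 := by push_cast; rw [hpm]; ring
    rw [ZMod.natCast_eq_zero_iff] at h
    obtain ⟨k, hk⟩ := h
    apply eq_inv_of_mul_eq_one_left
    rw [← pow_succ, hk, pow_mul, hc.pow_eq_one, one_pow]
  refine ⟨σ, fun h => ?_, fun a => ?_, hσc⟩
  · have hcc : c = c⁻¹ := by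
      conv_lhs => rw [show c = σ c by rw [h]; rfl]
      exact hσc
    have hr := Fact.out (p := r.Prime)
    have hc2 : c ^ 2 = 1 := by
      rw [sq]; conv_lhs => arg 2; rw [hcc]
      exact mul_inv_cancel₀ (hc.ne_zero hr.ne_zero)
    exact hr2 ((Nat.prime_dvd_prime_iff_eq hr Nat.prime_two).mp (hc.dvd_of_pow_eq_one 2 hc2))
  · rw [hσ, hσ, ← pow_mul, ← pow_add, ← hF, FiniteField.pow_card]

/-- The possible outcomes. -/
theorem structure_linear_prime {G : Subgroup (GL ι F)} (hn : (Fintype.card ι).Prime)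
    (hodd : Odd (Fintype.card ι)) (hG : G ≤ specialLinear ι F) :
    (∃ W : Submodule F (ι → F), W ≠ ⊥ ∧ W ≠ ⊤ ∧ G ≤ subspaceStabilizer W) ∨
    (5 ≤ Fintype.card F ∧ ∃ D : Fin (Fintype.card ι) → Submodule F (ι → F),
      IsMDecomposition 1 D ∧ G ≤ decompositionStabilizer D) ∨
    (∃ K : Subalgebra F (Matrix ι ι F), IsFieldSubalgebra (Fintype.card ι) K ∧ G ≤ subalgebraNormalizer K) ∨
    (∃ (F₀ : Subfield F) (r : ℕ) (P : GL ι F), r.Prime ∧ Fintype.card F = Nat.card F₀ ^ r ∧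
      G ≤ subfieldSubgroup F₀ P) ∨
    (∃ (p e : ℕ) (R : Subgroup (GL ι F)), p.Prime ∧ CharP F p ∧ Fintype.card F = p ^ e ∧
      orderOf (p : ZMod (Fintype.card ι)) = e ∧ Odd e ∧ IsLinearSymplecticTypeData (Fintype.card ι) R ∧
      ⁅R, R⁆ ≤ scalars ι F ∧ G ≤ subgroupNormalizer R) ∨
    (Odd (Fintype.card F) ∧ ∃ Q : (ι → F) → F, IsNondegenerateQuadraticForm Q ∧ G ≤ quadSimilarityGroup Q) ∨
    (∃ (σ : F ≃+* F) (f : (ι → F) → (ι → F) → F), IsUnitaryForm σ f ∧ G ≤ similarityGroup f) ∨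
    InLinearResidualClass G := by
  classical
  have : Nonempty ι := Fintype.card_pos_iff.mp hn.pos
  by_cases hirr : ActsIrreducibly (matrixSet G)
  swap
  · exact Or.inl (exists_subspace_of_not_irreducible hirr)
  by_cases hprim : IsPrimitiveLin G
  swap
  · obtain ⟨D, hD, hGD⟩ := exists_lines_of_not_primitive hn hprim
    by_cases hq : 5 ≤ Fintype.card F
    · exact Or.inr (Or.inl ⟨hq, D, hD, hGD⟩)
    · rcases monomial_small hn.two_le (by omega) hD hGD with h | h | h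
      · exact Or.inl h
      · exact Or.inr (Or.inr (Or.inr (Or.inr (Or.inr (Or.inl h)))))
      · exact Or.inr (Or.inr (Or.inr (Or.inr (Or.inr (Or.inr (Or.inl h))))))
  by_cases hnf : NoField G
  swap
  · exact Or.inr (Or.inr (Or.inl (not_not.mp hnf)))
  right; right; right
  have hGs : ¬ G ≤ scalars ι F := by
    intro hle
    obtain ⟨i⟩ := ‹Nonempty ι›
    have hv : (Pi.single i 1 : ι → F) ≠ 0 := by simp
    rcases hirr (Submodule.span F {Pi.single i 1}) (forall_matrixSet.mpr fun g hg => by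
      rw [Submodule.map_span_le]
      intro w hw
      rw [Set.mem_singleton_iff] at hw
      subst hw
      obtain ⟨c, hc⟩ := (mem_scalars_iff g).mp (hle hg)
      rw [Matrix.toLin'_apply, hc, smul_mulVec, one_mulVec]
      exact Submodule.smul_mem _ _ (Submodule.mem_span_singleton_self _)) with h | h
    · exact hv (Submodule.span_singleton_eq_bot.mp h)
    · have := finrank_span_singleton (K := F) hv
      rw [h, finrank_top, Module.finrank_fintype_fun_eq_card] at this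
      exact hn.ne_one this
  obtain ⟨N, -, hNmin⟩ := exists_minimal_le_of_wellFoundedLT
    (fun N : Subgroup (GL ι F) => NormSub G N ∧ ¬ N ≤ scalars ι F) G
    ⟨⟨le_rfl, fun g hg a ha => G.mul_mem (G.mul_mem hg ha) (G.inv_mem hg)⟩, hGs⟩
  obtain ⟨hN, hNs⟩ := hNmin.prop
  have hmin : ∀ M, NormSub G M → M ≤ N → ¬ M ≤ scalars ι F → M = N :=
    fun M hM hle hMs => le_antisymm hle (hNmin.2 ⟨hM, hMs⟩ hle)
  by_cases hcl : ⁅N, N⁆ ≤ scalars ι F
  · obtain ⟨hst, hcz, hcard, habs, c, hc, hreal, hherm⟩ :=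
      extraspecial_of_minimal hn hodd hG (clean_of_primitive hn hirr hprim hnf) hN hNs hcl
    obtain ⟨p, hchar⟩ := CharP.exists F
    obtain ⟨f, hp, hF⟩ := FiniteField.card F p
    have : Fact p.Prime := ⟨hp⟩
    have : Fact (Fintype.card ι).Prime := ⟨hn⟩
    set r := Fintype.card ι with hr
    have hpr : r ≠ p := by
      intro h
      apply hc.ne_one hn.one_lt
      apply sub_eq_zero.mp
      apply eq_zero_of_pow_eq_zero (n := r)
      rw [h, sub_pow_char, one_pow, ← h, hc.pow_eq_one, sub_self]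
    set e := orderOf (p : ZMod r) with he
    have hcast : ∀ d, (p : ZMod r) ^ d = 1 ↔ r ∣ p ^ d - 1 := by
      intro d
      rw [← ZMod.natCast_eq_zero_iff, Nat.cast_sub (Nat.one_le_pow _ _ hp.pos), Nat.cast_pow, Nat.cast_one,
        sub_eq_zero]
    have hrq : r ∣ p ^ (f : ℕ) - 1 := by
      rw [← hF]
      exact hc.dvd_of_pow_eq_one _ (FiniteField.pow_card_sub_one_eq_one c (hc.ne_zero hn.ne_zero))
    have hef : e ∣ (f : ℕ) := orderOf_dvd_of_pow_eq_one ((hcast _).mpr hrq)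
    have he0 : 0 < e := Nat.pos_of_dvd_of_pos hef f.pos
    by_cases hfe : e = f
    swap
    · left
      obtain ⟨F₀, hF0, hmem⟩ := exists_subfield_card hp hF hef he0
      have hcF : c ∈ F₀ := by
        apply hmem
        obtain ⟨k, hk⟩ := (hcast e).mp (pow_orderOf_eq_one _)
        rw [← Nat.sub_add_cancel (Nat.one_le_pow e p hp.pos), pow_succ, hk, pow_mul, hc.pow_eq_one, one_pow,
          one_mul]
      refine exists_subfield_group habs hN (F₀ := F₀) ?_ (hreal F₀ hcF)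
      intro htop
      rw [htop, Nat.card_congr Subfield.topEquiv.toEquiv, Nat.card_eq_fintype_card, hF] at hF0
      exact hfe (Nat.pow_right_injective hp.two_le hF0).symm
    rw [← hfe] at hF
    rcases Nat.even_or_odd e with heven | heodd
    · right; right; right; left
      have hr2 : r ≠ 2 := by
        intro h; rw [h] at hodd; exact Nat.not_odd_iff_even.mpr (by decide : Even 2) hodd
      obtain ⟨σ, hσ1, hσ2, hσc⟩ := exists_inverting_auto hr2 hc hF he.symm heven he0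
      obtain ⟨φ, hφ, hfix⟩ := hherm σ hσ1 hσ2 hσc
      exact ⟨σ, φ, hφ, le_similarityGroup (isSesq_of_unitary hφ) hφ.nondegenerate habs hN hfix⟩
    · right; left
      refine ⟨p, e, N, hp, hchar, hF, rfl, heodd, ⟨hst, habs, p, e, hpr, ⟨hp, hchar, hF, ?_, ?_⟩,
        Or.inl ⟨hodd, heodd, hcz, 1, le_rfl, hcard⟩⟩, hcl, fun g hg => ?_⟩
      · rw [hcz]; exact (hcast e).mp (pow_orderOf_eq_one _)
      · intro d hd hde hdvd
        rw [hcz] at hdvd
        exact pow_ne_one_of_lt_orderOf hd.ne' hde ((hcast d).mpr hdvd)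
      · rw [subgroupNormalizer, Subgroup.mem_normalizer_iff]
        intro x
        refine ⟨fun hx => hN.2 g hg x hx, fun hx => ?_⟩
        simpa [mul_assoc] using hN.2 g⁻¹ (G.inv_mem hg) _ hx
  · obtain ⟨hperf, hsimp, hna, hcent, habs⟩ := residual_of_minimal hn (clean_of_primitive hn hirr hprim hnf) hN hmin hcl
    by_cases hre : ∃ F₀ : Subfield F, F₀ ≠ ⊤ ∧ RealisableOver F₀ (matrixSet N)
    · obtain ⟨F₀, h0, h1⟩ := hre
      exact Or.inl (exists_subfield_group habs hN h0 h1)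
    by_cases hQ : ∃ Q : (ι → F) → F, IsNondegenerateQuadraticForm Q ∧ FixesQuadForm (matrixSet N) Q
    · obtain ⟨Q, hQ, hfix⟩ := hQ
      exact Or.inr (Or.inr (Or.inl ⟨odd_card_of_quadratic hodd hQ, Q, hQ,
        le_quadSimilarityGroup hn.two_le hQ habs hN hfix⟩))
    by_cases hU : ∃ (σ : F ≃+* F) (f : (ι → F) → (ι → F) → F), IsUnitaryForm σ f ∧ FixesForm (matrixSet N) f
    · obtain ⟨σ, f, hf, hfix⟩ := hU
      exact Or.inr (Or.inr (Or.inr (Or.inl ⟨σ, f, hf,
        le_similarityGroup (isSesq_of_unitary hf) hf.nondegenerate habs hN hfix⟩)))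
    right; right; right; right
    refine ⟨N, ⟨hN.1, fun h hh x hx => hN.2 h hh x hx, hperf, hsimp, hna, hcent, habs, fun F₀ h0 h1 => hre ⟨F₀, h0, h1⟩⟩,
      hQ, ?_, hU⟩
    rintro ⟨f, hf, -⟩
    exact not_symplectic_of_odd hodd f hf

/-- The maximal subgroups of `SL` in odd prime dimension at least five are geometric or residual. -/
theorem maximal_linear_prime {H : Subgroup (GL ι F)} (hn : (Fintype.card ι).Prime) (h5 : 5 ≤ Fintype.card ι)
    (hH : IsMaximalIn (specialLinear ι F) H) :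
    (∃ W : Submodule F (ι → F), W ≠ ⊥ ∧ W ≠ ⊤ ∧ H = subspaceStabilizer W ⊓ specialLinear ι F) ∨
    (5 ≤ Fintype.card F ∧ ∃ D : Fin (Fintype.card ι) → Submodule F (ι → F),
      IsMDecomposition 1 D ∧ H = decompositionStabilizer D ⊓ specialLinear ι F) ∨
    (∃ K : Subalgebra F (Matrix ι ι F), IsFieldSubalgebra (Fintype.card ι) K ∧
      H = subalgebraNormalizer K ⊓ specialLinear ι F) ∨
    (∃ (F₀ : Subfield F) (r : ℕ) (P : GL ι F), r.Prime ∧ Fintype.card F = Nat.card F₀ ^ r ∧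
      H = subfieldSubgroup F₀ P ⊓ specialLinear ι F) ∨
    (∃ (p e : ℕ) (R : Subgroup (GL ι F)), p.Prime ∧ CharP F p ∧ Fintype.card F = p ^ e ∧
      orderOf (p : ZMod (Fintype.card ι)) = e ∧ Odd e ∧ IsLinearSymplecticTypeData (Fintype.card ι) R ∧
      H = subgroupNormalizer R ⊓ specialLinear ι F) ∨
    (Odd (Fintype.card F) ∧ ∃ Q : (ι → F) → F, IsNondegenerateQuadraticForm Q ∧
      H = quadSimilarityGroup Q ⊓ specialLinear ι F) ∨
    (∃ (σ : F ≃+* F) (f : (ι → F) → (ι → F) → F), IsUnitaryForm σ f ∧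
      H = similarityGroup f ⊓ specialLinear ι F) ∨
    InLinearResidualClass H := by
  have hodd : Odd (Fintype.card ι) := hn.odd_of_ne_two (by omega)
  rcases structure_linear_prime hn hodd hH.1.le with ⟨W, h0, h1, h⟩ | ⟨hq, D, hD, h⟩ | ⟨K, hK, h⟩ |
    ⟨F₀, r, P, hr, hcard, h⟩ | ⟨p, e, R, hp, hc, hF, he, heo, hR, hcl, h⟩ | ⟨ho, Q, hQ, h⟩ | ⟨σ, f, hf, h⟩ | h
  · exact Or.inl ⟨W, h0, h1, eq_inf_of_le hH h (specialLinear_not_le_subspace h0 h1)⟩
  · exact Or.inr (Or.inl ⟨hq, D, hD, eq_inf_of_le hH h (specialLinear_not_le_lines hn.two_le hD)⟩)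
  · exact Or.inr (Or.inr (Or.inl ⟨K, hK, eq_inf_of_le hH h (specialLinear_not_le_field (by omega) hn.two_le hK)⟩))
  · refine Or.inr (Or.inr (Or.inr (Or.inl ⟨F₀, r, P, hr, hcard,
      eq_inf_of_le hH h (specialLinear_not_le_subfield hn.two_le ?_ P)⟩)))
    rintro rfl
    rw [Nat.card_congr Subfield.topEquiv.toEquiv, Nat.card_eq_fintype_card] at hcard
    have := Nat.pow_right_injective (Fintype.one_lt_card (α := F))
      (show Fintype.card F ^ 1 = Fintype.card F ^ r by rwa [pow_one])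
    exact hr.ne_one this.symm
  · exact Or.inr (Or.inr (Or.inr (Or.inr (Or.inl ⟨p, e, R, hp, hc, hF, he, heo, hR,
      eq_inf_of_le hH h (specialLinear_not_le_normalizer h5 hR.absIrred hcl)⟩))))
  · exact Or.inr (Or.inr (Or.inr (Or.inr (Or.inr (Or.inl ⟨ho, Q, hQ,
      eq_inf_of_le hH h (specialLinear_not_le_quadSimilarity (by omega) hQ)⟩)))))
  · exact Or.inr (Or.inr (Or.inr (Or.inr (Or.inr (Or.inr (Or.inl ⟨σ, f, hf,
      eq_inf_of_le hH h (specialLinear_not_le_similarity (by omega) (isSesq_of_unitary hf) hf.nondegenerate)⟩))))))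
  · exact Or.inr (Or.inr (Or.inr (Or.inr (Or.inr (Or.inr (Or.inr h))))))

lemma orderOf_eleven {p e : ℕ} (hp : p.Prime) (he : orderOf (p : ZMod 11) = e) (ho : Odd e) :
    (e = 1 ∧ p % 11 = 1) ∨ (e = 5 ∧ (p % 11 = 3 ∨ p % 11 = 4 ∨ p % 11 = 5 ∨ p % 11 = 9)) := by
  have key1 : ∀ x : ZMod 11, x ^ 1 = 1 → x.val = 1 := by decide
  have key5 : ∀ x : ZMod 11, x ^ 5 = 1 → x ≠ 1 → x.val = 3 ∨ x.val = 4 ∨ x.val = 5 ∨ x.val = 9 := by decide
  have : Fact (Nat.Prime 11) := ⟨by norm_num⟩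
  have hval : (p : ZMod 11).val = p % 11 := ZMod.val_natCast (n := 11) p
  by_cases h0 : (p : ZMod 11) = 0
  · exfalso
    rw [h0, orderOf_eq_zero_iff'.mpr (fun k hk => by rw [zero_pow hk.ne']; exact zero_ne_one)] at he
    subst he
    exact absurd ho (by decide)
  have h10 : (p : ZMod 11) ^ 10 = 1 := ZMod.pow_card_sub_one_eq_one h0
  have hd : e ∣ 10 := he ▸ orderOf_dvd_of_pow_eq_one h10
  have hpow : (p : ZMod 11) ^ e = 1 := he ▸ pow_orderOf_eq_one _
  have hd' : e ∈ Nat.divisors 10 := Nat.mem_divisors.mpr ⟨hd, by norm_num⟩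
  rw [show Nat.divisors 10 = {1, 2, 5, 10} by decide] at hd'
  simp only [Finset.mem_insert, Finset.mem_singleton] at hd'
  rcases hd' with rfl | rfl | rfl | rfl
  · exact Or.inl ⟨rfl, hval ▸ key1 _ hpow⟩
  · exact absurd ho (by decide)
  · refine Or.inr ⟨rfl, hval ▸ key5 _ hpow fun h => ?_⟩
    rw [h, orderOf_one] at he
    omega
  · exact absurd ho (by decide)

end CfsgLib.Aschbacher
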