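import Mathlib

/-!
Odd multiplicative orders modulo 5 and 7.
-/
set_option autoImplicit false

namespace CfsgLib.Aschbacher

lemma orderOf_seven {p e : ℕ} (he : orderOf (p : ZMod 7) = e) (ho : Odd e) :
    (e = 1 ∧ p % 7 = 1) ∨ (e = 3 ∧ (p % 7 = 2 ∨ p % 7 = 4)) := by
  have key1 : ∀ x : ZMod 7, x ^ 1 = 1 → x.val = 1 := by decide
  have key3 : ∀ x : ZMod 7, x ^ 3 = 1 → x ≠ 1 → x.val = 2 ∨ x.val = 4 := by decide
  have : Fact (Nat.Prime 7) := ⟨by norm_num⟩
  have hval : (p : ZMod 7).val = p % 7 := ZMod.val_natCast (n := 7) p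
  by_cases h0 : (p : ZMod 7) = 0
  · exfalso
    rw [h0, orderOf_eq_zero_iff'.mpr (fun k hk => by rw [zero_pow hk.ne']; exact zero_ne_one)] at he
    subst he
    exact absurd ho (by decide)
  have hd : e ∣ 6 := he ▸ orderOf_dvd_of_pow_eq_one (ZMod.pow_card_sub_one_eq_one h0)
  have hpow : (p : ZMod 7) ^ e = 1 := he ▸ pow_orderOf_eq_one _
  have hd' : e ∈ Nat.divisors 6 := Nat.mem_divisors.mpr ⟨hd, by norm_num⟩
  rw [show Nat.divisors 6 = {1, 2, 3, 6} by decide] at hd'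
  simp only [Finset.mem_insert, Finset.mem_singleton] at hd'
  rcases hd' with rfl | rfl | rfl | rfl
  · exact Or.inl ⟨rfl, hval ▸ key1 _ hpow⟩
  · exact absurd ho (by decide)
  · refine Or.inr ⟨rfl, hval ▸ key3 _ hpow fun h => ?_⟩
    rw [h, orderOf_one] at he
    omega
  · exact absurd ho (by decide)

lemma orderOf_five {p e : ℕ} (he : orderOf (p : ZMod 5) = e) (ho : Odd e) : e = 1 ∧ p % 5 = 1 := by
  have key1 : ∀ x : ZMod 5, x ^ 1 = 1 → x.val = 1 := by decide
  have : Fact (Nat.Prime 5) := ⟨by norm_num⟩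
  have hval : (p : ZMod 5).val = p % 5 := ZMod.val_natCast (n := 5) p
  by_cases h0 : (p : ZMod 5) = 0
  · exfalso
    rw [h0, orderOf_eq_zero_iff'.mpr (fun k hk => by rw [zero_pow hk.ne']; exact zero_ne_one)] at he
    subst he
    exact absurd ho (by decide)
  have hd : e ∣ 4 := he ▸ orderOf_dvd_of_pow_eq_one (ZMod.pow_card_sub_one_eq_one h0)
  have hpow : (p : ZMod 5) ^ e = 1 := he ▸ pow_orderOf_eq_one _
  have hd' : e ∈ Nat.divisors 4 := Nat.mem_divisors.mpr ⟨hd, by norm_num⟩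
  rw [show Nat.divisors 4 = {1, 2, 4} by decide] at hd'
  simp only [Finset.mem_insert, Finset.mem_singleton] at hd'
  rcases hd' with rfl | rfl | rfl
  · exact ⟨rfl, hval ▸ key1 _ hpow⟩
  · exact absurd ho (by decide)
  · exact absurd ho (by decide)

end CfsgLib.Aschbacher
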