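import Cfsg.Agent.Aschbacher.Basic

/-!
Aschbacher structure theorem in prime dimension: a minimal non-scalar normal subgroup of a primitive
group is nilpotent of class two modulo scalars, or is perfect and simple modulo scalars.
-/
set_option autoImplicit false
set_option maxHeartbeats 2000000

namespace CfsgLib.Aschbacher

open Matrix Cfsg.Geo CfsgLib.GeoClifford
open scoped MatrixGroups commutatorElement

variable {ι : Type} [Fintype ι] [DecidableEq ι] {F : Type*} [Field F]

lemma mulVec_injective_GL (g : GL ι F) : Function.Injective (Matrix.toLin' (g : Matrix ι ι F)) := by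
  intro v w hvw
  have := congrArg (fun u => ((g⁻¹ : GL ι F) : Matrix ι ι F) *ᵥ u) hvw
  simpa [mulVec_mulVec] using this

lemma mem_map_toLin {g : GL ι F} {W : Submodule F (ι → F)} {v : ι → F} :
    v ∈ W.map (Matrix.toLin' (g : Matrix ι ι F)) ↔ ((g⁻¹ : GL ι F) : Matrix ι ι F) *ᵥ v ∈ W := by
  rw [Submodule.mem_map]
  constructor
  · rintro ⟨w, hw, rfl⟩; simpa [mulVec_mulVec] using hw
  · exact fun h => ⟨_, h, by simp [mulVec_mulVec]⟩

/-- In prime dimension a normal subgroup of an irreducible group has a common eigenvector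
unless it is irreducible. -/
lemma exists_eigenvector_of_not_irreducible {G N : Subgroup (GL ι F)} (hn : (Fintype.card ι).Prime)
    (hirr : ActsIrreducibly (matrixSet G)) (hN : NormSub G N) :
    (¬ ActsIrreducibly (matrixSet N)) →
      ∃ v : ι → F, v ≠ 0 ∧ ∀ a ∈ N, ∃ c : F, (a : Matrix ι ι F) *ᵥ v = c • v := by
  classical
  intro hNirr
  have : Nonempty ι := Fintype.card_pos_iff.mp hn.pos
  -- an invariant subspace of least positive dimension
  let Inv : Submodule F (ι → F) → Prop := fun W => ∀ a ∈ N, ∀ v ∈ W, (a : Matrix ι ι F) *ᵥ v ∈ W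
  have hex : ∃ d, ∃ W : Submodule F (ι → F), Inv W ∧ W ≠ ⊥ ∧ Module.finrank F W = d :=
    ⟨_, ⊤, fun _ _ _ _ => Submodule.mem_top, top_ne_bot, rfl⟩
  obtain ⟨S, hS, hS0, hSd⟩ := Nat.find_spec hex
  set d := Nat.find hex with hd
  have hdmin : ∀ W, Inv W → W ≠ ⊥ → d ≤ Module.finrank F W :=
    fun W hW h0 => Nat.find_min' hex ⟨W, hW, h0, rfl⟩
  have hdn : d < Fintype.card ι := by
    obtain ⟨W, h0, h1, hW⟩ : ∃ W : Submodule F (ι → F), W ≠ ⊥ ∧ W ≠ ⊤ ∧ N ≤ subspaceStabilizer W :=
      exists_subspace_of_not_irreducible hNirr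
    refine lt_of_le_of_lt (hdmin W (fun a ha v hv => CfsgLib.Geo.mem_subspaceStabilizer.mp (hW ha) v hv) h0) ?_
    rw [← Module.finrank_fintype_fun_eq_card F]
    exact Submodule.finrank_lt h1
  let T : GL ι F → Submodule F (ι → F) := fun g => S.map (Matrix.toLin' (g : Matrix ι ι F))
  have hT : ∀ g ∈ G, Inv (T g) := by
    intro g hg a ha v hv
    simp only [T, mem_map_toLin] at hv ⊢
    have h1 : g⁻¹ * a * g ∈ N := by simpa using hN.2 g⁻¹ (G.inv_mem hg) a ha
    have := hS _ h1 _ hv
    simpa [mulVec_mulVec, mul_assoc] using this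
  have hTd : ∀ g, Module.finrank F (T g) = d := fun g => by
    rw [← hSd]; exact (Submodule.equivMapOfInjective _ (mulVec_injective_GL g) S).finrank_eq.symm
  -- an invariant subspace of largest dimension divisible by `d`
  let P : ℕ → Prop := fun k => ∃ U : Submodule F (ι → F), Inv U ∧ d ∣ k ∧ Module.finrank F U = k
  have hP0 : P 0 := ⟨⊥, fun a _ v hv => by simp [(Submodule.mem_bot F).mp hv], dvd_zero _, finrank_bot F _⟩
  obtain ⟨U, hU, hdk, hUk⟩ := Nat.findGreatest_spec (P := P) (Nat.zero_le (Fintype.card ι)) hP0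
  have hUtop : U = ⊤ := by
    by_contra hne
    obtain ⟨g, hg, hgU⟩ : ∃ g ∈ G, ¬ T g ≤ U := by
      by_contra hcon
      push Not at hcon
      have htop := eq_top_of_invariant hirr (⨆ g : G, T g.1) ?_ ?_
      · exact hne (eq_top_iff.mpr (htop ▸ iSup_le fun g => hcon g.1 g.2))
      · intro h0
        have := le_iSup (fun g : G => T g.1) ⟨1, G.one_mem⟩
        rw [h0, le_bot_iff] at this
        simp [T, hS0] at this
      · intro g hg v hv
        induction hv using Submodule.iSup_induction' with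
        | mem i w hw =>
          refine Submodule.mem_iSup_of_mem ⟨g * i.1, G.mul_mem hg i.2⟩ ?_
          simp only [T, mem_map_toLin] at hw ⊢
          simpa [mulVec_mulVec, mul_assoc] using hw
        | zero => simp
        | add x y _ _ hx hy => rw [mulVec_add]; exact Submodule.add_mem _ hx hy
    have hinf : U ⊓ T g = ⊥ := by
      by_contra h0
      have h1 : d ≤ Module.finrank F (U ⊓ T g : Submodule F (ι → F)) :=
        hdmin _ (fun a ha v hv => ⟨hU a ha v hv.1, hT g hg a ha v hv.2⟩) h0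
      have h2 := Submodule.eq_of_le_of_finrank_le (inf_le_right : U ⊓ T g ≤ T g) (by rw [hTd]; exact h1)
      exact hgU (h2 ▸ inf_le_left)
    have hsum := Submodule.finrank_sup_add_finrank_inf_eq U (T g)
    rw [hinf, finrank_bot, add_zero, hUk, hTd] at hsum
    have hle : Nat.findGreatest P (Fintype.card ι) + d ≤ Fintype.card ι := by
      rw [← hsum, ← Module.finrank_fintype_fun_eq_card F]
      exact Submodule.finrank_le _
    have hk : P (Nat.findGreatest P (Fintype.card ι) + d) := by
      refine ⟨U ⊔ T g, ?_, dvd_add hdk dvd_rfl, hsum⟩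
      intro a ha v hv
      obtain ⟨u, hu, w, hw, rfl⟩ := Submodule.mem_sup.mp hv
      rw [mulVec_add]
      exact Submodule.add_mem_sup (hU a ha u hu) (hT g hg a ha w hw)
    have := Nat.le_findGreatest hle hk
    have hd0 : 0 < d := hSd ▸ Nat.pos_of_ne_zero (fun h => hS0 (Submodule.finrank_eq_zero.mp h))
    omega
  have hd1 : d = 1 := by
    rw [hUtop, finrank_top, Module.finrank_fintype_fun_eq_card] at hUk
    rw [← hUk] at hdk
    exact (hn.eq_one_or_self_of_dvd d hdk).resolve_right hdn.ne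
  obtain ⟨v, hv, hv0⟩ := S.ne_bot_iff.mp hS0
  refine ⟨v, hv0, fun a ha => ?_⟩
  obtain ⟨c, hc⟩ := (finrank_eq_one_iff_of_nonzero' (⟨v, hv⟩ : S)
    (fun h => hv0 (congrArg Subtype.val h))).mp (by rw [hSd]; exact hd1) ⟨_, hS a ha v hv⟩
  exact ⟨c, (congrArg Subtype.val hc).symm⟩

/-- In prime dimension a normal subgroup of an irreducible group is abelian or irreducible. -/
lemma comm_or_irreducible {G N : Subgroup (GL ι F)} (hn : (Fintype.card ι).Prime)
    (hirr : ActsIrreducibly (matrixSet G)) (hN : NormSub G N) :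
    (∀ a ∈ N, ∀ b ∈ N, a * b = b * a) ∨ ActsIrreducibly (matrixSet N) := by
  classical
  by_cases hNirr : ActsIrreducibly (matrixSet N)
  · exact Or.inr hNirr
  left
  obtain ⟨v, hv0, hv⟩ := exists_eigenvector_of_not_irreducible hn hirr hN hNirr
  choose χ hχ using hv
  let T : GL ι F → Submodule F (ι → F) := fun g => F ∙ ((g : Matrix ι ι F) *ᵥ v)
  intro a ha b hb
  have hline : ∀ g ∈ G, ∀ w ∈ T g, (a : Matrix ι ι F) *ᵥ ((b : Matrix ι ι F) *ᵥ w) =
      (b : Matrix ι ι F) *ᵥ ((a : Matrix ι ι F) *ᵥ w) := by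
    intro g hg w hw
    obtain ⟨d, rfl⟩ := Submodule.mem_span_singleton.mp hw
    have key : ∀ x, x ∈ N → ∃ c : F, (x : Matrix ι ι F) *ᵥ ((g : Matrix ι ι F) *ᵥ v) = c • ((g : Matrix ι ι F) *ᵥ v) := by
      intro x hx
      have h := congrArg (fun u => (g : Matrix ι ι F) *ᵥ u)
        (hχ _ (show g⁻¹ * x * g ∈ N by simpa using hN.2 g⁻¹ (G.inv_mem hg) x hx))
      exact ⟨χ _ _, by simpa [mulVec_mulVec, mulVec_smul, mul_assoc] using h⟩
    obtain ⟨ca, hca⟩ := key a ha
    obtain ⟨cb, hcb⟩ := key b hb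
    simp only [mulVec_smul, hca, hcb, smul_smul, mul_comm, mul_left_comm]
  have htop := eq_top_of_invariant hirr (⨆ g : G, T g.1) (fun h0 => by
      have := le_iSup (fun g : G => T g.1) ⟨1, G.one_mem⟩
      rw [h0, le_bot_iff] at this
      simp [T, hv0] at this)
    (fun g hg w hw => by
      induction hw using Submodule.iSup_induction' with
      | mem i w hw =>
        refine Submodule.mem_iSup_of_mem ⟨g * i.1, G.mul_mem hg i.2⟩ ?_
        obtain ⟨d, rfl⟩ := Submodule.mem_span_singleton.mp hw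
        refine Submodule.mem_span_singleton.mpr ⟨d, ?_⟩
        simp [mulVec_mulVec, mulVec_smul]
      | zero => simp
      | add x y _ _ hx hy => rw [mulVec_add]; exact Submodule.add_mem _ hx hy)
  apply Units.ext
  apply Matrix.toLin'.injective
  apply LinearMap.ext
  intro w
  have hw : w ∈ ⨆ g : G, T g.1 := htop ▸ Submodule.mem_top
  induction hw using Submodule.iSup_induction' with
  | mem i w hw =>
    simp only [Units.val_mul, Matrix.toLin'_apply, ← mulVec_mulVec]
    exact hline i.1 i.2 w hw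
  | zero => simp
  | add x y _ _ hx hy => rw [map_add, map_add, hx, hy]

variable [Fintype F]

/-- An abelian normal subgroup of a primitive group of prime dimension is scalar, or there is a field
of matrices of that degree normalised by the group. -/
lemma scalar_or_field_of_comm {G A : Subgroup (GL ι F)} (hn : (Fintype.card ι).Prime)
    (hirr : ActsIrreducibly (matrixSet G)) (hprim : IsPrimitiveLin G) (hA : NormSub G A)
    (hAc : ∀ a ∈ A, ∀ b ∈ A, a * b = b * a) :
    A ≤ scalars ι F ∨ ∃ K : Subalgebra F (Matrix ι ι F),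
      IsFieldSubalgebra (Fintype.card ι) K ∧ G ≤ subalgebraNormalizer K := by
  have : Nonempty ι := Fintype.card_pos_iff.mp hn.pos
  have hK : IsFieldSubalgebra (Module.finrank F (Algebra.adjoin F (matrixSet A)))
      (Algebra.adjoin F (matrixSet A)) :=
    ⟨adjoin_comm hAc, fun x hx hx0 =>
      exists_inv_of_conjStable hirr hprim (adjoin_comm hAc) (conjStable_adjoin hA) hx hx0, rfl⟩
  rcases hn.eq_one_or_self_of_dvd _ (fieldSubalgebra_dvd hK) with h | h
  · left
    intro a ha
    obtain ⟨c, hc⟩ := eq_bot_iff_scalar.mp (fieldSubalgebra_eq_bot h) _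
      (Algebra.subset_adjoin (coe_mem_matrixSet ha))
    have hc0 : c ≠ 0 := by
      intro h0
      rw [h0, zero_smul] at hc
      exact a.ne_zero hc
    exact (mem_scalars_iff a).mpr ⟨Units.mk0 c hc0, hc⟩
  · exact Or.inr ⟨_, ⟨hK.comm, hK.inv, h⟩, le_subalgebraNormalizer (conjStable_adjoin hA)⟩

omit [Fintype F] in
lemma scalars_comm {a : GL ι F} (ha : a ∈ scalars ι F) (g : GL ι F) : a * g = g * a := by
  obtain ⟨c, hc⟩ := (mem_scalars_iff a).mp ha
  exact Units.ext (by rw [Units.val_mul, Units.val_mul, hc, smul_mul_assoc, one_mul, mul_smul_comm, mul_one])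

omit [Fintype F] in
/-- An element centralising a perfect group modulo scalars centralises it. -/
lemma commute_of_perfect {N : Subgroup (GL ι F)} (hperf : ⁅N, N⁆ = N) {x : GL ι F}
    (h : ∀ y ∈ N, ⁅x, y⁆ ∈ scalars ι F) : ∀ y ∈ N, x * y = y * x := by
  let P : Subgroup (GL ι F) :=
    { carrier := {y | y ∈ N ∧ x * y = y * x}
      one_mem' := ⟨N.one_mem, by simp⟩
      mul_mem' := fun {a b} ha hb =>
        ⟨N.mul_mem ha.1 hb.1, (Commute.mul_right (a := x) ha.2 hb.2).eq⟩
      inv_mem' := fun {a} ha => ⟨N.inv_mem ha.1, (Commute.inv_right (a := x) ha.2).eq⟩ }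
  have hNP : ⁅N, N⁆ ≤ P := by
    rw [Subgroup.commutator_le]
    intro a ha b hb
    refine ⟨Subgroup.commutator_le_self N (Subgroup.commutator_mem_commutator ha hb), ?_⟩
    have e : ∀ y ∈ N, x * y * x⁻¹ = ⁅x, y⁆ * y := fun y _ => by rw [commutatorElement_def]; group
    have hz : x * ⁅a, b⁆ * x⁻¹ = ⁅a, b⁆ := by
      calc x * ⁅a, b⁆ * x⁻¹ = ⁅x * a * x⁻¹, x * b * x⁻¹⁆ := by
            simp only [commutatorElement_def]; group
        _ = ⁅⁅x, a⁆ * a, ⁅x, b⁆ * b⁆ := by rw [e a ha, e b hb]
        _ = ⁅⁅x, a⁆, ⁅x, b⁆⁆ * ⁅a, b⁆ :=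
          commutator_mul_mul (scalars_comm (h b hb) a).symm (scalars_comm (h a ha) b).symm
            (scalars_comm (h a ha) a).symm (scalars_comm (h b hb) b).symm
        _ = ⁅a, b⁆ := by
          rw [commutatorElement_eq_one_iff_mul_comm.mpr (scalars_comm (h a ha) _), one_mul]
    exact mul_inv_eq_iff_eq_mul.mp hz
  exact fun y hy => ((hperf ▸ hNP) hy).2

/-- The hypothesis that no extension field or line decomposition occurs. -/
def NoField (G : Subgroup (GL ι F)) : Prop :=
  ¬ ∃ K : Subalgebra F (Matrix ι ι F), IsFieldSubalgebra (Fintype.card ι) K ∧ G ≤ subalgebraNormalizer K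

lemma absIrred_of_normal {G N : Subgroup (GL ι F)} (hn : (Fintype.card ι).Prime)
    (hirr : ActsIrreducibly (matrixSet G)) (hprim : IsPrimitiveLin G) (hnf : NoField G)
    (hN : NormSub G N) (hNs : ¬ N ≤ scalars ι F) : ActsAbsolutelyIrreducibly (matrixSet N) := by
  rcases comm_or_irreducible hn hirr hN with h | h
  · rcases scalar_or_field_of_comm hn hirr hprim hN h with h' | h'
    · exact absurd h' hNs
    · exact absurd h' hnf
  · rcases absIrred_or_field_prime hn hN h with h' | ⟨K, hK, -, hG⟩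
    · exact h'
    · exact absurd ⟨K, hK, hG⟩ hnf

omit [Fintype ι] [DecidableEq ι] [Field F] [Fintype F] in
lemma pairwise_comm_iSup {M : Type*} [Group M] {κ : Type*} (A : κ → Subgroup M)
    (h : ∀ i j, ∀ a ∈ A i, ∀ b ∈ A j, a * b = b * a) :
    ∀ a ∈ ⨆ i, A i, ∀ b ∈ ⨆ i, A i, a * b = b * a := by
  have h1 : ∀ i, A i ≤ Subgroup.centralizer ((⨆ j, A j : Subgroup M) : Set M) := by
    intro i a ha
    rw [Subgroup.mem_centralizer_iff]
    intro b hb
    have h2 : (⨆ j, A j) ≤ Subgroup.centralizer {a} := iSup_le fun j c hc =>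
      Subgroup.mem_centralizer_iff.mpr (fun y hy => by
        rw [Set.mem_singleton_iff] at hy
        rw [hy]
        exact h i j a ha c hc)
    exact (Subgroup.mem_centralizer_iff.mp (h2 hb) a rfl).symm
  intro a ha b hb
  exact (Subgroup.mem_centralizer_iff.mp (iSup_le h1 ha) b hb).symm

/-- Every non-scalar normal subgroup is absolutely irreducible. -/
def Clean (G : Subgroup (GL ι F)) : Prop :=
  ∀ N, NormSub G N → ¬ N ≤ scalars ι F → ActsAbsolutelyIrreducibly (matrixSet N)

lemma clean_of_primitive {G : Subgroup (GL ι F)} (hn : (Fintype.card ι).Prime)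
    (hirr : ActsIrreducibly (matrixSet G)) (hprim : IsPrimitiveLin G) (hnf : NoField G) : Clean G :=
  fun _ hN hNs => absIrred_of_normal hn hirr hprim hnf hN hNs

/-- A minimal non-scalar normal subgroup that is not nilpotent of class two modulo scalars is the
residual core. -/
theorem residual_of_minimal {G N : Subgroup (GL ι F)} (hn : (Fintype.card ι).Prime)
    (hclean : Clean G)
    (hN : NormSub G N)
    (hmin : ∀ M, NormSub G M → M ≤ N → ¬ M ≤ scalars ι F → M = N)
    (hcl : ¬ ⁅N, N⁆ ≤ scalars ι F) :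
    ⁅N, N⁆ = N ∧ IsSimpleGroup (N ⧸ (scalars ι F).subgroupOf N) ∧
      ¬ IsMulCommutative (N ⧸ (scalars ι F).subgroupOf N) ∧
      (∀ h ∈ G, (∀ x ∈ N, h * x * h⁻¹ * x⁻¹ ∈ scalars ι F) → h ∈ scalars ι F) ∧
      ActsAbsolutelyIrreducibly (matrixSet N) := by
  classical
  have : Nonempty ι := Fintype.card_pos_iff.mp hn.pos
  have hperf : ⁅N, N⁆ = N := by
    refine hmin _ ⟨(Subgroup.commutator_le_self N).trans hN.1, ?_⟩ (Subgroup.commutator_le_self N) hcl
    intro g hg a ha
    have : (⁅N, N⁆).map (MulAut.conj g).toMonoidHom ≤ ⁅N, N⁆ := by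
      rw [Subgroup.map_commutator]
      refine Subgroup.commutator_mono ?_ ?_ <;>
      · rintro _ ⟨x, hx, rfl⟩; exact hN.2 g hg x hx
    exact this ⟨a, ha, rfl⟩
  have hNs : ¬ N ≤ scalars ι F := fun h => hcl ((Subgroup.commutator_le_self N).trans h)
  have habs := hclean _ hN hNs
  -- normal subgroups of `N`
  have key : ∀ L, NormSub N L → ¬ L ≤ scalars ι F → L = N := by
    intro L0 hL0 hL0s
    obtain ⟨L, hLle, hLmin⟩ := exists_minimal_le_of_wellFoundedLT
      (fun L : Subgroup (GL ι F) => NormSub N L ∧ ¬ L ≤ scalars ι F) L0 ⟨hL0, hL0s⟩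
    obtain ⟨hL, hLs⟩ := hLmin.prop
    suffices hLN : L = N from le_antisymm hL0.1 (hLN ▸ hLle)
    let A : G → Subgroup (GL ι F) := fun g => L.map (MulAut.conj g.1).toMonoidHom
    have hA : ∀ g, NormSub N (A g) := by
      intro g
      refine ⟨?_, ?_⟩
      · rintro _ ⟨x, hx, rfl⟩; exact hN.2 _ g.2 x (hL.1 hx)
      · rintro m hm _ ⟨x, hx, rfl⟩
        refine ⟨(g.1⁻¹ * m * g.1) * x * (g.1⁻¹ * m * g.1)⁻¹,
          hL.2 _ (by simpa using hN.2 _ (G.inv_mem g.2) m hm) x hx, by simp [mul_assoc]⟩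
    have hAs : ∀ g, ¬ A g ≤ scalars ι F := by
      intro g h
      refine hLs fun x hx => ?_
      have h1 := h ⟨x, hx, rfl⟩
      simpa [mul_assoc] using (scalars_normal (ι := ι) (F := F)).conj_mem _ h1 g.1⁻¹
    have hAmin : ∀ g (M : Subgroup (GL ι F)), NormSub N M → M ≤ A g → ¬ M ≤ scalars ι F → M = A g := by
      intro g M hM hMA hMs
      have hback : M.map (MulAut.conj g.1⁻¹).toMonoidHom = L := by
        have hle : M.map (MulAut.conj g.1⁻¹).toMonoidHom ≤ L := by
          rintro _ ⟨x, hx, rfl⟩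
          obtain ⟨y, hy, rfl⟩ := hMA hx
          simpa [mul_assoc] using hy
        refine le_antisymm hle (hLmin.2 ⟨⟨hle.trans hL.1, ?_⟩, ?_⟩ hle)
        · rintro m hm _ ⟨x, hx, rfl⟩
          refine ⟨(g.1 * m * g.1⁻¹) * x * (g.1 * m * g.1⁻¹)⁻¹,
            hM.2 _ (hN.2 _ g.2 m hm) x hx, by simp [mul_assoc]⟩
        · intro h
          refine hMs fun x hx => ?_
          have h1 := h ⟨x, hx, rfl⟩
          simpa [mul_assoc] using (scalars_normal (ι := ι) (F := F)).conj_mem _ h1 g.1
      refine le_antisymm hMA ?_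
      rintro _ ⟨y, hy, rfl⟩
      obtain ⟨x, hx, rfl⟩ := hback.ge hy
      simpa [mul_assoc] using hx
    have hpair : ∀ g g', ¬ ⁅A g, A g'⁆ ≤ scalars ι F → A g = A g' := by
      intro g g' h
      have hcle : ⁅A g, A g'⁆ ≤ A g ⊓ A g' := by
        rw [Subgroup.commutator_le]
        intro a ha b hb
        rw [commutatorElement_def]
        refine ⟨?_, ?_⟩
        · have h1 := (A g).mul_mem ha ((hA g).2 b ((hA g').1 hb) a⁻¹ ((A g).inv_mem ha))
          simpa [mul_assoc] using h1
        · exact (A g').mul_mem ((hA g').2 a ((hA g).1 ha) b hb) ((A g').inv_mem hb)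
      have hM : NormSub N (A g ⊓ A g') :=
        ⟨inf_le_left.trans (hA g).1, fun m hm x hx => ⟨(hA g).2 m hm x hx.1, (hA g').2 m hm x hx.2⟩⟩
      have hMs : ¬ A g ⊓ A g' ≤ scalars ι F := fun h' => h (hcle.trans h')
      exact (hAmin g _ hM inf_le_left hMs).symm.trans (hAmin g' _ hM inf_le_right hMs)
    have hgen : (⨆ g, A g) = N := by
      refine hmin _ ⟨iSup_le fun g => (hA g).1.trans hN.1, ?_⟩ (iSup_le fun g => (hA g).1) ?_
      · intro h hh x hx
        have hle : (⨆ g, A g).map (MulAut.conj h).toMonoidHom ≤ ⨆ g, A g := by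
          rw [Subgroup.map_iSup]
          refine iSup_le fun g => le_trans ?_ (le_iSup A ⟨h * g.1, G.mul_mem hh g.2⟩)
          rintro _ ⟨_, ⟨y, hy, rfl⟩, rfl⟩
          exact ⟨y, hy, by simp [mul_assoc]⟩
        exact hle ⟨x, hx, rfl⟩
      · exact fun h => hAs ⟨1, G.one_mem⟩ ((le_iSup A _).trans h)
    -- some commutator of conjugates is not scalar
    obtain ⟨g0, hg0⟩ : ∃ g, ¬ ⁅A g, A g⁆ ≤ scalars ι F := by
      by_contra hcon
      push Not at hcon
      have hcomm : ∀ g g', ⁅A g, A g'⁆ ≤ scalars ι F := by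
        intro g g'
        by_contra h
        exact h (hpair g g' h ▸ hcon g')
      let π := QuotientGroup.mk' (scalars ι F)
      have hab := pairwise_comm_iSup (fun g => (A g).map π) (by
        rintro g g' _ ⟨a, ha, rfl⟩ _ ⟨b, hb, rfl⟩
        have hs := hcomm g g' (Subgroup.commutator_mem_commutator ha hb)
        have h1 : π ⁅a, b⁆ = 1 := (QuotientGroup.eq_one_iff _).mpr hs
        rw [map_commutatorElement] at h1
        exact commutatorElement_eq_one_iff_mul_comm.mp h1)
      refine hcl ?_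
      rw [Subgroup.commutator_le]
      intro a ha b hb
      refine (QuotientGroup.eq_one_iff _).mp ?_
      show π ⁅a, b⁆ = 1
      rw [map_commutatorElement, commutatorElement_eq_one_iff_mul_comm]
      rw [← Subgroup.map_iSup, hgen] at hab
      exact hab _ ⟨a, ha, rfl⟩ _ ⟨b, hb, rfl⟩
    have hLperf : ⁅A g0, A g0⁆ = A g0 := by
      refine hAmin g0 _ ⟨(Subgroup.commutator_le_self _).trans (hA g0).1, ?_⟩
        (Subgroup.commutator_le_self _) hg0
      intro m hm x hx
      have : (⁅A g0, A g0⁆).map (MulAut.conj m).toMonoidHom ≤ ⁅A g0, A g0⁆ := by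
        rw [Subgroup.map_commutator]
        refine Subgroup.commutator_mono ?_ ?_ <;>
        · rintro _ ⟨y, hy, rfl⟩; exact (hA g0).2 m hm y hy
      exact this ⟨x, hx, rfl⟩
    have hnc : ¬ ∀ a ∈ A g0, ∀ b ∈ A g0, a * b = b * a := by
      intro h
      refine hg0 ((Subgroup.commutator_le).mpr fun a ha b hb => ?_)
      rw [commutatorElement_eq_one_iff_mul_comm.mpr (h a ha b hb)]
      exact (scalars ι F).one_mem
    have hirrA := (comm_or_irreducible hn habs.1 (hA g0)).resolve_left hnc
    -- every conjugate equals `A g0`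
    have hall : ∀ g, A g = A g0 := by
      intro g
      by_contra hne
      have hs : ⁅A g, A g0⁆ ≤ scalars ι F := by
        by_contra h
        exact hne (hpair g g0 h)
      have hcm : ∀ x ∈ A g, (x : Matrix ι ι F) ∈ commutant (A g0) := by
        intro x hx
        refine mem_commutant.mpr fun y hy => ?_
        have := commute_of_perfect hLperf (fun y hy => hs (Subgroup.commutator_mem_commutator hx hy)) y hy
        simpa using (congrArg Units.val this).symm
      have hgc : ∀ a ∈ A g, ∀ b ∈ A g, a * b = b * a := fun a ha b hb =>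
        Units.ext (commutant_comm hirrA _ (hcm a ha) _ (hcm b hb))
      apply hnc
      intro a ha b hb
      obtain ⟨x, hx, rfl⟩ := ha
      obtain ⟨y, hy, rfl⟩ := hb
      have := hgc _ ⟨x, hx, rfl⟩ _ ⟨y, hy, rfl⟩
      rw [← map_mul, ← map_mul] at this ⊢
      rw [(MulAut.conj g.1).injective this]
    have hone : A ⟨1, G.one_mem⟩ = L := by
      simp only [A, map_one]
      exact Subgroup.map_id L
    rw [← hone, hall, ← hgen]
    exact le_antisymm (le_iSup A g0) (iSup_le fun g => (hall g).le)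
  refine ⟨hperf, ?_, ?_, ?_, habs⟩
  · have : Nontrivial (N ⧸ (scalars ι F).subgroupOf N) :=
      QuotientGroup.nontrivial_iff.mpr (fun h => hNs (Subgroup.subgroupOf_eq_top.mp h))
    refine ⟨fun B hB => ?_⟩
    let π := QuotientGroup.mk' ((scalars ι F).subgroupOf N)
    by_cases hs : (B.comap π).map N.subtype ≤ scalars ι F
    · left
      rw [eq_bot_iff]
      intro b hb
      obtain ⟨x, rfl⟩ := QuotientGroup.mk'_surjective _ b
      exact Subgroup.mem_bot.mpr ((QuotientGroup.eq_one_iff _).mpr (hs ⟨x, hb, rfl⟩))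
    · right
      have hL : NormSub N ((B.comap π).map N.subtype) := by
        refine ⟨Subgroup.map_subtype_le _, ?_⟩
        rintro m hm _ ⟨x, hx, rfl⟩
        have hmem := (hB.comap π).conj_mem x hx (⟨m, hm⟩ : N)
        exact Subgroup.mem_map.mpr ⟨_, hmem, by simp only [map_mul, map_inv, Subgroup.coe_subtype]⟩
      have he := key _ hL hs
      rw [eq_top_iff]
      intro b _
      obtain ⟨x, rfl⟩ := QuotientGroup.mk'_surjective _ b
      obtain ⟨y, hy, hyx⟩ := he.ge x.2
      exact (Subtype.ext hyx : y = x) ▸ hy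
  · intro hcomm
    refine hcl ((Subgroup.commutator_le).mpr fun a ha b hb => ?_)
    have h1 : (QuotientGroup.mk' ((scalars ι F).subgroupOf N)) ⁅(⟨a, ha⟩ : N), ⟨b, hb⟩⁆ = 1 := by
      rw [map_commutatorElement, commutatorElement_eq_one_iff_mul_comm]
      exact hcomm.is_comm.comm _ _
    exact Subgroup.mem_subgroupOf.mp ((QuotientGroup.eq_one_iff _).mp h1)
  · intro h hh hx
    have hc := commute_of_perfect hperf (fun y hy => hx y hy)
    obtain ⟨c, hc'⟩ := habs.2 (h : Matrix ι ι F) (forall_matrixSet.mpr fun y hy => by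
      simpa using congrArg Units.val (hc y hy))
    have hc0 : c ≠ 0 := by
      intro h0
      rw [h0, zero_smul] at hc'
      exact h.ne_zero hc'
    exact (mem_scalars_iff h).mpr ⟨Units.mk0 c hc0, hc'⟩

end CfsgLib.Aschbacher
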